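import Cfsg.Agent.Lib.J4Kp.Bound
import Cfsg.Agent.Lib.J4G.Export

/-!
# The presented J4 is simple of the order of J4
-/

set_option autoImplicit false

namespace CfsgLib.J4Kp

open CfsgLib.J4P

/-- The representation is injective. -/
theorem rho_injective : Function.Injective rho := by
  haveI := card_J4.1
  obtain ⟨hc, -, -⟩ := J4G.of_index_le J4Index.index_ne_zero J4Index.index_le
  rw [← J4G.rho_range] at hc
  have hcard : Nat.card Cfsg.Spor.J4 = Nat.card rho.range :=
    le_antisymm (card_J4.2.trans_eq hc.symm)
      (Nat.card_le_card_of_surjective _ (MonoidHom.rangeRestrict_surjective rho))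
  have hb : Function.Bijective rho.rangeRestrict :=
    (Nat.bijective_iff_surjective_and_card _).2 ⟨MonoidHom.rangeRestrict_surjective rho, hcard⟩
  exact MonoidHom.rangeRestrict_injective_iff.1 hb.1

/-- The presented group is the matrix group. -/
noncomputable def equivGJ : Cfsg.Spor.J4 ≃* J4G.gJ :=
  (MonoidHom.ofInjective rho_injective).trans (MulEquiv.subgroupCongr J4G.rho_range)

theorem card_eq : Nat.card Cfsg.Spor.J4 = 86775571046077562880 := by
  rw [Nat.card_congr equivGJ.toEquiv]
  exact (J4G.of_index_le J4Index.index_ne_zero J4Index.index_le).1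

theorem isSimple : IsSimpleGroup Cfsg.Spor.J4 := by
  have := (J4G.of_index_le J4Index.index_ne_zero J4Index.index_le).2.2
  have : Nontrivial Cfsg.Spor.J4 := equivGJ.toEquiv.nontrivial
  exact IsSimpleGroup.isSimpleGroup_of_surjective equivGJ.symm.toMonoidHom equivGJ.symm.surjective

theorem isJ4 : Cfsg.IsJ4 Cfsg.Spor.J4 := ⟨isSimple, card_eq⟩

end CfsgLib.J4Kp
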