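import Mathlib.GroupTheory.Index
import Mathlib.Tactic.Group

/-!
# Products of commuting involutions indexed by bits
-/

set_option autoImplicit false

namespace CfsgLib.J4Kp

variable {M : Type*} [Group M]

/-- Three involutions with product relation commute in pairs. -/
theorem triple {a b c : M} (ha : a * a = 1) (hb : b * b = 1) (hc : c * c = 1) (h : a * b = c) :
    b * a = c ∧ a * c = b ∧ c * a = b ∧ b * c = a ∧ c * b = a := by
  have h' : b * a = c := by
    have h1 : (a * b)⁻¹ = c := by rw [h]; exact inv_eq_of_mul_eq_one_right hc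
    rwa [mul_inv_rev, inv_eq_of_mul_eq_one_right ha, inv_eq_of_mul_eq_one_right hb] at h1
  refine ⟨h', ?_, ?_, ?_, ?_⟩
  · rw [← h, ← mul_assoc, ha, one_mul]
  · rw [← h', mul_assoc, ha, mul_one]
  · rw [← h', ← mul_assoc, hb, one_mul]
  · rw [← h, mul_assoc, hb, mul_one]

/-- The product of the listed elements at the bits of a number. -/
def bitProd : List M → ℕ → M
  | [], _ => 1
  | b :: l, u => (if u.testBit 0 then b else 1) * bitProd l (u / 2)

theorem bitProd_zero : ∀ l : List M, bitProd l 0 = 1
  | [] => rfl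
  | b :: l => by simp [bitProd, bitProd_zero l]

theorem bitProd_commute {g : M} : ∀ {l : List M}, (∀ b ∈ l, Commute g b) → ∀ u, Commute g (bitProd l u)
  | [], _, _ => Commute.one_right _
  | b :: l, h, u => by
    rw [bitProd]
    refine Commute.mul_right ?_ (bitProd_commute (fun c hc => h c (List.mem_cons_of_mem _ hc)) _)
    split_ifs
    · exact h b List.mem_cons_self
    · exact Commute.one_right _

theorem bitProd_xor : ∀ {l : List M}, (∀ a ∈ l, a * a = 1) → (∀ a ∈ l, ∀ b ∈ l, Commute a b) →
    ∀ u w, bitProd l (u ^^^ w) = bitProd l u * bitProd l w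
  | [], _, _, _, _ => (mul_one 1).symm
  | b :: l, hs, hc, u, w => by
    have hl := bitProd_xor (fun a ha => hs a (List.mem_cons_of_mem _ ha))
      (fun a ha c h2 => hc a (List.mem_cons_of_mem _ ha) c (List.mem_cons_of_mem _ h2)) (u / 2) (w / 2)
    have hdiv : (u ^^^ w) / 2 = u / 2 ^^^ w / 2 := Nat.xor_div_two
    have hb : ∀ k, Commute b (bitProd l k) :=
      bitProd_commute fun c h2 => hc b List.mem_cons_self c (List.mem_cons_of_mem _ h2)
    have hb2 := hs b List.mem_cons_self
    simp only [bitProd, Nat.testBit_xor, hdiv, hl]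
    cases Nat.testBit u 0 <;> cases Nat.testBit w 0 <;> simp
    · rw [← mul_assoc, (hb _).eq, mul_assoc]
    · rw [mul_assoc]
    · rw [mul_assoc, ← mul_assoc (bitProd l _) b, ← (hb _).eq, mul_assoc, ← mul_assoc b b, hb2, one_mul]

theorem bitProd_self {l : List M} (hs : ∀ a ∈ l, a * a = 1) (hc : ∀ a ∈ l, ∀ b ∈ l, Commute a b)
    (u : ℕ) : bitProd l u * bitProd l u = 1 := by
  rw [← bitProd_xor hs hc, Nat.xor_self, bitProd_zero]

theorem bitProd_range : ∀ (l : List M) (u : ℕ), bitProd l u = bitProd l (u % 2 ^ l.length)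
  | [], _ => rfl
  | b :: l, u => by
    rw [bitProd, bitProd, List.length_cons, bitProd_range l (u / 2)]
    congr 1
    · rw [Nat.testBit_mod_two_pow]; simp
    · congr 1
      rw [Nat.pow_succ, Nat.mod_mul_left_div_self]

/-- The number of products is bounded by a power of two. -/
theorem card_bitProd (l : List M) :
    (Set.range (bitProd l)).Finite ∧ (Set.range (bitProd l)).ncard ≤ 2 ^ l.length := by
  have hsub : Set.range (bitProd l) ⊆ Set.range (fun i : Fin (2 ^ l.length) => bitProd l i.1) := by
    rintro m ⟨u, rfl⟩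
    exact ⟨⟨u % 2 ^ l.length, Nat.mod_lt _ (Nat.two_pow_pos _)⟩, (bitProd_range l u).symm⟩
  refine ⟨(Set.finite_range _).subset hsub, (Set.ncard_le_ncard hsub (Set.finite_range _)).trans ?_⟩
  rw [← Nat.card_coe_set_eq]
  exact (Nat.card_le_card_of_surjective _ Set.rangeFactorization_surjective).trans
    (Nat.card_fin _).le

end CfsgLib.J4Kp
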