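import Cfsg.Agent.Lib.J4Kp.Steps

/-!
# The order of the subgroup generated by x, y and the third generator in the presented J4
-/

set_option autoImplicit false
set_option maxRecDepth 100000
set_option linter.constructorNameAsVariable false

namespace CfsgLib.J4Kp

open Cfsg.Spor CfsgLib.J4P
open CfsgLib.J4Index (wv wv_low jg kp kpGens relU relV mk_x mk_y mk_t extra_one MG toM)
open CfsgLib.HNxyz (evalW evalW_nil evalW_cons)

theorem W_x : hCtx.W [0] = jg .x := by
  rw [Base.W, wv_low _ _ (by decide)]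
  simp [evalW, eltL, hCtx]

theorem W_y : hCtx.W [2] = jg .y := by
  rw [Base.W, wv_low _ _ (by decide)]
  simp [evalW, eltL, hCtx]

theorem kp_eq : kp = Subgroup.closure {jg .x, jg .y, sEl} := by
  rw [kp, MonoidHom.map_closure]
  refine congrArg Subgroup.closure ?_
  have hs : PresentedGroup.mk (coxRelators J4.edges ∪ {r | r ∈ J4.extra})
      ((J4.y * ((J4.y * J4.x) ^ 4 * J4.y⁻¹ * J4.x)⁻¹ * J4.t * ((J4.y * J4.x) ^ 4 * J4.y⁻¹ * J4.x)) ^ 3) =
      sEl := by
    simp only [sEl, Base.W, map_mul, map_inv, map_pow, mk_t, mk_x, mk_y]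
    rw [wv_low _ _ (by decide), wv_low _ _ (by decide)]
    show _ = (evalW (eltL [jg .x, jg .y]) relV * jg .t * evalW (eltL [jg .x, jg .y]) relU) ^ 3
    congr 1
    simp [evalW, eltL, relU, relV, pow_succ, mul_assoc, J4Index.x_inv]
  rw [kpGens, Set.image_insert_eq, Set.image_insert_eq, Set.image_singleton, hs, mk_x, mk_y]

theorem conj_range {g : Cfsg.Spor.J4}
    (hg : ∀ b ∈ bList, g * b * g⁻¹ ∈ Set.range (bitProd bList)) :
    ∀ e ∈ Set.range (bitProd bList), g * e * g⁻¹ ∈ Set.range (bitProd bList) := by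
  have key : ∀ (l : List Cfsg.Spor.J4), (∀ b ∈ l, g * b * g⁻¹ ∈ Set.range (bitProd bList)) →
      ∀ u, g * bitProd l u * g⁻¹ ∈ Set.range (bitProd bList) := by
    intro l
    induction l with
    | nil => intro _ u; exact ⟨0, by rw [bitProd_zero, bitProd, mul_one, mul_inv_cancel]⟩
    | cons b l ih =>
      intro hl u
      obtain ⟨m, hm⟩ := ih (fun c hc => hl c (List.mem_cons_of_mem _ hc)) (u / 2)
      rw [bitProd]
      split_ifs
      · obtain ⟨n, hn⟩ := hl b List.mem_cons_self
        exact ⟨n ^^^ m, by rw [bitProd_xor bList_sq bList_comm, hn, hm]; group⟩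
      · exact ⟨m, by rw [hm, one_mul]⟩
  rintro e ⟨u, rfl⟩
  exact key bList hg u

theorem decomp {g : Cfsg.Spor.J4} (hg : g ∈ kp) :
    ∃ e ∈ Set.range (bitProd bList), ∃ h ∈ hSub, g = e * h := by
  rw [kp_eq] at hg
  have hx : ∀ e ∈ Set.range (bitProd bList), jg .x * e * (jg .x)⁻¹ ∈ Set.range (bitProd bList) :=
    conj_range (W_x ▸ conj_x)
  have hy : ∀ e ∈ Set.range (bitProd bList), jg .y * e * (jg .y)⁻¹ ∈ Set.range (bitProd bList) :=
    conj_range (W_y ▸ conj_y)
  have sx : ∀ p, (∃ e ∈ Set.range (bitProd bList), ∃ h ∈ hSub, p = e * h) →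
      ∃ e ∈ Set.range (bitProd bList), ∃ h ∈ hSub, jg .x * p = e * h := by
    rintro _ ⟨e, he, h, hh, rfl⟩
    exact ⟨_, hx e he, _, mul_mem (Subgroup.subset_closure (Or.inl rfl)) hh, by group⟩
  have sy : ∀ p, (∃ e ∈ Set.range (bitProd bList), ∃ h ∈ hSub, p = e * h) →
      ∃ e ∈ Set.range (bitProd bList), ∃ h ∈ hSub, jg .y * p = e * h := by
    rintro _ ⟨e, he, h, hh, rfl⟩
    exact ⟨_, hy e he, _, mul_mem (Subgroup.subset_closure (Or.inr rfl)) hh, by group⟩
  have ss : ∀ p, (∃ e ∈ Set.range (bitProd bList), ∃ h ∈ hSub, p = e * h) →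
      ∃ e ∈ Set.range (bitProd bList), ∃ h ∈ hSub, sEl * p = e * h := by
    rintro _ ⟨e, ⟨m, hm⟩, h, hh, rfl⟩
    obtain ⟨n, hn⟩ := s_mem
    exact ⟨_, ⟨n ^^^ m, by rw [bitProd_xor bList_sq bList_comm, hn, hm]⟩, h, hh, (mul_assoc _ _ _).symm⟩
  induction hg using Subgroup.closure_induction_left with
  | one => exact ⟨1, ⟨0, bitProd_zero _⟩, 1, one_mem _, (one_mul 1).symm⟩
  | mul_left g hg p _ ih =>
    rcases hg with rfl | rfl | rfl
    exacts [sx p ih, sy p ih, ss p ih]
  | inv_mul_cancel g hg p _ ih =>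
    rcases hg with rfl | rfl | rfl
    · rw [J4Index.x_inv]; exact sx p ih
    · have h3 := extra_one 1 (r := J4.y ^ 3) rfl
      have hyi : (jg .y)⁻¹ = jg .y * jg .y := by
        refine inv_eq_of_mul_eq_one_right ?_
        simpa [mk_y, pow_succ, mul_assoc] using h3
      rw [hyi, mul_assoc]
      exact sy _ (sy p ih)
    · rw [inv_eq_of_mul_eq_one_right s_sq]; exact ss p ih

theorem hSub_card : Finite hSub ∧ Nat.card hSub ≤ 244823040 := by
  haveI := J4Index.card_mg.1
  have hle : hSub ≤ (toM (a := jg .x) (b := jg .y) xy_rels).range := by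
    rw [hSub, Subgroup.closure_le]
    rintro m (rfl | rfl)
    · exact ⟨J4Index.ga, by simp [toM, J4Index.ga, PresentedGroup.toGroup.of]⟩
    · exact ⟨J4Index.gb, by simp [toM, J4Index.gb, PresentedGroup.toGroup.of]⟩
  haveI : Finite (toM (a := jg .x) (b := jg .y) xy_rels).range :=
    Finite.of_surjective _ (MonoidHom.rangeRestrict_surjective _)
  refine ⟨Finite.of_injective _ (Subgroup.inclusion_injective hle), ?_⟩
  refine (Nat.card_le_card_of_injective _ (Subgroup.inclusion_injective hle)).trans ?_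
  rw [← J4Index.card_mg.2]
  exact Nat.card_le_card_of_surjective _ (MonoidHom.rangeRestrict_surjective _)

/-- The subgroup is finite of order at most that of 2¹¹:M24. -/
theorem card_kp : Finite kp ∧ Nat.card kp ≤ 501397585920 := by
  haveI := hSub_card.1
  obtain ⟨hfin, hn⟩ := card_bitProd bList
  have hE : Nat.card (Set.range (bitProd bList)) ≤ 2048 := by
    rw [Nat.card_coe_set_eq]
    refine hn.trans ?_
    simp [bList]
  haveI := hfin.to_subtype
  choose e he h hh heq using fun g : kp => decomp g.2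
  let f : kp → Set.range (bitProd bList) × hSub := fun g => (⟨e g, he g⟩, ⟨h g, hh g⟩)
  have hf : Function.Injective f := by
    intro a b hab
    simp only [f, Prod.mk.injEq, Subtype.mk.injEq] at hab
    exact Subtype.ext (by rw [heq a, heq b, hab.1, hab.2])
  refine ⟨Finite.of_injective f hf, (Nat.card_le_card_of_injective f hf).trans ?_⟩
  rw [Nat.card_prod]
  exact (Nat.mul_le_mul hE hSub_card.2).trans (by norm_num)

/-- The presented group is finite of order at most that of J4. -/
theorem card_J4 : Finite Cfsg.Spor.J4 ∧ Nat.card Cfsg.Spor.J4 ≤ 86775571046077562880 := by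
  haveI := J4Index.cosets_finite
  haveI := card_kp.1
  have e := Subgroup.card_eq_card_quotient_mul_card_subgroup kp
  refine ⟨Finite.of_equiv _ (Subgroup.groupEquivQuotientProdSubgroup (s := kp)).symm, ?_⟩
  rw [e]
  exact (Nat.mul_le_mul J4Index.index_le card_kp.2).trans (by norm_num)

end CfsgLib.J4Kp
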