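import Cfsg.Agent.Lib.J4Kp.Verts

/-!
# Derived equations (generated)
-/

set_option autoImplicit false
set_option maxRecDepth 100000
set_option linter.style.longLine false

namespace CfsgLib.J4Kp

open CfsgLib.J4Index (wv wv_flat relA relB relC relU relV)

variable {G X : Type} [Group G] [MulAction G X] (C : Base G X)

theorem f0 : C.S (v0 C) [10] :=
  rootAll C _

theorem f1 : C.S (v0 C) [7] :=
  rootAll C _

theorem f2 : C.T (v0 C) [20, 50] (v1 C) [] :=
  C.defn _ _

theorem f3 : C.S (v0 C) [17] :=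
  C.stMul (f1 C) (f0 C) _ (by decide +kernel)

theorem f4 : C.S (v0 C) [6] :=
  C.stMul (f1 C) (f3 C) _ (by decide +kernel)

theorem f5 : C.S (v0 C) [12] :=
  C.stMul (f0 C) (f4 C) _ (by decide +kernel)

theorem f6 : C.S (v0 C) [12, 50] :=
  C.stMul (f1 C) (f5 C) _ (by decide +kernel)

theorem f7 : C.S (v0 C) [12, 65] :=
  C.stMul (f1 C) (f6 C) _ (by decide +kernel)

theorem f8 : C.S (v0 C) [6, 65] :=
  C.stMul (f0 C) (f7 C) _ (by decide +kernel)

theorem f9 : C.S (v0 C) [9] :=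
  C.stInv (f7 C) _ (by decide +kernel)

theorem f10 : C.S (v0 C) [24, 65] :=
  C.stMul (f9 C) (f8 C) _ (by decide +kernel)

theorem f11 : C.S (v1 C) [22, 30, 60, 95] :=
  C.transfer (f2 C) (f10 C) [144, 156, 165, 174] _ (by decide +kernel) (by decide +kernel) (by decide +kernel)

theorem f12 : C.S (v0 C) [6, 50] :=
  C.stMul (f0 C) (f6 C) _ (by decide +kernel)

theorem f13 : C.S (v0 C) [10, 50] :=
  C.stMul (f1 C) (f12 C) _ (by decide +kernel)

theorem f14 : C.S (v0 C) [50] :=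
  C.stMul (f0 C) (f13 C) _ (by decide +kernel)

theorem f15 : C.S (v0 C) [7, 50] :=
  C.stMul (f1 C) (f14 C) _ (by decide +kernel)

theorem f16 : C.S (v0 C) [24, 50] :=
  C.stMul (f0 C) (f15 C) _ (by decide +kernel)

theorem f17 : C.S (v0 C) [20, 50] :=
  C.stMul (f1 C) (f16 C) _ (by decide +kernel)

theorem f18 : C.S (v0 C) [9, 50] :=
  C.stMul (f0 C) (f17 C) _ (by decide +kernel)

theorem f19 : C.S (v0 C) [11, 44] :=
  C.stInv (f17 C) _ (by decide +kernel)

theorem f20 : C.S (v0 C) [6, 39, 83, 97, 110, 116] :=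
  C.stMul (f19 C) (f18 C) _ (by decide +kernel)

theorem f21 : C.S (v1 C) [10] :=
  C.transfer (f2 C) (f20 C) [132] _ (by decide +kernel) (by decide +kernel) (by decide +kernel)

theorem f22 : C.S (v0 C) [17, 50] :=
  C.stMul (f1 C) (f13 C) _ (by decide +kernel)

theorem f23 : C.S (v0 C) [26, 50] :=
  C.stMul (f0 C) (f22 C) _ (by decide +kernel)

theorem f24 : C.S (v0 C) [26, 38, 50] :=
  C.stMul (f1 C) (f23 C) _ (by decide +kernel)

theorem f25 : C.S (v0 C) [17, 38, 50] :=
  C.stMul (f0 C) (f24 C) _ (by decide +kernel)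

theorem f26 : C.S (v0 C) [6, 38, 50] :=
  C.stMul (f1 C) (f25 C) _ (by decide +kernel)

theorem f27 : C.S (v0 C) [25] :=
  C.stMul (f1 C) (f1 C) _ (by decide +kernel)

theorem f28 : C.S (v0 C) [18] :=
  C.stMul (f0 C) (f27 C) _ (by decide +kernel)

theorem f29 : C.S (v0 C) [21] :=
  C.stMul (f1 C) (f28 C) _ (by decide +kernel)

theorem f30 : C.S (v0 C) [14] :=
  C.stMul (f1 C) (f29 C) _ (by decide +kernel)

theorem f31 : C.S (v0 C) [16] :=
  C.stMul (f0 C) (f30 C) _ (by decide +kernel)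

theorem f32 : C.S (v0 C) [16, 43] :=
  C.stMul (f1 C) (f31 C) _ (by decide +kernel)

theorem f33 : C.S (v0 C) [14, 43] :=
  C.stMul (f0 C) (f32 C) _ (by decide +kernel)

theorem f34 : C.S (v0 C) [18, 43] :=
  C.stMul (f1 C) (f33 C) _ (by decide +kernel)

theorem f35 : C.S (v0 C) [25, 43] :=
  C.stMul (f0 C) (f34 C) _ (by decide +kernel)

theorem f36 : C.S (v0 C) [7, 65] :=
  C.stInv (f35 C) _ (by decide +kernel)

theorem f37 : C.S (v0 C) [6, 47, 53] :=
  C.stMul (f36 C) (f26 C) _ (by decide +kernel)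

theorem f38 : C.S (v1 C) [25, 48, 57, 72, 94, 110, 116] :=
  C.transfer (f2 C) (f37 C) [147, 161, 167, 175, 177] _ (by decide +kernel) (by decide +kernel) (by decide +kernel)

theorem f39 : C.T (v1 C) [] (v0 C) [20, 50] :=
  C.flip (f2 C)

theorem f40 : C.T (v1 C) [43, 66] (v2 C) [] :=
  C.defn _ _

theorem f41 : C.S (v1 C) [16, 33, 53, 85, 94] :=
  C.stMul (f38 C) (f21 C) _ (by decide +kernel)

theorem f42 : C.S (v1 C) [18, 48, 62, 101, 110, 123] :=
  C.stMul (f38 C) (f41 C) _ (by decide +kernel)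

theorem f43 : C.S (v1 C) [9, 34, 53, 80, 107, 109, 116] :=
  C.stMul (f11 C) (f21 C) _ (by decide +kernel)

theorem f44 : C.S (v1 C) [4, 30, 60, 95] :=
  C.stInv (f43 C) _ (by decide +kernel)

theorem f45 : C.S (v1 C) [21, 45, 66, 81, 102, 110] :=
  C.stMul (f44 C) (f42 C) _ (by decide +kernel)

theorem f46 : C.S (v2 C) [13, 29, 59, 80, 95, 109, 124] :=
  C.transfer (f40 C) (f45 C) [135, 149, 166, 174] _ (by decide +kernel) (by decide +kernel) (by decide +kernel)

theorem f47 : C.S (v1 C) [4, 30, 60, 95] :=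
  C.stMul (f21 C) (f11 C) _ (by decide +kernel)

theorem f48 : C.S (v1 C) [26, 31, 50, 72, 100, 117] :=
  C.stMul (f38 C) (f47 C) _ (by decide +kernel)

theorem f49 : C.S (v1 C) [17, 31, 50, 72, 100, 117] :=
  C.stMul (f21 C) (f48 C) _ (by decide +kernel)

theorem f50 : C.S (v1 C) [8, 39, 53, 79, 105, 118] :=
  C.stInv (f48 C) _ (by decide +kernel)

theorem f51 : C.S (v1 C) [18, 30, 65, 80, 100, 109, 115] :=
  C.stMul (f50 C) (f49 C) _ (by decide +kernel)

theorem f52 : C.S (v2 C) [6, 64, 80, 100, 114] :=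
  C.transfer (f40 C) (f51 C) [128, 157, 175, 177] _ (by decide +kernel) (by decide +kernel) (by decide +kernel)

theorem f53 : C.S (v1 C) [21, 35, 58, 88, 120] :=
  C.stMul (f38 C) (f11 C) _ (by decide +kernel)

theorem f54 : C.S (v1 C) [23, 35, 58, 88, 120] :=
  C.stMul (f21 C) (f53 C) _ (by decide +kernel)

theorem f55 : C.S (v1 C) [18, 45, 54, 81, 105, 110, 116] :=
  C.stMul (f11 C) (f54 C) _ (by decide +kernel)

theorem f56 : C.S (v1 C) [20, 37, 65, 85] :=
  C.stInv (f54 C) _ (by decide +kernel)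

theorem f57 : C.S (v1 C) [22, 38, 85, 93, 120] :=
  C.stMul (f56 C) (f55 C) _ (by decide +kernel)

theorem f58 : C.S (v2 C) [22, 48, 69, 80, 100, 109, 121] :=
  C.transfer (f40 C) (f57 C) [144, 158, 170, 175] _ (by decide +kernel) (by decide +kernel) (by decide +kernel)

theorem f59 : C.S (v1 C) [17, 40, 57, 88, 97, 110, 120] :=
  C.stMul (f38 C) (f53 C) _ (by decide +kernel)

theorem f60 : C.S (v1 C) [26, 40, 57, 88, 97, 110, 120] :=
  C.stMul (f21 C) (f59 C) _ (by decide +kernel)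

theorem f61 : C.S (v1 C) [4, 32, 63, 83, 104, 109, 125] :=
  C.stInv (f59 C) _ (by decide +kernel)

theorem f62 : C.S (v1 C) [7, 27, 68, 85, 108, 125] :=
  C.stMul (f61 C) (f60 C) _ (by decide +kernel)

theorem f63 : C.S (v2 C) [9, 46, 50, 72, 104, 109, 115] :=
  C.transfer (f40 C) (f62 C) [131, 157, 170, 172] _ (by decide +kernel) (by decide +kernel) (by decide +kernel)

theorem f65 : C.T (v2 C) [43, 66] (v3 C) [] :=
  C.defn _ _

theorem f66 : C.S (v3 C) [4, 34, 55, 86, 95, 114] :=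
  C.transfer (f65 C) (f46 C) [126, 150, 164, 172, 178] _ (by decide +kernel) (by decide +kernel) (by decide +kernel)

theorem f67 : C.S (v3 C) [14, 29, 51, 72, 107, 109] :=
  C.transfer (f65 C) (f52 C) [136, 158, 165] _ (by decide +kernel) (by decide +kernel) (by decide +kernel)

theorem f68 : C.S (v3 C) [22, 30, 68, 78, 110, 122] :=
  C.transfer (f65 C) (f58 C) [144, 156, 170, 174, 177] _ (by decide +kernel) (by decide +kernel) (by decide +kernel)

theorem f69 : C.S (v3 C) [15, 47, 85, 98, 110, 116] :=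
  C.transfer (f65 C) (f63 C) [137, 154, 167, 171, 177] _ (by decide +kernel) (by decide +kernel) (by decide +kernel)

theorem f71 : C.S (v0 C) [25] :=
  C.stMul (f1 C) (f1 C) _ (by decide +kernel)

theorem f72 : C.S (v0 C) [18] :=
  C.stMul (f0 C) (f71 C) _ (by decide +kernel)

theorem f73 : C.S (v0 C) [21] :=
  C.stMul (f1 C) (f72 C) _ (by decide +kernel)

theorem f74 : C.S (v0 C) [14] :=
  C.stMul (f1 C) (f73 C) _ (by decide +kernel)

theorem f75 : C.S (v0 C) [16] :=
  C.stMul (f0 C) (f74 C) _ (by decide +kernel)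

theorem f76 : C.S (v0 C) [16, 43] :=
  C.stMul (f1 C) (f75 C) _ (by decide +kernel)

theorem f77 : C.S (v0 C) [16, 44] :=
  C.stMul (f1 C) (f76 C) _ (by decide +kernel)

theorem f78 : C.S (v0 C) [14, 44] :=
  C.stMul (f0 C) (f77 C) _ (by decide +kernel)

theorem f79 : C.S (v0 C) [18, 44] :=
  C.stMul (f1 C) (f78 C) _ (by decide +kernel)

theorem f80 : C.S (v0 C) [21, 44] :=
  C.stMul (f1 C) (f79 C) _ (by decide +kernel)

theorem f81 : C.S (v0 C) [23, 44] :=
  C.stMul (f0 C) (f80 C) _ (by decide +kernel)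

theorem f82 : C.S (v0 C) [13, 44] :=
  C.stMul (f1 C) (f81 C) _ (by decide +kernel)

theorem f83 : C.S (v0 C) [11, 44] :=
  C.stMul (f0 C) (f82 C) _ (by decide +kernel)

theorem f84 : C.T (v0 C) [11, 36, 55, 80, 95] (v1 C) [23, 37, 55, 85, 102, 121] :=
  C.conv (f2 C) (f83 C) (f83 C) _ [145, 154, 165, 175] _ (by decide +kernel) (by decide +kernel) (by decide +kernel)

theorem f85 : C.S (v0 C) [23] :=
  C.stMul (f0 C) (f73 C) _ (by decide +kernel)

theorem f86 : C.S (v0 C) [13] :=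
  C.stMul (f1 C) (f85 C) _ (by decide +kernel)

theorem f87 : C.S (v0 C) [11] :=
  C.stMul (f0 C) (f86 C) _ (by decide +kernel)

theorem f88 : C.S (v0 C) [11, 31] :=
  C.stMul (f1 C) (f87 C) _ (by decide +kernel)

theorem f89 : C.S (v0 C) [13, 31] :=
  C.stMul (f0 C) (f88 C) _ (by decide +kernel)

theorem f90 : C.S (v0 C) [15, 31] :=
  C.stMul (f1 C) (f89 C) _ (by decide +kernel)

theorem f91 : C.S (v0 C) [23, 31] :=
  C.stMul (f1 C) (f90 C) _ (by decide +kernel)

theorem f92 : C.S (v0 C) [21, 31] :=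
  C.stMul (f0 C) (f91 C) _ (by decide +kernel)

theorem f93 : C.S (v0 C) [14, 31] :=
  C.stMul (f1 C) (f92 C) _ (by decide +kernel)

theorem f94 : C.S (v0 C) [18, 31] :=
  C.stMul (f1 C) (f93 C) _ (by decide +kernel)

theorem f95 : C.S (v0 C) [25, 31] :=
  C.stMul (f0 C) (f94 C) _ (by decide +kernel)

theorem f96 : C.S (v0 C) [31] :=
  C.stMul (f1 C) (f95 C) _ (by decide +kernel)

theorem f97 : C.S (v0 C) [10, 31] :=
  C.stMul (f0 C) (f96 C) _ (by decide +kernel)

theorem f98 : C.S (v0 C) [17, 31] :=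
  C.stMul (f1 C) (f97 C) _ (by decide +kernel)

theorem f99 : C.S (v0 C) [26, 31] :=
  C.stMul (f0 C) (f98 C) _ (by decide +kernel)

theorem f100 : C.S (v0 C) [26, 41, 50, 80] :=
  C.stMul (f1 C) (f99 C) _ (by decide +kernel)

theorem f101 : C.S (v0 C) [17, 41, 50, 80] :=
  C.stMul (f0 C) (f100 C) _ (by decide +kernel)

theorem f102 : C.S (v0 C) [6, 41, 50, 80] :=
  C.stMul (f1 C) (f101 C) _ (by decide +kernel)

theorem f103 : C.S (v0 C) [10, 41, 50, 80] :=
  C.stMul (f1 C) (f102 C) _ (by decide +kernel)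

theorem f104 : C.S (v0 C) [41, 50, 80] :=
  C.stMul (f0 C) (f103 C) _ (by decide +kernel)

theorem f105 : C.S (v0 C) [7, 41, 50, 80] :=
  C.stMul (f1 C) (f104 C) _ (by decide +kernel)

theorem f106 : C.S (v0 C) [25, 41, 50, 80] :=
  C.stMul (f1 C) (f105 C) _ (by decide +kernel)

theorem f107 : C.S (v0 C) [18, 41, 50, 80] :=
  C.stMul (f0 C) (f106 C) _ (by decide +kernel)

theorem f108 : C.S (v0 C) [21, 41, 50, 80] :=
  C.stMul (f1 C) (f107 C) _ (by decide +kernel)

theorem f109 : C.S (v0 C) [23, 41, 50, 80] :=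
  C.stMul (f0 C) (f108 C) _ (by decide +kernel)

theorem f110 : C.T (v0 C) [22, 27, 52, 82, 92, 115] (v1 C) [26, 35, 58, 81, 99, 109, 111] :=
  C.conv (f2 C) (f83 C) (f109 C) _ [148, 162, 165, 176, 177] _ (by decide +kernel) (by decide +kernel) (by decide +kernel)

theorem f111 : C.T (v1 C) [26, 35, 58, 81, 99, 109, 111] (v0 C) [22, 27, 52, 82, 92, 115] :=
  C.flip (f110 C)

theorem f112 : C.T (v1 C) [48, 58, 84, 105, 110] (v1 C) [13, 46, 69, 76, 108, 112] :=
  C.closeT (p := (v0 C)) (pu := [11, 36, 55, 80, 95])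
    (C.pT (f84 C)
    (C.pH [12, 35, 50, 83] [48, 58, 84, 105, 110] (by decide +kernel) (C.pNil _ _)))
    (C.pH [12, 35, 50, 83] [26, 35, 58, 81, 99, 109, 111] (by decide +kernel)
    (C.pT (f111 C)
    (C.pH [12, 35, 50, 83] [11, 36, 55, 80, 95] (by decide +kernel) (C.pNil _ _))))
    (C.loop_of_one (relLoop0 C) _ _)

theorem f114 : C.S (v1 C) [4, 30, 60, 95] :=
  C.stMul (f21 C) (f11 C) _ (by decide +kernel)

theorem f115 : C.S (v1 C) [26, 31, 50, 72, 100, 117] :=
  C.stMul (f38 C) (f114 C) _ (by decide +kernel)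

theorem f116 : C.S (v1 C) [17, 31, 50, 72, 100, 117] :=
  C.stMul (f21 C) (f115 C) _ (by decide +kernel)

theorem f117 : C.S (v1 C) [7, 40, 59, 84, 103, 110, 111] :=
  C.stMul (f38 C) (f116 C) _ (by decide +kernel)

theorem f120 : C.T (v1 C) [8, 27, 57, 77, 100, 124] (v1 C) [22, 44, 55, 79, 98, 110, 117] :=
  C.conv (f112 C) (f117 C) (f117 C) _ [130, 152, 168, 177] _ (by decide +kernel) (by decide +kernel) (by decide +kernel)

theorem f121 : C.S (v1 C) [18, 48, 57, 72, 94, 110, 116] :=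
  C.stMul (f21 C) (f38 C) _ (by decide +kernel)

theorem f122 : C.S (v1 C) [24, 44, 76, 105, 109, 118] :=
  C.stMul (f38 C) (f121 C) _ (by decide +kernel)

theorem f123 : C.S (v1 C) [9, 34, 53, 80, 107, 109, 116] :=
  C.stMul (f11 C) (f21 C) _ (by decide +kernel)

theorem f124 : C.T (v1 C) [11, 28, 61, 83, 107, 110, 112] (v2 C) [26, 52, 94, 109, 125] :=
  C.conv (f40 C) (f122 C) (f123 C) _ [148, 157, 177] _ (by decide +kernel) (by decide +kernel) (by decide +kernel)

theorem f125 : C.T (v2 C) [4, 31, 76, 95, 110, 111] (v1 C) [21, 45, 64, 87, 108, 109, 124] :=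
  C.closeT (p := (v1 C)) (pu := [8, 27, 57, 77, 100, 124])
    (C.pT (f120 C)
    (C.pH [12, 35, 50, 83] [11, 28, 61, 83, 107, 110, 112] (by decide +kernel)
    (C.pT (f124 C)
    (C.pH [12, 35, 50, 83] [4, 31, 76, 95, 110, 111] (by decide +kernel) (C.pNil _ _)))))
    (C.pH [12, 35, 50, 83] [8, 27, 57, 77, 100, 124] (by decide +kernel) (C.pNil _ _))
    (C.loop_of_one (relLoop0 C) _ _)

theorem f126 : C.T (v1 C) [21, 45, 64, 87, 108, 109, 124] (v2 C) [4, 31, 76, 95, 110, 111] :=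
  C.flip (f125 C)

theorem f127 : C.S (v1 C) [8, 30, 65, 70, 107, 109, 111] :=
  C.stMul (f38 C) (f123 C) _ (by decide +kernel)

theorem f128 : C.S (v1 C) [15, 30, 65, 70, 107, 109, 111] :=
  C.stMul (f21 C) (f127 C) _ (by decide +kernel)

theorem f129 : C.S (v1 C) [11, 34, 59, 87, 103, 110, 122] :=
  C.stMul (f38 C) (f128 C) _ (by decide +kernel)

theorem f130 : C.T (v1 C) [21, 45, 64, 87, 108, 109, 124] (v2 C) [20, 37, 63, 88, 108, 109, 120] :=
  C.conv (f40 C) (f122 C) (f129 C) _ [142, 161, 166, 174] _ (by decide +kernel) (by decide +kernel) (by decide +kernel)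

theorem f131 : C.E (v2 C) [20, 37, 63, 88, 108, 109, 120] (v2 C) [4, 31, 76, 95, 110, 111] :=
  C.sameSrc (f130 C) (f126 C)

theorem f132 : C.S (v2 C) [26, 46, 51, 75, 109, 113] :=
  C.stEq (f131 C) _ (by decide +kernel)

theorem f135 : C.S (v3 C) [5, 31, 50, 80, 95, 119] :=
  C.transfer (f65 C) (f132 C) [127, 158, 169, 173, 178] _ (by decide +kernel) (by decide +kernel) (by decide +kernel)

theorem f137 : C.S (v2 C) [23, 39, 59, 79, 96, 109, 113] :=
  C.stMul (f46 C) (f132 C) _ (by decide +kernel)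

theorem f138 : C.S (v2 C) [] :=
  C.stOne _

theorem f140 : C.T (v2 C) [8, 36, 51, 74, 106, 110, 122] (v1 C) [5, 36, 68, 80, 104, 110, 116] :=
  C.conv (f125 C) (f137 C) (f137 C) _ [143, 156, 168, 173] _ (by decide +kernel) (by decide +kernel) (by decide +kernel)

theorem f141 : C.S (v1 C) [16, 33, 53, 85, 94] :=
  C.stMul (f38 C) (f21 C) _ (by decide +kernel)

theorem f142 : C.S (v1 C) [18, 48, 62, 101, 110, 123] :=
  C.stMul (f38 C) (f141 C) _ (by decide +kernel)

theorem f143 : C.S (v1 C) [25, 48, 62, 101, 110, 123] :=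
  C.stMul (f21 C) (f142 C) _ (by decide +kernel)

theorem f144 : C.S (v1 C) [15, 39, 53, 81, 109, 116] :=
  C.stMul (f38 C) (f143 C) _ (by decide +kernel)

theorem f145 : C.S (v1 C) [8, 39, 53, 81, 109, 116] :=
  C.stMul (f21 C) (f144 C) _ (by decide +kernel)

theorem f146 : C.S (v1 C) [23, 29, 64, 71, 100, 110, 121] :=
  C.stMul (f38 C) (f145 C) _ (by decide +kernel)

theorem f147 : C.T (v1 C) [5, 46, 87, 95, 109, 121] (v2 C) [10, 30, 58, 85, 101, 110] :=
  C.conv (f40 C) (f122 C) (f146 C) _ [132, 151, 167, 175] _ (by decide +kernel) (by decide +kernel) (by decide +kernel)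

theorem f148 : C.T (v2 C) [21, 33, 66, 74, 95] (v2 C) [21, 41, 59, 73, 105, 114] :=
  C.closeT (p := (v2 C)) (pu := [8, 36, 51, 74, 106, 110, 122])
    (C.pT (f140 C)
    (C.pH [12, 35, 50, 83] [5, 46, 87, 95, 109, 121] (by decide +kernel)
    (C.pT (f147 C)
    (C.pH [12, 35, 50, 83] [21, 33, 66, 74, 95] (by decide +kernel) (C.pNil _ _)))))
    (C.pH [12, 35, 50, 83] [8, 36, 51, 74, 106, 110, 122] (by decide +kernel) (C.pNil _ _))
    (C.loop_of_one (relLoop0 C) _ _)

theorem f152 : C.T (v2 C) [17, 34, 58, 83, 101, 110, 121] (v3 C) [17, 27, 60, 84, 109, 112] :=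
  C.conv (f65 C) (f138 C) (f138 C) _ [139, 149, 167, 173, 178] _ (by decide +kernel) (by decide +kernel) (by decide +kernel)

theorem f153 : C.T (v2 C) [9, 33, 55, 76, 117] (v2 C) [26, 45, 69, 72, 110, 111] :=
  C.conv (f148 C) (f138 C) (f46 C) _ [132, 155, 164, 172] _ (by decide +kernel) (by decide +kernel) (by decide +kernel)

theorem f154 : C.T (v2 C) [26, 45, 69, 72, 110, 111] (v2 C) [9, 33, 55, 76, 117] :=
  C.flip (f153 C)

theorem f155 : C.T (v3 C) [25, 37, 61, 77, 95, 123] (v2 C) [13, 35, 52, 85, 101, 114] :=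
  C.closeT (p := (v2 C)) (pu := [17, 34, 58, 83, 101, 110, 121])
    (C.pT (f152 C)
    (C.pH [12, 35, 50, 83] [25, 37, 61, 77, 95, 123] (by decide +kernel) (C.pNil _ _)))
    (C.pH [12, 35, 50, 83] [26, 45, 69, 72, 110, 111] (by decide +kernel)
    (C.pT (f154 C)
    (C.pH [12, 35, 50, 83] [17, 34, 58, 83, 101, 110, 121] (by decide +kernel) (C.pNil _ _))))
    (C.loop_of_one (relLoop0 C) _ _)

theorem f156 : C.T (v2 C) [13, 35, 52, 85, 101, 114] (v3 C) [25, 37, 61, 77, 95, 123] :=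
  C.flip (f155 C)

theorem f157 : C.T (v2 C) [13, 35, 52, 85, 101, 114] (v3 C) [13, 30, 64, 78, 100, 122] :=
  C.conv (f65 C) (f138 C) (f138 C) _ [135, 156, 164, 172, 177] _ (by decide +kernel) (by decide +kernel) (by decide +kernel)

theorem f158 : C.E (v3 C) [13, 30, 64, 78, 100, 122] (v3 C) [25, 37, 61, 77, 95, 123] :=
  C.sameSrc (f157 C) (f156 C)

theorem f159 : C.S (v3 C) [18, 39, 69, 74, 91, 110, 120] :=
  C.stEq (f158 C) _ (by decide +kernel)

theorem f162 : C.S (v3 C) [13, 40, 64, 100, 109, 123] :=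
  C.stMul (f159 C) (f159 C) _ (by decide +kernel)

theorem f165 : C.T (v3 C) [14, 30, 66, 74, 96, 109, 117] (v4 C) [] :=
  C.defn _ _

theorem f166 : C.S (v3 C) [6, 65, 77, 102, 114] :=
  C.stMul (f67 C) (f66 C) _ (by decide +kernel)

theorem f167 : C.S (v3 C) [25, 47, 57, 73, 101, 125] :=
  C.stMul (f68 C) (f166 C) _ (by decide +kernel)

theorem f168 : C.S (v3 C) [26, 37, 61, 73, 94, 124] :=
  C.stMul (f69 C) (f159 C) _ (by decide +kernel)

theorem f169 : C.S (v3 C) [14, 31, 57, 88, 98, 114] :=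
  C.stInv (f168 C) _ (by decide +kernel)

theorem f170 : C.S (v3 C) [7, 30, 56, 81, 100, 119] :=
  C.stMul (f169 C) (f167 C) _ (by decide +kernel)

theorem f171 : C.S (v4 C) [22, 40, 53, 74, 98, 112] :=
  C.transfer (f165 C) (f170 C) [144, 154, 167, 176, 178] _ (by decide +kernel) (by decide +kernel) (by decide +kernel)

theorem f172 : C.S (v3 C) [25, 43, 66, 74, 100, 110, 114] :=
  C.stMul (f135 C) (f66 C) _ (by decide +kernel)

theorem f173 : C.S (v3 C) [4, 32, 53, 86, 91, 110, 114] :=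
  C.stMul (f135 C) (f172 C) _ (by decide +kernel)

theorem f174 : C.S (v3 C) [25, 47, 66, 70, 96] :=
  C.stInv (f166 C) _ (by decide +kernel)

theorem f175 : C.S (v3 C) [7, 30, 56, 86, 107] :=
  C.stMul (f174 C) (f173 C) _ (by decide +kernel)

theorem f176 : C.S (v4 C) [23, 45, 61, 78, 102, 110, 111] :=
  C.transfer (f165 C) (f175 C) [145, 156, 166, 178] _ (by decide +kernel) (by decide +kernel) (by decide +kernel)

theorem f177 : C.S (v3 C) [19, 48, 51, 86, 100, 109, 115] :=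
  C.stMul (f68 C) (f67 C) _ (by decide +kernel)

theorem f178 : C.S (v3 C) [23, 30, 54, 79, 97, 109, 121] :=
  C.stMul (f67 C) (f177 C) _ (by decide +kernel)

theorem f179 : C.S (v3 C) [24, 33, 69, 114] :=
  C.stMul (f159 C) (f172 C) _ (by decide +kernel)

theorem f180 : C.S (v3 C) [12, 46, 68, 80, 102, 121] :=
  C.stInv (f179 C) _ (by decide +kernel)

theorem f181 : C.S (v3 C) [18, 35, 55, 88, 96, 109, 118] :=
  C.stMul (f180 C) (f178 C) _ (by decide +kernel)

theorem f182 : C.S (v4 C) [7, 44, 65, 77, 95, 121] :=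
  C.transfer (f165 C) (f181 C) [129, 161, 166, 175, 178] _ (by decide +kernel) (by decide +kernel) (by decide +kernel)

theorem f183 : C.T (v4 C) [] (v3 C) [14, 30, 66, 74, 96, 109, 117] :=
  C.flip (f165 C)

theorem f184 : C.T (v4 C) [43, 66] (v5 C) [] :=
  C.defn _ _

theorem f201 : C.T (v2 C) [16, 32, 73, 101, 113] (v10 C) [] :=
  C.defn _ _

theorem f252 : C.S (v3 C) [26, 34, 57, 79, 98, 109, 125] :=
  C.stMul (f66 C) (f66 C) _ (by decide +kernel)

theorem f253 : C.S (v3 C) [20, 37, 63, 72, 91, 110] :=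
  C.stMul (f67 C) (f252 C) _ (by decide +kernel)

theorem f254 : C.S (v3 C) [10, 30, 66, 78, 90, 109, 116] :=
  C.stMul (f159 C) (f253 C) _ (by decide +kernel)

theorem f255 : C.S (v3 C) [11, 29, 63, 78, 103, 109, 118] :=
  C.stMul (f159 C) (f254 C) _ (by decide +kernel)

theorem f256 : C.S (v3 C) [17, 35, 64, 71, 102, 125] :=
  C.stMul (f67 C) (f255 C) _ (by decide +kernel)

theorem f267 : C.T (v3 C) [5, 35, 58, 70, 100, 110, 121] (v4 C) [13, 38, 56, 88, 103, 110, 116] :=
  C.conv (f165 C) (f256 C) (f256 C) _ [135, 154, 167, 174, 177] _ (by decide +kernel) (by decide +kernel) (by decide +kernel)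

theorem f268 : C.S (v3 C) [23, 43, 50, 83, 92, 119] :=
  C.stMul (f69 C) (f67 C) _ (by decide +kernel)

theorem f269 : C.S (v3 C) [19, 46, 63, 86, 107, 109, 122] :=
  C.stMul (f67 C) (f268 C) _ (by decide +kernel)

theorem f270 : C.S (v3 C) [19, 41, 70, 106, 110, 125] :=
  C.stMul (f159 C) (f269 C) _ (by decide +kernel)

theorem f271 : C.S (v3 C) [19, 48, 50, 71, 103, 123] :=
  C.stMul (f159 C) (f270 C) _ (by decide +kernel)

theorem f272 : C.T (v3 C) [5, 47, 56, 72, 108, 109, 120] (v4 C) [13, 30, 49, 75, 105, 117] :=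
  C.conv (f165 C) (f256 C) (f271 C) _ [135, 156, 173, 177] _ (by decide +kernel) (by decide +kernel) (by decide +kernel)

theorem f273 : C.T (v4 C) [13, 30, 49, 75, 105, 117] (v3 C) [5, 47, 56, 72, 108, 109, 120] :=
  C.flip (f272 C)

theorem f274 : C.T (v4 C) [26, 48, 60, 91, 110, 120] (v4 C) [4, 43, 66, 78, 121] :=
  C.closeT (p := (v3 C)) (pu := [5, 35, 58, 70, 100, 110, 121])
    (C.pT (f267 C)
    (C.pH [12, 35, 50, 83] [26, 48, 60, 91, 110, 120] (by decide +kernel) (C.pNil _ _)))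
    (C.pH [12, 35, 50, 83] [13, 30, 49, 75, 105, 117] (by decide +kernel)
    (C.pT (f273 C)
    (C.pH [12, 35, 50, 83] [5, 35, 58, 70, 100, 110, 121] (by decide +kernel) (C.pNil _ _))))
    (C.loop_of_one (relLoop0 C) _ _)

theorem f276 : C.S (v4 C) [] :=
  C.stOne _

theorem f293 : C.T (v4 C) [26, 46, 84, 97, 121] (v5 C) [26, 27, 62, 78, 121] :=
  C.conv (f184 C) (f276 C) (f276 C) _ [148, 149, 174, 178] _ (by decide +kernel) (by decide +kernel) (by decide +kernel)

theorem f294 : C.S (v4 C) [22, 40, 53, 74, 102, 109, 117] :=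
  C.stMul (f182 C) (f171 C) _ (by decide +kernel)

theorem f295 : C.S (v4 C) [22, 40, 53, 74, 107, 121] :=
  C.stMul (f182 C) (f294 C) _ (by decide +kernel)

theorem f296 : C.T (v4 C) [13, 40, 56, 75, 100, 110] (v4 C) [22, 28, 61, 78, 107, 109, 114] :=
  C.conv (f274 C) (f276 C) (f295 C) _ [136, 153, 167, 171, 177] _ (by decide +kernel) (by decide +kernel) (by decide +kernel)

theorem f297 : C.T (v4 C) [22, 28, 61, 78, 107, 109, 114] (v4 C) [13, 40, 56, 75, 100, 110] :=
  C.flip (f296 C)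

theorem f298 : C.T (v5 C) [4, 30, 61, 80, 108, 120] (v4 C) [20, 47, 61, 86, 93, 110, 113] :=
  C.closeT (p := (v4 C)) (pu := [26, 46, 84, 97, 121])
    (C.pT (f293 C)
    (C.pH [12, 35, 50, 83] [4, 30, 61, 80, 108, 120] (by decide +kernel) (C.pNil _ _)))
    (C.pH [12, 35, 50, 83] [22, 28, 61, 78, 107, 109, 114] (by decide +kernel)
    (C.pT (f297 C)
    (C.pH [12, 35, 50, 83] [26, 46, 84, 97, 121] (by decide +kernel) (C.pNil _ _))))
    (C.loop_of_one (relLoop0 C) _ _)

theorem f299 : C.T (v4 C) [20, 47, 61, 86, 93, 110, 113] (v5 C) [4, 30, 61, 80, 108, 120] :=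
  C.flip (f298 C)

theorem f312 : C.S (v2 C) [21, 45, 66, 76, 103, 109, 123] :=
  C.stMul (f58 C) (f46 C) _ (by decide +kernel)

theorem f313 : C.S (v2 C) [7, 27, 68, 72, 98, 109, 117] :=
  C.stMul (f52 C) (f312 C) _ (by decide +kernel)

theorem f470 : C.T (v3 C) [24, 40, 68, 81, 91, 112] (v15 C) [] :=
  C.defn _ _

theorem f471 : C.S (v15 C) [18, 45, 64, 72, 100, 109, 122] :=
  C.transfer (f470 C) (f67 C) [140, 162, 167, 173, 178] _ (by decide +kernel) (by decide +kernel) (by decide +kernel)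

theorem f472 : C.S (v3 C) [15, 47, 77, 101, 109, 121] :=
  C.stMul (f67 C) (f68 C) _ (by decide +kernel)

theorem f473 : C.S (v3 C) [22, 30, 68, 78, 110, 122] :=
  C.stInv (f68 C) _ (by decide +kernel)

theorem f474 : C.S (v3 C) [17, 59, 78, 90, 109, 116] :=
  C.stMul (f473 C) (f472 C) _ (by decide +kernel)

theorem f475 : C.S (v15 C) [12, 43, 63, 72, 93, 109, 111] :=
  C.transfer (f470 C) (f474 C) [134, 151, 164, 171, 177] _ (by decide +kernel) (by decide +kernel) (by decide +kernel)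

theorem f476 : C.S (v3 C) [26, 29, 67, 77, 91] :=
  C.stMul (f135 C) (f68 C) _ (by decide +kernel)

theorem f477 : C.S (v3 C) [22, 30, 68, 78, 110, 122] :=
  C.stInv (f68 C) _ (by decide +kernel)

theorem f478 : C.S (v3 C) [16, 43, 69, 76, 99, 124] :=
  C.stMul (f477 C) (f476 C) _ (by decide +kernel)

theorem f479 : C.S (v15 C) [12, 60, 72, 104, 122] :=
  C.transfer (f470 C) (f478 C) [134, 162, 164, 174, 177] _ (by decide +kernel) (by decide +kernel) (by decide +kernel)

theorem f480 : C.S (v3 C) [17, 59, 88, 110, 122] :=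
  C.stMul (f68 C) (f69 C) _ (by decide +kernel)

theorem f481 : C.S (v3 C) [19, 46, 63, 73, 92, 114] :=
  C.stMul (f69 C) (f68 C) _ (by decide +kernel)

theorem f482 : C.S (v3 C) [17, 59, 88, 110, 122] :=
  C.stInv (f481 C) _ (by decide +kernel)

theorem f483 : C.S (v3 C) [23, 31, 66, 88, 93, 109, 116] :=
  C.stMul (f482 C) (f480 C) _ (by decide +kernel)

theorem f484 : C.S (v15 C) [27, 69, 82, 90, 120] :=
  C.transfer (f470 C) (f483 C) [149, 170, 174, 177] _ (by decide +kernel) (by decide +kernel) (by decide +kernel)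

theorem f485 : C.S (v3 C) [26, 34, 57, 79, 98, 109, 125] :=
  C.stMul (f66 C) (f66 C) _ (by decide +kernel)

theorem f486 : C.S (v3 C) [18, 55, 77, 91, 125] :=
  C.stMul (f135 C) (f485 C) _ (by decide +kernel)

theorem f487 : C.S (v3 C) [27, 53, 73, 99, 121] :=
  C.stMul (f159 C) (f66 C) _ (by decide +kernel)

theorem f488 : C.S (v3 C) [36, 63, 74, 93, 112] :=
  C.stInv (f487 C) _ (by decide +kernel)

theorem f489 : C.S (v3 C) [26, 31, 65, 72, 93, 111] :=
  C.stMul (f488 C) (f486 C) _ (by decide +kernel)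

theorem f490 : C.S (v15 C) [20, 41, 62, 72, 100, 109, 118] :=
  C.transfer (f470 C) (f489 C) [142, 158, 171] _ (by decide +kernel) (by decide +kernel) (by decide +kernel)

theorem f492 : C.T (v2 C) [7, 30, 56, 89, 104, 109, 114] (v3 C) [7, 27, 63, 77, 107, 109, 113] :=
  C.conv (f65 C) (f138 C) (f138 C) _ [129, 158, 166, 175, 178] _ (by decide +kernel) (by decide +kernel) (by decide +kernel)

theorem f493 : C.S (v3 C) [26, 32, 68, 79, 94, 109, 112] :=
  C.stMul (f159 C) (f135 C) _ (by decide +kernel)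

theorem f494 : C.S (v3 C) [15, 43, 58, 72, 99, 109, 114] :=
  C.stMul (f159 C) (f67 C) _ (by decide +kernel)

theorem f495 : C.S (v3 C) [18, 41, 50, 84, 110, 117] :=
  C.stMul (f66 C) (f494 C) _ (by decide +kernel)

theorem f496 : C.S (v3 C) [17, 35, 63, 71, 102, 110, 122] :=
  C.stMul (f135 C) (f495 C) _ (by decide +kernel)

theorem f497 : C.T (v3 C) [7, 44, 59, 82, 90, 109, 124] (v15 C) [23, 40, 51, 82, 101, 109, 121] :=
  C.conv (f470 C) (f493 C) (f496 C) _ [145, 155, 169, 171, 177] _ (by decide +kernel) (by decide +kernel) (by decide +kernel)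

theorem f498 : C.T (v15 C) [36, 56, 78, 90, 109, 121] (v2 C) [7, 40, 63, 81, 95, 109, 113] :=
  C.closeT (p := (v2 C)) (pu := [7, 30, 56, 89, 104, 109, 114])
    (C.pT (f492 C)
    (C.pH [12, 35, 50, 83] [7, 44, 59, 82, 90, 109, 124] (by decide +kernel)
    (C.pT (f497 C)
    (C.pH [12, 35, 50, 83] [36, 56, 78, 90, 109, 121] (by decide +kernel) (C.pNil _ _)))))
    (C.pH [12, 35, 50, 83] [7, 30, 56, 89, 104, 109, 114] (by decide +kernel) (C.pNil _ _))
    (C.loop_of_one (relLoop0 C) _ _)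

theorem f499 : C.T (v2 C) [7, 40, 63, 81, 95, 109, 113] (v15 C) [36, 56, 78, 90, 109, 121] :=
  C.flip (f498 C)

theorem f500 : C.T (v2 C) [5, 30, 69, 89, 97, 109, 111] (v10 C) [13, 38, 67, 124] :=
  C.conv (f201 C) (f313 C) (f313 C) _ [135, 154, 168, 173, 177] _ (by decide +kernel) (by decide +kernel) (by decide +kernel)

theorem f501 : C.S (v2 C) [23, 31, 65, 75, 95, 110, 115] :=
  C.stMul (f63 C) (f52 C) _ (by decide +kernel)

theorem f502 : C.S (v2 C) [16, 38, 53, 72, 94, 124] :=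
  C.stMul (f46 C) (f46 C) _ (by decide +kernel)

theorem f503 : C.S (v2 C) [14, 41, 81, 101, 113] :=
  C.stMul (f132 C) (f502 C) _ (by decide +kernel)

theorem f504 : C.T (v2 C) [5, 46, 69, 89, 97, 109, 111] (v15 C) [26, 35, 55, 74, 96, 109, 122] :=
  C.conv (f499 C) (f501 C) (f503 C) _ [148, 151, 169, 176, 177] _ (by decide +kernel) (by decide +kernel) (by decide +kernel)

theorem f505 : C.T (v15 C) [26, 35, 55, 74, 96, 109, 122] (v2 C) [5, 46, 69, 89, 97, 109, 111] :=
  C.flip (f504 C)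

theorem f506 : C.T (v10 C) [26, 48, 59, 87, 100, 110, 111] (v15 C) [13, 46, 62, 70, 108, 110, 124] :=
  C.closeT (p := (v2 C)) (pu := [5, 30, 69, 89, 97, 109, 111])
    (C.pT (f500 C)
    (C.pH [12, 35, 50, 83] [26, 48, 59, 87, 100, 110, 111] (by decide +kernel) (C.pNil _ _)))
    (C.pH [12, 35, 50, 83] [26, 35, 55, 74, 96, 109, 122] (by decide +kernel)
    (C.pT (f505 C)
    (C.pH [12, 35, 50, 83] [5, 30, 69, 89, 97, 109, 111] (by decide +kernel) (C.pNil _ _))))
    (C.loop_of_one (relLoop0 C) _ _)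

theorem f507 : C.T (v15 C) [13, 46, 62, 70, 108, 110, 124] (v10 C) [26, 48, 59, 87, 100, 110, 111] :=
  C.flip (f506 C)

theorem f508 : C.T (v3 C) [9, 27, 51, 84, 107, 110, 112] (v15 C) [17, 47, 53, 88, 104, 110, 118] :=
  C.conv (f470 C) (f493 C) (f493 C) _ [139, 156, 167, 173] _ (by decide +kernel) (by decide +kernel) (by decide +kernel)

theorem f509 : C.S (v3 C) [8, 48, 51, 88, 110, 118] :=
  C.stMul (f68 C) (f135 C) _ (by decide +kernel)

theorem f510 : C.S (v3 C) [11, 31, 67, 97, 109, 111] :=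
  C.stMul (f66 C) (f509 C) _ (by decide +kernel)

theorem f511 : C.T (v3 C) [25, 41, 52, 87, 98, 110, 111] (v4 C) [7, 28, 69, 82, 110, 120] :=
  C.conv (f165 C) (f256 C) (f510 C) _ [129, 153, 164] _ (by decide +kernel) (by decide +kernel) (by decide +kernel)

theorem f512 : C.T (v4 C) [7, 28, 69, 82, 110, 120] (v3 C) [25, 41, 52, 87, 98, 110, 111] :=
  C.flip (f511 C)

theorem f513 : C.T (v15 C) [25, 30, 58, 89, 107, 110, 123] (v4 C) [7, 30, 56, 82, 95, 110, 123] :=
  C.closeT (p := (v3 C)) (pu := [9, 27, 51, 84, 107, 110, 112])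
    (C.pT (f508 C)
    (C.pH [12, 35, 50, 83] [25, 30, 58, 89, 107, 110, 123] (by decide +kernel) (C.pNil _ _)))
    (C.pH [12, 35, 50, 83] [7, 28, 69, 82, 110, 120] (by decide +kernel)
    (C.pT (f512 C)
    (C.pH [12, 35, 50, 83] [9, 27, 51, 84, 107, 110, 112] (by decide +kernel) (C.pNil _ _))))
    (C.loop_of_one (relLoop0 C) _ _)

theorem f514 : C.T (v4 C) [7, 30, 56, 82, 95, 110, 123] (v15 C) [25, 30, 58, 89, 107, 110, 123] :=
  C.flip (f513 C)

theorem f515 : C.T (v3 C) [13, 34, 59, 73, 106, 109, 117] (v15 C) [20, 48, 65, 82, 101, 110, 112] :=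
  C.conv (f470 C) (f493 C) (f493 C) _ [142, 156, 167, 175, 177] _ (by decide +kernel) (by decide +kernel) (by decide +kernel)

theorem f516 : C.S (v3 C) [17, 46, 63, 86, 108, 109, 125] :=
  C.stMul (f159 C) (f69 C) _ (by decide +kernel)

theorem f517 : C.S (v3 C) [11, 45, 59, 77, 92, 118] :=
  C.stMul (f69 C) (f516 C) _ (by decide +kernel)

theorem f518 : C.S (v3 C) [17, 46, 65, 85, 104, 109, 124] :=
  C.stMul (f67 C) (f517 C) _ (by decide +kernel)

theorem f519 : C.T (v3 C) [4, 31, 60, 76, 100, 109, 112] (v15 C) [43, 57, 86, 92, 109, 118] :=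
  C.conv (f470 C) (f493 C) (f518 C) _ [160, 168, 175, 178] _ (by decide +kernel) (by decide +kernel) (by decide +kernel)

theorem f520 : C.T (v15 C) [43, 57, 86, 92, 109, 118] (v3 C) [4, 31, 60, 76, 100, 109, 112] :=
  C.flip (f519 C)

theorem f521 : C.T (v15 C) [22, 42, 67, 85, 107, 119] (v15 C) [23, 43, 54, 86, 92, 109, 118] :=
  C.closeT (p := (v3 C)) (pu := [13, 34, 59, 73, 106, 109, 117])
    (C.pT (f515 C)
    (C.pH [12, 35, 50, 83] [22, 42, 67, 85, 107, 119] (by decide +kernel) (C.pNil _ _)))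
    (C.pH [12, 35, 50, 83] [43, 57, 86, 92, 109, 118] (by decide +kernel)
    (C.pT (f520 C)
    (C.pH [12, 35, 50, 83] [13, 34, 59, 73, 106, 109, 117] (by decide +kernel) (C.pNil _ _))))
    (C.loop_of_one (relLoop0 C) _ _)

theorem f560 : C.T (v3 C) [9, 43, 63, 74, 108, 109, 122] (v16 C) [] :=
  C.defn _ _

theorem f561 : C.S (v3 C) [5, 33, 52, 88, 106, 109, 119] :=
  C.stMul (f67 C) (f159 C) _ (by decide +kernel)

theorem f562 : C.S (v3 C) [15, 43, 58, 72, 99, 109, 114] :=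
  C.stMul (f159 C) (f67 C) _ (by decide +kernel)

theorem f563 : C.S (v3 C) [6, 37, 55, 80, 100, 118] :=
  C.stInv (f562 C) _ (by decide +kernel)

theorem f564 : C.S (v3 C) [20, 45, 63, 73, 108, 121] :=
  C.stMul (f563 C) (f561 C) _ (by decide +kernel)

theorem f565 : C.S (v16 C) [15, 41, 53, 71, 96, 109, 120] :=
  C.transfer (f560 C) (f564 C) [137, 155, 166, 175, 178] _ (by decide +kernel) (by decide +kernel) (by decide +kernel)

theorem f572 : C.S (v3 C) [25, 43, 66, 74, 100, 110, 114] :=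
  C.stMul (f135 C) (f66 C) _ (by decide +kernel)

theorem f578 : C.S (v3 C) [21, 46, 57, 83, 110] :=
  C.stMul (f67 C) (f572 C) _ (by decide +kernel)

theorem f579 : C.S (v3 C) [9, 48, 51, 80, 106, 110, 114] :=
  C.stInv (f572 C) _ (by decide +kernel)

theorem f580 : C.S (v3 C) [7, 48, 55, 83, 102, 109, 112] :=
  C.stMul (f579 C) (f578 C) _ (by decide +kernel)

theorem f581 : C.S (v16 C) [20, 32, 56, 70, 98, 119] :=
  C.transfer (f560 C) (f580 C) [142, 160, 169, 175, 177] _ (by decide +kernel) (by decide +kernel) (by decide +kernel)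

theorem f582 : C.S (v3 C) [12, 27, 69, 101, 110, 120] :=
  C.stMul (f66 C) (f67 C) _ (by decide +kernel)

theorem f583 : C.S (v3 C) [8, 40, 65, 79, 102, 114] :=
  C.stMul (f67 C) (f582 C) _ (by decide +kernel)

theorem f584 : C.S (v3 C) [27, 53, 73, 99, 121] :=
  C.stMul (f159 C) (f66 C) _ (by decide +kernel)

theorem f585 : C.S (v3 C) [5, 48, 66, 78, 101, 110, 125] :=
  C.stMul (f135 C) (f584 C) _ (by decide +kernel)

theorem f586 : C.S (v3 C) [25, 43, 50, 70, 94, 110, 113] :=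
  C.stInv (f585 C) _ (by decide +kernel)

theorem f587 : C.S (v3 C) [22, 31, 53, 89, 101, 110, 116] :=
  C.stMul (f586 C) (f583 C) _ (by decide +kernel)

theorem f588 : C.S (v16 C) [4, 48, 69, 79, 92, 114] :=
  C.transfer (f560 C) (f587 C) [126, 158, 170, 172, 177] _ (by decide +kernel) (by decide +kernel) (by decide +kernel)

theorem f589 : C.T (v16 C) [] (v3 C) [9, 43, 63, 74, 108, 109, 122] :=
  C.flip (f560 C)

theorem f591 : C.S (v3 C) [17, 46, 63, 86, 108, 109, 125] :=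
  C.stMul (f159 C) (f69 C) _ (by decide +kernel)

theorem f592 : C.S (v3 C) [11, 45, 51, 82, 94, 109, 111] :=
  C.stMul (f67 C) (f591 C) _ (by decide +kernel)

theorem f593 : C.S (v3 C) [7, 42, 52, 72, 92, 123] :=
  C.stMul (f159 C) (f592 C) _ (by decide +kernel)

theorem f594 : C.S (v3 C) [21, 47, 81, 103, 117] :=
  C.stMul (f159 C) (f593 C) _ (by decide +kernel)

theorem f595 : C.S (v3 C) [5, 27, 64, 86, 94, 114] :=
  C.stMul (f66 C) (f594 C) _ (by decide +kernel)

theorem f603 : C.T (v3 C) [11, 40, 54, 70, 92, 110, 118] (v15 C) [9, 34, 68, 77, 95, 109, 118] :=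
  C.conv (f470 C) (f493 C) (f493 C) _ [131, 159, 166, 171] _ (by decide +kernel) (by decide +kernel) (by decide +kernel)

theorem f604 : C.S (v3 C) [26, 37, 61, 73, 94, 124] :=
  C.stMul (f69 C) (f159 C) _ (by decide +kernel)

theorem f605 : C.S (v3 C) [40, 64, 80, 94, 122] :=
  C.stMul (f66 C) (f604 C) _ (by decide +kernel)

theorem f606 : C.S (v3 C) [22, 39, 62, 94, 120] :=
  C.stMul (f68 C) (f605 C) _ (by decide +kernel)

theorem f607 : C.T (v3 C) [22, 34, 60, 82, 95, 110, 118] (v16 C) [17, 27, 52, 78, 94, 120] :=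
  C.conv (f560 C) (f595 C) (f606 C) _ [139, 149, 166, 172, 177] _ (by decide +kernel) (by decide +kernel) (by decide +kernel)

theorem f608 : C.T (v16 C) [17, 27, 52, 78, 94, 120] (v3 C) [22, 34, 60, 82, 95, 110, 118] :=
  C.flip (f607 C)

theorem f609 : C.T (v15 C) [17, 28, 60, 77, 104, 109, 111] (v16 C) [9, 47, 58, 93] :=
  C.closeT (p := (v3 C)) (pu := [11, 40, 54, 70, 92, 110, 118])
    (C.pT (f603 C)
    (C.pH [12, 35, 50, 83] [17, 28, 60, 77, 104, 109, 111] (by decide +kernel) (C.pNil _ _)))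
    (C.pH [12, 35, 50, 83] [17, 27, 52, 78, 94, 120] (by decide +kernel)
    (C.pT (f608 C)
    (C.pH [12, 35, 50, 83] [11, 40, 54, 70, 92, 110, 118] (by decide +kernel) (C.pNil _ _))))
    (C.loop_of_one (relLoop0 C) _ _)

theorem f631 : C.S (v16 C) [] :=
  C.stOne _

theorem f634 : C.S (v15 C) [18, 48, 66, 88, 104, 110, 121] :=
  C.stMul (f475 C) (f490 C) _ (by decide +kernel)

theorem f635 : C.S (v15 C) [] :=
  C.stOne _

theorem f653 : C.T (v1 C) [12, 48, 65, 82, 101, 109, 118] (v17 C) [] :=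
  C.defn _ _

theorem f654 : C.S (v1 C) [4, 30, 60, 95] :=
  C.stMul (f21 C) (f11 C) _ (by decide +kernel)

theorem f655 : C.S (v1 C) [13, 34, 59, 73, 105, 109, 115] :=
  C.stMul (f11 C) (f654 C) _ (by decide +kernel)

theorem f656 : C.S (v1 C) [9, 34, 53, 80, 107, 109, 116] :=
  C.stInv (f654 C) _ (by decide +kernel)

theorem f657 : C.S (v1 C) [7, 39, 67, 74, 92, 109] :=
  C.stMul (f656 C) (f655 C) _ (by decide +kernel)

theorem f658 : C.S (v17 C) [22, 76, 106, 109, 116] :=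
  C.transfer (f653 C) (f657 C) [144, 153, 164, 178] _ (by decide +kernel) (by decide +kernel) (by decide +kernel)

theorem f659 : C.S (v1 C) [18, 48, 57, 72, 94, 110, 116] :=
  C.stMul (f21 C) (f38 C) _ (by decide +kernel)

theorem f660 : C.S (v1 C) [23, 45, 59, 89, 92, 120] :=
  C.stMul (f11 C) (f659 C) _ (by decide +kernel)

theorem f661 : C.S (v1 C) [6, 35, 50, 82, 104, 114] :=
  C.stMul (f38 C) (f660 C) _ (by decide +kernel)

theorem f662 : C.S (v1 C) [12, 35, 50, 82, 104, 114] :=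
  C.stMul (f21 C) (f661 C) _ (by decide +kernel)

theorem f663 : C.S (v1 C) [21, 38, 50, 84, 109, 118] :=
  C.stInv (f661 C) _ (by decide +kernel)

theorem f664 : C.S (v1 C) [6, 40, 62, 75, 100, 109, 111] :=
  C.stMul (f663 C) (f662 C) _ (by decide +kernel)

theorem f665 : C.S (v17 C) [11, 30, 55, 85, 97, 110, 117] :=
  C.transfer (f653 C) (f664 C) [133, 156, 170, 177] _ (by decide +kernel) (by decide +kernel) (by decide +kernel)

theorem f666 : C.S (v1 C) [21, 35, 58, 88, 120] :=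
  C.stMul (f38 C) (f11 C) _ (by decide +kernel)

theorem f667 : C.S (v1 C) [17, 40, 57, 88, 97, 110, 120] :=
  C.stMul (f38 C) (f666 C) _ (by decide +kernel)

theorem f668 : C.S (v1 C) [26, 40, 57, 88, 97, 110, 120] :=
  C.stMul (f21 C) (f667 C) _ (by decide +kernel)

theorem f669 : C.S (v1 C) [14, 44, 63, 75, 94, 110, 123] :=
  C.stMul (f11 C) (f668 C) _ (by decide +kernel)

theorem f670 : C.S (v1 C) [16, 44, 63, 75, 94, 110, 123] :=
  C.stMul (f21 C) (f669 C) _ (by decide +kernel)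

theorem f671 : C.S (v1 C) [16, 33, 53, 85, 94] :=
  C.stMul (f38 C) (f21 C) _ (by decide +kernel)

theorem f672 : C.S (v1 C) [18, 48, 62, 101, 110, 123] :=
  C.stMul (f38 C) (f671 C) _ (by decide +kernel)

theorem f673 : C.S (v1 C) [25, 48, 62, 101, 110, 123] :=
  C.stMul (f21 C) (f672 C) _ (by decide +kernel)

theorem f674 : C.S (v1 C) [15, 39, 53, 81, 109, 116] :=
  C.stMul (f38 C) (f673 C) _ (by decide +kernel)

theorem f675 : C.S (v1 C) [6, 39, 69, 74, 93, 123] :=
  C.stInv (f674 C) _ (by decide +kernel)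

theorem f676 : C.S (v1 C) [11, 45, 54, 80, 90, 122] :=
  C.stMul (f675 C) (f670 C) _ (by decide +kernel)

theorem f677 : C.S (v17 C) [23, 45, 53, 99, 115] :=
  C.transfer (f653 C) (f676 C) [145, 156, 167, 171, 177] _ (by decide +kernel) (by decide +kernel) (by decide +kernel)

theorem f678 : C.S (v1 C) [15, 39, 69, 72, 97, 110, 112] :=
  C.stMul (f38 C) (f38 C) _ (by decide +kernel)

theorem f679 : C.S (v1 C) [8, 39, 69, 72, 97, 110, 112] :=
  C.stMul (f21 C) (f678 C) _ (by decide +kernel)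

theorem f680 : C.S (v1 C) [23, 29, 65, 99, 109, 114] :=
  C.stMul (f38 C) (f679 C) _ (by decide +kernel)

theorem f681 : C.S (v1 C) [21, 29, 65, 99, 109, 114] :=
  C.stMul (f21 C) (f680 C) _ (by decide +kernel)

theorem f682 : C.S (v1 C) [17, 32, 69, 71, 104, 113] :=
  C.stMul (f38 C) (f681 C) _ (by decide +kernel)

theorem f683 : C.S (v1 C) [21, 45, 59, 89, 92, 120] :=
  C.stMul (f21 C) (f660 C) _ (by decide +kernel)

theorem f684 : C.S (v1 C) [25, 38, 54, 83, 90, 125] :=
  C.stMul (f11 C) (f683 C) _ (by decide +kernel)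

theorem f685 : C.S (v1 C) [18, 38, 54, 83, 90, 125] :=
  C.stMul (f21 C) (f684 C) _ (by decide +kernel)

theorem f686 : C.S (v1 C) [23, 46, 57, 73, 93, 120] :=
  C.stInv (f685 C) _ (by decide +kernel)

theorem f687 : C.S (v1 C) [25, 44, 52, 80, 93, 109, 120] :=
  C.stMul (f686 C) (f682 C) _ (by decide +kernel)

theorem f688 : C.S (v17 C) [18, 29, 65, 78, 101, 110, 116] :=
  C.transfer (f653 C) (f687 C) [140, 149, 169, 176] _ (by decide +kernel) (by decide +kernel) (by decide +kernel)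

theorem f690 : C.T (v0 C) [22, 48, 56, 71, 96, 109, 111] (v1 C) [11, 38, 65, 81, 108, 123] :=
  C.conv (f2 C) (f83 C) (f83 C) _ [133, 154, 169, 173] _ (by decide +kernel) (by decide +kernel) (by decide +kernel)

theorem f691 : C.S (v1 C) [21, 35, 58, 88, 120] :=
  C.stMul (f38 C) (f11 C) _ (by decide +kernel)

theorem f692 : C.S (v1 C) [23, 35, 58, 88, 120] :=
  C.stMul (f21 C) (f691 C) _ (by decide +kernel)

theorem f693 : C.S (v1 C) [6, 45, 52, 79, 108, 110, 115] :=
  C.stMul (f38 C) (f692 C) _ (by decide +kernel)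

theorem f694 : C.S (v1 C) [12, 45, 52, 79, 108, 110, 115] :=
  C.stMul (f21 C) (f693 C) _ (by decide +kernel)

theorem f695 : C.S (v1 C) [10, 30, 68, 82, 91, 110, 111] :=
  C.stMul (f38 C) (f694 C) _ (by decide +kernel)

theorem f696 : C.S (v1 C) [16, 30, 58, 76, 99, 110, 122] :=
  C.stMul (f38 C) (f695 C) _ (by decide +kernel)

theorem f697 : C.S (v1 C) [15, 39, 69, 72, 97, 110, 112] :=
  C.stMul (f38 C) (f38 C) _ (by decide +kernel)

theorem f698 : C.S (v1 C) [8, 39, 69, 72, 97, 110, 112] :=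
  C.stMul (f21 C) (f697 C) _ (by decide +kernel)

theorem f699 : C.S (v1 C) [16, 37, 55, 81, 97, 109, 121] :=
  C.stMul (f11 C) (f698 C) _ (by decide +kernel)

theorem f700 : C.S (v1 C) [18, 38, 68, 87, 94, 110, 121] :=
  C.stMul (f38 C) (f699 C) _ (by decide +kernel)

theorem f701 : C.S (v1 C) [25, 38, 68, 87, 94, 110, 121] :=
  C.stMul (f21 C) (f700 C) _ (by decide +kernel)

theorem f702 : C.S (v1 C) [15, 30, 65, 72, 94, 109, 117] :=
  C.stMul (f38 C) (f701 C) _ (by decide +kernel)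

theorem f703 : C.T (v1 C) [7, 35, 66, 81, 91, 109, 117] (v17 C) [25, 38, 54, 76, 104, 109, 116] :=
  C.conv (f653 C) (f696 C) (f702 C) _ [147, 160, 166, 176] _ (by decide +kernel) (by decide +kernel) (by decide +kernel)

theorem f704 : C.S (v0 C) [24] :=
  C.stMul (f0 C) (f1 C) _ (by decide +kernel)

theorem f705 : C.S (v0 C) [20] :=
  C.stMul (f1 C) (f704 C) _ (by decide +kernel)

theorem f706 : C.S (v0 C) [9] :=
  C.stMul (f0 C) (f705 C) _ (by decide +kernel)

theorem f707 : C.S (v0 C) [9, 28] :=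
  C.stMul (f1 C) (f706 C) _ (by decide +kernel)

theorem f708 : C.S (v0 C) [20, 28] :=
  C.stMul (f0 C) (f707 C) _ (by decide +kernel)

theorem f709 : C.S (v0 C) [22, 28] :=
  C.stMul (f1 C) (f708 C) _ (by decide +kernel)

theorem f710 : C.S (v0 C) [4, 28] :=
  C.stMul (f0 C) (f709 C) _ (by decide +kernel)

theorem f711 : C.S (v0 C) [5, 28] :=
  C.stMul (f1 C) (f710 C) _ (by decide +kernel)

theorem f712 : C.S (v0 C) [19, 28] :=
  C.stMul (f1 C) (f711 C) _ (by decide +kernel)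

theorem f713 : C.S (v0 C) [5, 29] :=
  C.stMul (f0 C) (f712 C) _ (by decide +kernel)

theorem f714 : C.S (v0 C) [19, 29] :=
  C.stMul (f1 C) (f713 C) _ (by decide +kernel)

theorem f715 : C.S (v0 C) [5, 33] :=
  C.stMul (f0 C) (f714 C) _ (by decide +kernel)

theorem f716 : C.S (v0 C) [19, 33] :=
  C.stMul (f1 C) (f715 C) _ (by decide +kernel)

theorem f717 : C.S (v0 C) [4, 33] :=
  C.stMul (f1 C) (f716 C) _ (by decide +kernel)

theorem f718 : C.S (v0 C) [22, 33] :=
  C.stMul (f0 C) (f717 C) _ (by decide +kernel)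

theorem f719 : C.S (v0 C) [24, 33] :=
  C.stMul (f1 C) (f718 C) _ (by decide +kernel)

theorem f720 : C.S (v0 C) [20, 33] :=
  C.stMul (f1 C) (f719 C) _ (by decide +kernel)

theorem f721 : C.S (v0 C) [9, 33] :=
  C.stMul (f0 C) (f720 C) _ (by decide +kernel)

theorem f722 : C.S (v0 C) [9, 33, 73, 102, 122] :=
  C.stMul (f1 C) (f721 C) _ (by decide +kernel)

theorem f723 : C.S (v0 C) [9, 33, 71, 105, 109, 113] :=
  C.stMul (f1 C) (f722 C) _ (by decide +kernel)

theorem f724 : C.S (v0 C) [20, 33, 71, 105, 109, 113] :=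
  C.stMul (f0 C) (f723 C) _ (by decide +kernel)

theorem f725 : C.S (v0 C) [22, 33, 71, 105, 109, 113] :=
  C.stMul (f1 C) (f724 C) _ (by decide +kernel)

theorem f726 : C.S (v0 C) [4, 33, 71, 105, 109, 113] :=
  C.stMul (f0 C) (f725 C) _ (by decide +kernel)

theorem f727 : C.S (v0 C) [5, 33, 71, 105, 109, 113] :=
  C.stMul (f1 C) (f726 C) _ (by decide +kernel)

theorem f728 : C.S (v0 C) [19, 29, 71, 105, 109, 113] :=
  C.stMul (f0 C) (f727 C) _ (by decide +kernel)

theorem f729 : C.S (v0 C) [4, 29, 71, 105, 109, 113] :=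
  C.stMul (f1 C) (f728 C) _ (by decide +kernel)

theorem f730 : C.S (v0 C) [22, 29, 71, 105, 109, 113] :=
  C.stMul (f0 C) (f729 C) _ (by decide +kernel)

theorem f731 : C.S (v0 C) [24, 29, 71, 105, 109, 113] :=
  C.stMul (f1 C) (f730 C) _ (by decide +kernel)

theorem f732 : C.S (v0 C) [7, 29, 71, 105, 109, 113] :=
  C.stMul (f0 C) (f731 C) _ (by decide +kernel)

theorem f733 : C.S (v0 C) [25, 29, 71, 105, 109, 113] :=
  C.stMul (f1 C) (f732 C) _ (by decide +kernel)

theorem f734 : C.T (v0 C) [9, 44, 56, 80, 93, 114] (v1 C) [12, 101, 110, 124] :=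
  C.conv (f2 C) (f83 C) (f733 C) _ [134, 162, 170] _ (by decide +kernel) (by decide +kernel) (by decide +kernel)

theorem f735 : C.T (v1 C) [12, 101, 110, 124] (v0 C) [9, 44, 56, 80, 93, 114] :=
  C.flip (f734 C)

theorem f736 : C.T (v17 C) [18, 33, 59, 89, 99, 110, 122] (v1 C) [5, 31, 88, 90, 109, 122] :=
  C.closeT (p := (v0 C)) (pu := [22, 48, 56, 71, 96, 109, 111])
    (C.pT (f690 C)
    (C.pH [8, 30, 65, 84, 94, 117] [7, 35, 66, 81, 91, 109, 117] (by decide +kernel)
    (C.pT (f703 C)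
    (C.pH [26, 38, 54, 89, 90, 113] [18, 33, 59, 89, 99, 110, 122] (by decide +kernel) (C.pNil _ _)))))
    (C.pH [8, 30, 65, 84, 94, 117] [12, 101, 110, 124] (by decide +kernel)
    (C.pT (f735 C)
    (C.pH [26, 38, 54, 89, 90, 113] [22, 48, 56, 71, 96, 109, 111] (by decide +kernel) (C.pNil _ _))))
    (C.loop_of_one (relLoop1 C) _ _)

theorem f737 : C.T (v1 C) [5, 31, 88, 90, 109, 122] (v17 C) [18, 33, 59, 89, 99, 110, 122] :=
  C.flip (f736 C)

theorem f738 : C.S (v1 C) [9, 34, 53, 80, 107, 109, 116] :=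
  C.stMul (f11 C) (f21 C) _ (by decide +kernel)

theorem f739 : C.T (v1 C) [5, 31, 88, 90, 109, 122] (v17 C) [15, 38, 62, 84, 98, 110, 125] :=
  C.conv (f653 C) (f696 C) (f738 C) _ [137, 159, 165, 177] _ (by decide +kernel) (by decide +kernel) (by decide +kernel)

theorem f740 : C.E (v17 C) [15, 38, 62, 84, 98, 110, 125] (v17 C) [18, 33, 59, 89, 99, 110, 122] :=
  C.sameSrc (f739 C) (f737 C)

theorem f741 : C.S (v17 C) [9, 43, 84, 97, 109, 119] :=
  C.stEq (f740 C) _ (by decide +kernel)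

theorem f744 : C.S (v17 C) [7, 29, 60, 88, 102, 125] :=
  C.stMul (f741 C) (f741 C) _ (by decide +kernel)

theorem f745 : C.S (v17 C) [26, 45, 60, 81, 98, 109, 118] :=
  C.stMul (f741 C) (f744 C) _ (by decide +kernel)

theorem f746 : C.S (v17 C) [] :=
  C.stOne _

theorem f748 : C.T (v1 C) [19, 44, 51, 74, 90, 116] (v2 C) [19, 41, 62, 80, 99, 117] :=
  C.conv (f40 C) (f122 C) (f122 C) _ [141, 161, 169] _ (by decide +kernel) (by decide +kernel) (by decide +kernel)

theorem f749 : C.S (v1 C) [11, 45, 62, 70, 104, 125] :=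
  C.stMul (f38 C) (f697 C) _ (by decide +kernel)

theorem f750 : C.S (v1 C) [13, 45, 62, 70, 104, 125] :=
  C.stMul (f21 C) (f749 C) _ (by decide +kernel)

theorem f751 : C.S (v1 C) [4, 28, 59, 81, 90] :=
  C.stMul (f11 C) (f750 C) _ (by decide +kernel)

theorem f752 : C.S (v1 C) [22, 28, 59, 81, 90] :=
  C.stMul (f21 C) (f751 C) _ (by decide +kernel)

theorem f753 : C.S (v1 C) [21, 33, 54, 72, 105, 119] :=
  C.stMul (f38 C) (f752 C) _ (by decide +kernel)

theorem f754 : C.S (v1 C) [23, 33, 54, 72, 105, 119] :=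
  C.stMul (f21 C) (f753 C) _ (by decide +kernel)

theorem f755 : C.T (v1 C) [6, 31, 59, 89, 104, 109, 113] (v17 C) [23, 39, 52, 88, 94, 110, 120] :=
  C.conv (f653 C) (f696 C) (f754 C) _ [145, 161, 166, 172] _ (by decide +kernel) (by decide +kernel) (by decide +kernel)

theorem f756 : C.T (v17 C) [23, 39, 52, 88, 94, 110, 120] (v1 C) [6, 31, 59, 89, 104, 109, 113] :=
  C.flip (f755 C)

theorem f757 : C.T (v2 C) [24, 48, 62, 73, 91, 109, 116] (v17 C) [12, 27, 55, 70, 90, 110, 116] :=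
  C.closeT (p := (v1 C)) (pu := [19, 44, 51, 74, 90, 116])
    (C.pT (f748 C)
    (C.pH [12, 35, 50, 83] [24, 48, 62, 73, 91, 109, 116] (by decide +kernel) (C.pNil _ _)))
    (C.pH [12, 35, 50, 83] [23, 39, 52, 88, 94, 110, 120] (by decide +kernel)
    (C.pT (f756 C)
    (C.pH [12, 35, 50, 83] [19, 44, 51, 74, 90, 116] (by decide +kernel) (C.pNil _ _))))
    (C.loop_of_one (relLoop0 C) _ _)

theorem f758 : C.T (v17 C) [12, 27, 55, 70, 90, 110, 116] (v2 C) [24, 48, 62, 73, 91, 109, 116] :=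
  C.flip (f757 C)

theorem f775 : C.T (v1 C) [17, 69, 89, 94, 109, 113] (v1 C) [20, 39, 60, 101, 110, 118] :=
  C.conv (f112 C) (f117 C) (f117 C) _ [139, 153, 178] _ (by decide +kernel) (by decide +kernel) (by decide +kernel)

theorem f776 : C.S (v1 C) [8, 30, 65, 70, 107, 109, 111] :=
  C.stMul (f38 C) (f738 C) _ (by decide +kernel)

theorem f777 : C.S (v1 C) [23, 45, 66, 81, 102, 110] :=
  C.stMul (f38 C) (f776 C) _ (by decide +kernel)

theorem f778 : C.S (v1 C) [6, 35, 54, 87, 106, 110, 112] :=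
  C.stMul (f38 C) (f777 C) _ (by decide +kernel)

theorem f779 : C.S (v1 C) [5, 64, 98, 109, 114] :=
  C.stMul (f38 C) (f778 C) _ (by decide +kernel)

theorem f780 : C.S (v1 C) [19, 36, 64, 98, 109, 114] :=
  C.stMul (f21 C) (f779 C) _ (by decide +kernel)

theorem f781 : C.S (v1 C) [5, 37, 57, 89, 108, 109, 119] :=
  C.stMul (f11 C) (f780 C) _ (by decide +kernel)

theorem f782 : C.S (v1 C) [12, 45, 59, 89, 94, 110, 119] :=
  C.stMul (f38 C) (f781 C) _ (by decide +kernel)

theorem f783 : C.S (v1 C) [6, 45, 59, 89, 94, 110, 119] :=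
  C.stMul (f21 C) (f782 C) _ (by decide +kernel)

theorem f784 : C.S (v1 C) [5, 27, 56, 84, 93, 121] :=
  C.stMul (f38 C) (f783 C) _ (by decide +kernel)

theorem f785 : C.T (v1 C) [23, 30, 69, 79, 101, 110, 125] (v17 C) [9, 35, 52, 86, 105, 123] :=
  C.conv (f653 C) (f696 C) (f784 C) _ [131, 152, 164, 172] _ (by decide +kernel) (by decide +kernel) (by decide +kernel)

theorem f786 : C.S (v1 C) [16, 33, 53, 85, 94] :=
  C.stMul (f38 C) (f21 C) _ (by decide +kernel)

theorem f787 : C.S (v1 C) [14, 33, 53, 85, 94] :=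
  C.stMul (f21 C) (f786 C) _ (by decide +kernel)

theorem f788 : C.S (v1 C) [26, 46, 61, 81, 107, 119] :=
  C.stMul (f11 C) (f787 C) _ (by decide +kernel)

theorem f789 : C.S (v1 C) [17, 46, 61, 81, 107, 119] :=
  C.stMul (f21 C) (f788 C) _ (by decide +kernel)

theorem f790 : C.S (v1 C) [7, 35, 63, 78, 103, 109, 117] :=
  C.stMul (f38 C) (f789 C) _ (by decide +kernel)

theorem f791 : C.S (v1 C) [24, 35, 63, 78, 103, 109, 117] :=
  C.stMul (f21 C) (f790 C) _ (by decide +kernel)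

theorem f792 : C.S (v1 C) [6, 36, 52, 79, 109, 119] :=
  C.stMul (f11 C) (f791 C) _ (by decide +kernel)

theorem f793 : C.S (v1 C) [5, 43, 49, 96, 123] :=
  C.stMul (f38 C) (f792 C) _ (by decide +kernel)

theorem f794 : C.S (v1 C) [12, 40, 55, 89, 102, 109, 124] :=
  C.stMul (f38 C) (f793 C) _ (by decide +kernel)

theorem f795 : C.T (v1 C) [19, 30, 65, 83, 109, 118] (v17 C) [21, 38, 49, 80, 108, 110, 121] :=
  C.conv (f653 C) (f696 C) (f794 C) _ [143, 162, 169, 172] _ (by decide +kernel) (by decide +kernel) (by decide +kernel)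

theorem f796 : C.T (v17 C) [21, 38, 49, 80, 108, 110, 121] (v1 C) [19, 30, 65, 83, 109, 118] :=
  C.flip (f795 C)

theorem f797 : C.T (v17 C) [22, 46, 70, 98, 110, 119] (v17 C) [12, 61, 71, 93, 109, 123] :=
  C.closeT (p := (v1 C)) (pu := [17, 69, 89, 94, 109, 113])
    (C.pT (f775 C)
    (C.pH [8, 30, 65, 84, 94, 117] [23, 30, 69, 79, 101, 110, 125] (by decide +kernel)
    (C.pT (f785 C)
    (C.pH [26, 38, 54, 89, 90, 113] [22, 46, 70, 98, 110, 119] (by decide +kernel) (C.pNil _ _)))))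
    (C.pH [8, 30, 65, 84, 94, 117] [21, 38, 49, 80, 108, 110, 121] (by decide +kernel)
    (C.pT (f796 C)
    (C.pH [26, 38, 54, 89, 90, 113] [17, 69, 89, 94, 109, 113] (by decide +kernel) (C.pNil _ _))))
    (C.loop_of_one (relLoop1 C) _ _)

theorem f799 : C.S (v17 C) [6, 27, 80, 94, 109, 112] :=
  C.stMul (f741 C) (f658 C) _ (by decide +kernel)

theorem f800 : C.S (v17 C) [26, 31, 61, 85, 93, 110, 125] :=
  C.stMul (f677 C) (f799 C) _ (by decide +kernel)

theorem f802 : C.T (v2 C) [13, 33, 63, 82, 92, 109, 112] (v3 C) [13, 31, 69, 71, 99, 109, 111] :=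
  C.conv (f65 C) (f138 C) (f138 C) _ [135, 151, 176, 178] _ (by decide +kernel) (by decide +kernel) (by decide +kernel)

theorem f803 : C.S (v3 C) [5, 33, 52, 88, 106, 109, 119] :=
  C.stMul (f67 C) (f159 C) _ (by decide +kernel)

theorem f804 : C.T (v3 C) [11, 28, 58, 99, 109, 111] (v15 C) [13, 37, 71, 96, 116] :=
  C.conv (f470 C) (f493 C) (f803 C) _ [135, 163, 165, 172, 178] _ (by decide +kernel) (by decide +kernel) (by decide +kernel)

theorem f805 : C.S (v2 C) [21, 45, 66, 76, 103, 109, 123] :=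
  C.stMul (f58 C) (f46 C) _ (by decide +kernel)

theorem f806 : C.S (v2 C) [7, 32, 64, 71, 107, 109, 116] :=
  C.stMul (f132 C) (f805 C) _ (by decide +kernel)

theorem f807 : C.S (v2 C) [18, 38, 62, 83, 98, 109, 124] :=
  C.stMul (f52 C) (f46 C) _ (by decide +kernel)

theorem f808 : C.S (v2 C) [10, 36, 58, 89, 98, 110, 115] :=
  C.stMul (f63 C) (f807 C) _ (by decide +kernel)

theorem f809 : C.S (v2 C) [12, 39, 69, 103, 124] :=
  C.stMul (f52 C) (f808 C) _ (by decide +kernel)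

theorem f810 : C.T (v2 C) [16, 46, 55, 107, 110] (v17 C) [6, 47, 59, 72, 105, 110, 114] :=
  C.conv (f757 C) (f806 C) (f809 C) _ [132, 153, 168, 178] _ (by decide +kernel) (by decide +kernel) (by decide +kernel)

theorem f811 : C.T (v17 C) [6, 47, 59, 72, 105, 110, 114] (v2 C) [16, 46, 55, 107, 110] :=
  C.flip (f810 C)

theorem f812 : C.T (v15 C) [23, 47, 52, 81, 106, 115] (v17 C) [22, 32, 59, 82, 91, 125] :=
  C.closeT (p := (v2 C)) (pu := [13, 33, 63, 82, 92, 109, 112])
    (C.pT (f802 C)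
    (C.pH [8, 30, 65, 84, 94, 117] [11, 28, 58, 99, 109, 111] (by decide +kernel)
    (C.pT (f804 C)
    (C.pH [26, 38, 54, 89, 90, 113] [23, 47, 52, 81, 106, 115] (by decide +kernel) (C.pNil _ _)))))
    (C.pH [8, 30, 65, 84, 94, 117] [6, 47, 59, 72, 105, 110, 114] (by decide +kernel)
    (C.pT (f811 C)
    (C.pH [26, 38, 54, 89, 90, 113] [13, 33, 63, 82, 92, 109, 112] (by decide +kernel) (C.pNil _ _))))
    (C.loop_of_one (relLoop1 C) _ _)

theorem f813 : C.T (v17 C) [22, 32, 59, 82, 91, 125] (v15 C) [23, 47, 52, 81, 106, 115] :=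
  C.flip (f812 C)

theorem f814 : C.S (v15 C) [7, 35, 53, 84, 101, 109, 122] :=
  C.stMul (f490 C) (f471 C) _ (by decide +kernel)

theorem f815 : C.S (v15 C) [23, 29, 64, 76, 96, 110, 113] :=
  C.stMul (f479 C) (f814 C) _ (by decide +kernel)

theorem f816 : C.T (v15 C) [10, 38, 61, 80, 97, 114] (v17 C) [9, 40, 63, 83, 95, 110, 112] :=
  C.conv (f812 C) (f815 C) (f815 C) _ [143, 155, 170, 176] _ (by decide +kernel) (by decide +kernel) (by decide +kernel)

theorem f817 : C.S (v17 C) [13, 37, 67, 73, 104, 110, 114] :=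
  C.stMul (f741 C) (f677 C) _ (by decide +kernel)

theorem f818 : C.T (v17 C) [17, 29, 68, 70, 90, 110, 124] (v15 C) [14, 31, 69, 81, 108, 109, 116] :=
  C.conv (f813 C) (f677 C) (f817 C) _ [138, 161, 169, 176] _ (by decide +kernel) (by decide +kernel) (by decide +kernel)

theorem f819 : C.T (v15 C) [14, 29, 61, 92, 110, 120] (v15 C) [8, 35, 54, 71, 99, 109, 122] :=
  C.closeT (p := (v15 C)) (pu := [10, 38, 61, 80, 97, 114])
    (C.pT (f816 C)
    (C.pH [12, 35, 50, 83] [17, 29, 68, 70, 90, 110, 124] (by decide +kernel)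
    (C.pT (f818 C)
    (C.pH [12, 35, 50, 83] [14, 29, 61, 92, 110, 120] (by decide +kernel) (C.pNil _ _)))))
    (C.pH [12, 35, 50, 83] [10, 38, 61, 80, 97, 114] (by decide +kernel) (C.pNil _ _))
    (C.loop_of_one (relLoop0 C) _ _)

theorem f821 : C.S (v15 C) [12, 60, 71, 104, 110, 125] :=
  C.stMul (f490 C) (f479 C) _ (by decide +kernel)

theorem f824 : C.T (v17 C) [17, 67, 76, 108, 117] (v17 C) [26, 32, 57, 71, 97] :=
  C.conv (f797 C) (f800 C) (f800 C) _ [136, 149, 165, 174, 177] _ (by decide +kernel) (by decide +kernel) (by decide +kernel)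

theorem f825 : C.T (v17 C) [4, 39, 61, 87, 114] (v17 C) [26, 30, 68, 74, 100, 110, 111] :=
  C.conv (f797 C) (f800 C) (f741 C) _ [137, 161, 167, 172, 177] _ (by decide +kernel) (by decide +kernel) (by decide +kernel)

theorem f826 : C.T (v17 C) [4, 40, 62, 87, 107, 113] (v17 C) [9, 42, 68, 80, 105, 110, 119] :=
  C.closeT (p := (v17 C)) (pu := [17, 67, 76, 108, 117])
    (C.pT (f824 C)
    (C.pH [12, 35, 50, 83] [4, 39, 61, 87, 114] (by decide +kernel)
    (C.pT (f825 C)
    (C.pH [12, 35, 50, 83] [4, 40, 62, 87, 107, 113] (by decide +kernel) (C.pNil _ _)))))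
    (C.pH [12, 35, 50, 83] [17, 67, 76, 108, 117] (by decide +kernel) (C.pNil _ _))
    (C.loop_of_one (relLoop0 C) _ _)

theorem f835 : C.T (v15 C) [4, 45, 86, 106] (v10 C) [23, 33, 60, 82, 103, 121] :=
  C.conv (f507 C) (f634 C) (f634 C) _ [139, 151, 167, 176] _ (by decide +kernel) (by decide +kernel) (by decide +kernel)

theorem f836 : C.S (v15 C) [20, 37, 49, 82, 92, 125] :=
  C.stMul (f490 C) (f484 C) _ (by decide +kernel)

theorem f837 : C.T (v15 C) [26, 31, 49, 71, 107, 109, 117] (v15 C) [16, 41, 67, 75, 110, 123] :=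
  C.conv (f819 C) (f821 C) (f836 C) _ [146, 150, 166, 171, 177] _ (by decide +kernel) (by decide +kernel) (by decide +kernel)

theorem f838 : C.T (v15 C) [16, 41, 67, 75, 110, 123] (v15 C) [26, 31, 49, 71, 107, 109, 117] :=
  C.flip (f837 C)

theorem f839 : C.T (v10 C) [32, 66, 92, 109, 116] (v15 C) [16, 32, 56, 70, 103, 117] :=
  C.closeT (p := (v15 C)) (pu := [4, 45, 86, 106])
    (C.pT (f835 C)
    (C.pH [12, 35, 50, 83] [32, 66, 92, 109, 116] (by decide +kernel) (C.pNil _ _)))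
    (C.pH [12, 35, 50, 83] [16, 41, 67, 75, 110, 123] (by decide +kernel)
    (C.pT (f838 C)
    (C.pH [12, 35, 50, 83] [4, 45, 86, 106] (by decide +kernel) (C.pNil _ _))))
    (C.loop_of_one (relLoop0 C) _ _)

theorem f840 : C.T (v15 C) [16, 32, 56, 70, 103, 117] (v10 C) [32, 66, 92, 109, 116] :=
  C.flip (f839 C)

theorem f841 : C.T (v15 C) [16, 32, 56, 70, 103, 117] (v16 C) [15, 27, 54, 76, 106, 110, 115] :=
  C.conv (f609 C) (f471 C) (f484 C) _ [135, 158, 168] _ (by decide +kernel) (by decide +kernel) (by decide +kernel)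

theorem f842 : C.E (v16 C) [15, 27, 54, 76, 106, 110, 115] (v10 C) [32, 66, 92, 109, 116] :=
  C.sameSrc (f841 C) (f840 C)

theorem f843 : C.E (v10 C) [32, 66, 92, 109, 116] (v16 C) [15, 27, 54, 76, 106, 110, 115] :=
  C.esymm (f842 C)

theorem f844 : C.E (v10 C) [] (v16 C) [24, 28, 64, 80, 92, 113] :=
  C.norm (f843 C) _ (by decide +kernel)

theorem f872 : C.S (v3 C) [17, 44, 58, 97, 110] :=
  C.stMul (f135 C) (f159 C) _ (by decide +kernel)

theorem f908 : C.S (v1 C) [] :=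
  C.stOne _

theorem f948 : C.T (v1 C) [24, 34, 53, 89, 112] (v18 C) [] :=
  C.defn _ _

theorem f949 : C.S (v1 C) [18, 48, 57, 72, 94, 110, 116] :=
  C.stMul (f21 C) (f38 C) _ (by decide +kernel)

theorem f950 : C.S (v1 C) [24, 44, 76, 105, 109, 118] :=
  C.stMul (f38 C) (f949 C) _ (by decide +kernel)

theorem f951 : C.S (v1 C) [19, 35, 58, 80, 110, 115] :=
  C.stMul (f38 C) (f950 C) _ (by decide +kernel)

theorem f952 : C.S (v1 C) [5, 30, 63, 72, 95, 110, 114] :=
  C.stMul (f21 C) (f951 C) _ (by decide +kernel)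

theorem f953 : C.S (v1 C) [21, 35, 58, 88, 120] :=
  C.stMul (f38 C) (f11 C) _ (by decide +kernel)

theorem f954 : C.S (v1 C) [17, 40, 57, 88, 97, 110, 120] :=
  C.stMul (f38 C) (f953 C) _ (by decide +kernel)

theorem f955 : C.S (v1 C) [26, 40, 57, 88, 97, 110, 120] :=
  C.stMul (f21 C) (f954 C) _ (by decide +kernel)

theorem f956 : C.S (v1 C) [14, 44, 63, 75, 94, 110, 123] :=
  C.stMul (f11 C) (f955 C) _ (by decide +kernel)

theorem f957 : C.S (v1 C) [17, 47, 68, 79, 125] :=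
  C.stInv (f956 C) _ (by decide +kernel)

theorem f958 : C.S (v1 C) [18, 45, 66, 78, 105, 110, 113] :=
  C.stMul (f957 C) (f952 C) _ (by decide +kernel)

theorem f959 : C.S (v18 C) [14, 44, 78, 91, 111] :=
  C.transfer (f948 C) (f958 C) [136, 156, 168, 174, 177] _ (by decide +kernel) (by decide +kernel) (by decide +kernel)

theorem f960 : C.S (v1 C) [4, 30, 60, 95] :=
  C.stMul (f21 C) (f11 C) _ (by decide +kernel)

theorem f961 : C.S (v1 C) [13, 34, 59, 73, 105, 109, 115] :=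
  C.stMul (f11 C) (f960 C) _ (by decide +kernel)

theorem f962 : C.S (v1 C) [14, 30, 52, 86, 92, 110, 114] :=
  C.stMul (f38 C) (f961 C) _ (by decide +kernel)

theorem f963 : C.S (v1 C) [16, 30, 52, 86, 92, 110, 114] :=
  C.stMul (f21 C) (f962 C) _ (by decide +kernel)

theorem f964 : C.S (v1 C) [8, 44, 73, 100, 110, 112] :=
  C.stMul (f11 C) (f963 C) _ (by decide +kernel)

theorem f965 : C.S (v1 C) [15, 44, 73, 100, 110, 112] :=
  C.stMul (f21 C) (f964 C) _ (by decide +kernel)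

theorem f966 : C.S (v1 C) [15, 39, 69, 72, 97, 110, 112] :=
  C.stMul (f38 C) (f38 C) _ (by decide +kernel)

theorem f967 : C.S (v1 C) [8, 39, 69, 72, 97, 110, 112] :=
  C.stMul (f21 C) (f966 C) _ (by decide +kernel)

theorem f968 : C.S (v1 C) [16, 37, 55, 81, 97, 109, 121] :=
  C.stMul (f11 C) (f967 C) _ (by decide +kernel)

theorem f969 : C.S (v1 C) [14, 37, 55, 81, 97, 109, 121] :=
  C.stMul (f21 C) (f968 C) _ (by decide +kernel)

theorem f970 : C.S (v1 C) [69, 85, 123] :=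
  C.stMul (f38 C) (f969 C) _ (by decide +kernel)

theorem f971 : C.S (v1 C) [62, 86, 98, 113] :=
  C.stInv (f970 C) _ (by decide +kernel)

theorem f972 : C.S (v1 C) [26, 29, 53, 86, 105, 110, 116] :=
  C.stMul (f971 C) (f965 C) _ (by decide +kernel)

theorem f973 : C.S (v18 C) [7, 65, 72, 98, 109, 122] :=
  C.transfer (f948 C) (f972 C) [129, 156, 168, 172] _ (by decide +kernel) (by decide +kernel) (by decide +kernel)

theorem f975 : C.T (v1 C) [19, 38, 68, 70, 90, 125] (v17 C) [15, 60, 81, 107, 118] :=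
  C.conv (f653 C) (f696 C) (f696 C) _ [137, 160, 166, 177] _ (by decide +kernel) (by decide +kernel) (by decide +kernel)

theorem f976 : C.S (v1 C) [9, 34, 53, 80, 107, 109, 116] :=
  C.stMul (f11 C) (f21 C) _ (by decide +kernel)

theorem f977 : C.S (v1 C) [20, 34, 53, 80, 107, 109, 116] :=
  C.stMul (f21 C) (f976 C) _ (by decide +kernel)

theorem f978 : C.S (v1 C) [9, 37, 61, 76, 93, 117] :=
  C.stMul (f38 C) (f977 C) _ (by decide +kernel)

theorem f979 : C.S (v1 C) [20, 37, 61, 76, 93, 117] :=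
  C.stMul (f21 C) (f978 C) _ (by decide +kernel)

theorem f980 : C.S (v1 C) [9, 34, 54, 81, 107, 109, 125] :=
  C.stMul (f38 C) (f979 C) _ (by decide +kernel)

theorem f981 : C.S (v1 C) [8, 30, 67, 74, 105, 109, 125] :=
  C.stMul (f38 C) (f980 C) _ (by decide +kernel)

theorem f982 : C.S (v1 C) [15, 30, 67, 74, 105, 109, 125] :=
  C.stMul (f21 C) (f981 C) _ (by decide +kernel)

theorem f983 : C.S (v1 C) [11, 34, 50, 72, 95, 122] :=
  C.stMul (f38 C) (f982 C) _ (by decide +kernel)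

theorem f984 : C.S (v1 C) [4, 52, 89, 99, 110, 124] :=
  C.stMul (f38 C) (f983 C) _ (by decide +kernel)

theorem f985 : C.S (v1 C) [12, 65, 80, 107, 109, 116] :=
  C.stMul (f11 C) (f977 C) _ (by decide +kernel)

theorem f986 : C.S (v1 C) [10, 37, 57, 89, 101, 117] :=
  C.stMul (f38 C) (f985 C) _ (by decide +kernel)

theorem f987 : C.S (v1 C) [37, 57, 89, 101, 117] :=
  C.stMul (f21 C) (f986 C) _ (by decide +kernel)

theorem f988 : C.S (v1 C) [22, 34, 62, 76, 108, 120] :=
  C.stMul (f11 C) (f987 C) _ (by decide +kernel)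

theorem f989 : C.S (v1 C) [4, 34, 62, 76, 108, 120] :=
  C.stMul (f21 C) (f988 C) _ (by decide +kernel)

theorem f990 : C.S (v1 C) [26, 27, 61, 78, 104, 112] :=
  C.stMul (f38 C) (f989 C) _ (by decide +kernel)

theorem f991 : C.S (v1 C) [22, 38, 50, 101, 110, 124] :=
  C.stMul (f38 C) (f990 C) _ (by decide +kernel)

theorem f992 : C.T (v1 C) [6, 43, 67, 87, 94, 109, 120] (v18 C) [21, 43, 52, 80, 98, 109, 120] :=
  C.conv (f948 C) (f984 C) (f991 C) _ [143, 150, 167, 174] _ (by decide +kernel) (by decide +kernel) (by decide +kernel)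

theorem f993 : C.T (v18 C) [21, 43, 52, 80, 98, 109, 120] (v1 C) [6, 43, 67, 87, 94, 109, 120] :=
  C.flip (f992 C)

theorem f994 : C.T (v17 C) [15, 45, 67, 80, 95, 112] (v18 C) [10, 43, 66, 75, 94, 124] :=
  C.closeT (p := (v1 C)) (pu := [19, 38, 68, 70, 90, 125])
    (C.pT (f975 C)
    (C.pH [12, 35, 50, 83] [15, 45, 67, 80, 95, 112] (by decide +kernel) (C.pNil _ _)))
    (C.pH [12, 35, 50, 83] [21, 43, 52, 80, 98, 109, 120] (by decide +kernel)
    (C.pT (f993 C)
    (C.pH [12, 35, 50, 83] [19, 38, 68, 70, 90, 125] (by decide +kernel) (C.pNil _ _))))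
    (C.loop_of_one (relLoop0 C) _ _)

theorem f1023 : C.S (v18 C) [] :=
  C.stOne _

theorem f1095 : C.T (v17 C) [23, 40, 54, 79, 97, 110, 119] (v1 C) [24, 48, 66, 87, 90, 121] :=
  C.conv (f736 C) (f745 C) (f745 C) _ [144, 152, 165, 172] _ (by decide +kernel) (by decide +kernel) (by decide +kernel)

theorem f1096 : C.T (v1 C) [6, 32, 58, 87, 105, 115] (v18 C) [31, 50, 75, 103, 109, 120] :=
  C.conv (f948 C) (f984 C) (f984 C) _ [152, 167, 178] _ (by decide +kernel) (by decide +kernel) (by decide +kernel)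

theorem f1097 : C.T (v18 C) [12, 39, 49, 85, 93, 121] (v17 C) [12, 36, 52, 71, 95, 109, 119] :=
  C.closeT (p := (v17 C)) (pu := [23, 40, 54, 79, 97, 110, 119])
    (C.pT (f1095 C)
    (C.pH [12, 35, 50, 83] [6, 32, 58, 87, 105, 115] (by decide +kernel)
    (C.pT (f1096 C)
    (C.pH [12, 35, 50, 83] [12, 39, 49, 85, 93, 121] (by decide +kernel) (C.pNil _ _)))))
    (C.pH [12, 35, 50, 83] [23, 40, 54, 79, 97, 110, 119] (by decide +kernel) (C.pNil _ _))
    (C.loop_of_one (relLoop0 C) _ _)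

theorem f1098 : C.T (v17 C) [12, 36, 52, 71, 95, 109, 119] (v18 C) [12, 39, 49, 85, 93, 121] :=
  C.flip (f1097 C)

theorem f1100 : C.S (v17 C) [19, 46, 69, 81, 102, 117] :=
  C.stMul (f741 C) (f688 C) _ (by decide +kernel)

theorem f1101 : C.S (v17 C) [20, 34, 64, 76, 92] :=
  C.stMul (f741 C) (f1100 C) _ (by decide +kernel)

theorem f1102 : C.S (v17 C) [21, 27, 63, 85, 100, 109, 123] :=
  C.stMul (f741 C) (f1101 C) _ (by decide +kernel)

theorem f1111 : C.T (v2 C) [13, 36, 65, 88, 103, 109, 114] (v19 C) [] :=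
  C.defn _ _

theorem f1112 : C.S (v2 C) [10, 41, 81, 93, 124] :=
  C.stMul (f46 C) (f58 C) _ (by decide +kernel)

theorem f1113 : C.S (v2 C) [21, 45, 66, 76, 103, 109, 123] :=
  C.stMul (f58 C) (f46 C) _ (by decide +kernel)

theorem f1114 : C.S (v2 C) [5, 46, 55, 83, 102, 109, 118] :=
  C.stInv (f1113 C) _ (by decide +kernel)

theorem f1115 : C.S (v2 C) [23, 37, 55, 75, 92, 110, 123] :=
  C.stMul (f1114 C) (f1112 C) _ (by decide +kernel)

theorem f1116 : C.S (v19 C) [47, 50, 105] :=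
  C.transfer (f1111 C) (f1115 C) [162, 166, 171, 178] _ (by decide +kernel) (by decide +kernel) (by decide +kernel)

theorem f1117 : C.S (v2 C) [19, 32, 61, 85, 104, 110, 117] :=
  C.stMul (f63 C) (f132 C) _ (by decide +kernel)

theorem f1118 : C.S (v2 C) [23, 39, 59, 79, 96, 109, 113] :=
  C.stMul (f46 C) (f132 C) _ (by decide +kernel)

theorem f1119 : C.S (v2 C) [22, 47, 52, 71, 90, 110, 117] :=
  C.stInv (f1118 C) _ (by decide +kernel)

theorem f1120 : C.S (v2 C) [19, 48, 66, 76, 101, 110, 114] :=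
  C.stMul (f1119 C) (f1117 C) _ (by decide +kernel)

theorem f1121 : C.S (v19 C) [7, 44, 58, 79, 105, 110, 119] :=
  C.transfer (f1111 C) (f1120 C) [129, 161, 167, 176, 177] _ (by decide +kernel) (by decide +kernel) (by decide +kernel)

theorem f1132 : C.S (v2 C) [23, 37, 58, 75, 104, 110, 119] :=
  C.stMul (f132 C) (f52 C) _ (by decide +kernel)

theorem f1133 : C.S (v2 C) [4, 29, 69, 84, 99, 109, 119] :=
  C.stMul (f46 C) (f1132 C) _ (by decide +kernel)

theorem f1134 : C.S (v2 C) [20, 33, 49, 80, 107, 110, 116] :=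
  C.stMul (f132 C) (f46 C) _ (by decide +kernel)

theorem f1135 : C.S (v2 C) [7, 35, 66, 108, 110, 116] :=
  C.stInv (f1134 C) _ (by decide +kernel)

theorem f1136 : C.S (v2 C) [15, 46, 56, 72, 107, 109, 122] :=
  C.stMul (f1135 C) (f1133 C) _ (by decide +kernel)

theorem f1137 : C.S (v19 C) [22, 40, 82, 99, 120] :=
  C.transfer (f1111 C) (f1136 C) [144, 154, 166, 175] _ (by decide +kernel) (by decide +kernel) (by decide +kernel)

theorem f1139 : C.T (v1 C) [17, 28, 68, 87, 103, 109, 113] (v2 C) [17, 40, 51, 80, 106, 109, 111] :=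
  C.conv (f40 C) (f122 C) (f122 C) _ [139, 164, 175, 178] _ (by decide +kernel) (by decide +kernel) (by decide +kernel)

theorem f1140 : C.S (v2 C) [23, 31, 65, 75, 95, 110, 115] :=
  C.stMul (f63 C) (f52 C) _ (by decide +kernel)

theorem f1141 : C.S (v2 C) [5, 43, 53, 78, 93, 115] :=
  C.stMul (f132 C) (f1140 C) _ (by decide +kernel)

theorem f1142 : C.S (v2 C) [19, 42, 55, 74, 90, 114] :=
  C.stMul (f132 C) (f1141 C) _ (by decide +kernel)

theorem f1143 : C.S (v2 C) [23, 37, 58, 75, 104, 110, 119] :=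
  C.stMul (f132 C) (f52 C) _ (by decide +kernel)

theorem f1144 : C.S (v2 C) [24, 29, 52, 85, 99, 109, 112] :=
  C.stMul (f52 C) (f1143 C) _ (by decide +kernel)

theorem f1145 : C.S (v2 C) [15, 44, 53, 88, 107, 110, 118] :=
  C.stMul (f46 C) (f1144 C) _ (by decide +kernel)

theorem f1146 : C.S (v2 C) [5, 35, 58, 81, 104, 110, 117] :=
  C.stMul (f52 C) (f1145 C) _ (by decide +kernel)

theorem f1147 : C.T (v2 C) [22, 35, 65, 81, 91, 109, 125] (v19 C) [15, 41, 58, 83, 105, 109, 118] :=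
  C.conv (f1111 C) (f1142 C) (f1146 C) _ [137, 155, 165, 172] _ (by decide +kernel) (by decide +kernel) (by decide +kernel)

theorem f1148 : C.S (v1 C) [17, 40, 57, 88, 97, 110, 120] :=
  C.stMul (f38 C) (f691 C) _ (by decide +kernel)

theorem f1149 : C.S (v1 C) [26, 40, 57, 88, 97, 110, 120] :=
  C.stMul (f21 C) (f1148 C) _ (by decide +kernel)

theorem f1150 : C.S (v1 C) [14, 44, 63, 75, 94, 110, 123] :=
  C.stMul (f11 C) (f1149 C) _ (by decide +kernel)

theorem f1151 : C.S (v1 C) [30, 63, 80, 93, 109, 118] :=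
  C.stMul (f38 C) (f1150 C) _ (by decide +kernel)

theorem f1152 : C.S (v1 C) [25, 35, 56, 71, 99, 109, 111] :=
  C.stMul (f38 C) (f1151 C) _ (by decide +kernel)

theorem f1153 : C.S (v1 C) [18, 35, 56, 71, 99, 109, 111] :=
  C.stMul (f21 C) (f1152 C) _ (by decide +kernel)

theorem f1154 : C.S (v1 C) [24, 48, 56, 76, 96, 110, 119] :=
  C.stMul (f38 C) (f1153 C) _ (by decide +kernel)

theorem f1155 : C.T (v1 C) [19, 46, 60, 96, 110] (v17 C) [19, 31, 53, 88, 105] :=
  C.conv (f653 C) (f696 C) (f1154 C) _ [141, 163, 164, 177] _ (by decide +kernel) (by decide +kernel) (by decide +kernel)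

theorem f1156 : C.T (v17 C) [19, 31, 53, 88, 105] (v1 C) [19, 46, 60, 96, 110] :=
  C.flip (f1155 C)

theorem f1157 : C.T (v19 C) [9, 35, 55, 72, 105, 110, 123] (v17 C) [15, 33, 63, 75, 104, 110, 121] :=
  C.closeT (p := (v1 C)) (pu := [17, 28, 68, 87, 103, 109, 113])
    (C.pT (f1139 C)
    (C.pH [8, 30, 65, 84, 94, 117] [22, 35, 65, 81, 91, 109, 125] (by decide +kernel)
    (C.pT (f1147 C)
    (C.pH [26, 38, 54, 89, 90, 113] [9, 35, 55, 72, 105, 110, 123] (by decide +kernel) (C.pNil _ _)))))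
    (C.pH [8, 30, 65, 84, 94, 117] [19, 31, 53, 88, 105] (by decide +kernel)
    (C.pT (f1156 C)
    (C.pH [26, 38, 54, 89, 90, 113] [17, 28, 68, 87, 103, 109, 113] (by decide +kernel) (C.pNil _ _))))
    (C.loop_of_one (relLoop1 C) _ _)

theorem f1158 : C.T (v17 C) [15, 33, 63, 75, 104, 110, 121] (v19 C) [9, 35, 55, 72, 105, 110, 123] :=
  C.flip (f1157 C)

theorem f1159 : C.T (v2 C) [13, 33, 69, 77, 92, 117] (v15 C) [9, 29, 56, 71, 95, 109, 115] :=
  C.conv (f499 C) (f501 C) (f501 C) _ [131, 161, 166, 172] _ (by decide +kernel) (by decide +kernel) (by decide +kernel)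

theorem f1160 : C.S (v2 C) [35, 69, 75, 105, 110, 125] :=
  C.stMul (f132 C) (f63 C) _ (by decide +kernel)

theorem f1161 : C.S (v2 C) [6, 45, 54, 77, 102, 109, 114] :=
  C.stMul (f52 C) (f1160 C) _ (by decide +kernel)

theorem f1162 : C.S (v2 C) [23, 43, 61, 71, 104, 109, 116] :=
  C.stMul (f63 C) (f1161 C) _ (by decide +kernel)

theorem f1163 : C.T (v2 C) [4, 33, 50, 76, 105, 123] (v19 C) [18, 44, 64, 79, 107, 110, 116] :=
  C.conv (f1111 C) (f1142 C) (f1162 C) _ [140, 151, 171] _ (by decide +kernel) (by decide +kernel) (by decide +kernel)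

theorem f1164 : C.T (v19 C) [18, 44, 64, 79, 107, 110, 116] (v2 C) [4, 33, 50, 76, 105, 123] :=
  C.flip (f1163 C)

theorem f1165 : C.T (v15 C) [17, 40, 62, 88, 92, 110, 121] (v19 C) [18, 43, 65, 79, 107, 110, 116] :=
  C.closeT (p := (v2 C)) (pu := [13, 33, 69, 77, 92, 117])
    (C.pT (f1159 C)
    (C.pH [12, 35, 50, 83] [17, 40, 62, 88, 92, 110, 121] (by decide +kernel) (C.pNil _ _)))
    (C.pH [12, 35, 50, 83] [18, 44, 64, 79, 107, 110, 116] (by decide +kernel)
    (C.pT (f1164 C)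
    (C.pH [12, 35, 50, 83] [13, 33, 69, 77, 92, 117] (by decide +kernel) (C.pNil _ _))))
    (C.loop_of_one (relLoop0 C) _ _)

theorem f1167 : C.T (v2 C) [26, 47, 68, 79, 101, 110, 123] (v17 C) [10, 46, 64, 87, 90] :=
  C.conv (f757 C) (f806 C) (f806 C) _ [143, 157, 168, 173] _ (by decide +kernel) (by decide +kernel) (by decide +kernel)

theorem f1168 : C.S (v2 C) [21, 45, 66, 76, 103, 109, 123] :=
  C.stMul (f58 C) (f46 C) _ (by decide +kernel)

theorem f1169 : C.S (v2 C) [7, 32, 64, 71, 107, 109, 116] :=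
  C.stMul (f132 C) (f1168 C) _ (by decide +kernel)

theorem f1170 : C.T (v2 C) [13, 48, 69, 88, 110, 116] (v19 C) [13, 43, 61, 78, 107, 109, 111] :=
  C.conv (f1111 C) (f1142 C) (f1169 C) _ [135, 157, 170, 173, 178] _ (by decide +kernel) (by decide +kernel) (by decide +kernel)

theorem f1171 : C.T (v19 C) [13, 43, 61, 78, 107, 109, 111] (v2 C) [13, 48, 69, 88, 110, 116] :=
  C.flip (f1170 C)

theorem f1172 : C.T (v17 C) [21, 39, 52, 80, 103, 109, 122] (v19 C) [4, 41, 61, 78, 107, 109, 111] :=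
  C.closeT (p := (v2 C)) (pu := [26, 47, 68, 79, 101, 110, 123])
    (C.pT (f1167 C)
    (C.pH [12, 35, 50, 83] [21, 39, 52, 80, 103, 109, 122] (by decide +kernel) (C.pNil _ _)))
    (C.pH [12, 35, 50, 83] [13, 43, 61, 78, 107, 109, 111] (by decide +kernel)
    (C.pT (f1171 C)
    (C.pH [12, 35, 50, 83] [26, 47, 68, 79, 101, 110, 123] (by decide +kernel) (C.pNil _ _))))
    (C.loop_of_one (relLoop0 C) _ _)

theorem f1173 : C.S (v17 C) [18, 47, 57, 80, 96, 119] :=
  C.stInv (f688 C) _ (by decide +kernel)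

theorem f1174 : C.S (v17 C) [21, 46, 61, 71, 99, 110, 125] :=
  C.stMul (f1173 C) (f741 C) _ (by decide +kernel)

theorem f1175 : C.S (v19 C) [10, 28, 67, 79, 103, 111] :=
  C.transfer (f1172 C) (f1174 C) [138, 154, 166, 172, 178] _ (by decide +kernel) (by decide +kernel) (by decide +kernel)

theorem f1176 : C.T (v19 C) [4, 41, 61, 78, 107, 109, 111] (v17 C) [21, 39, 52, 80, 103, 109, 122] :=
  C.flip (f1172 C)

theorem f1178 : C.T (v2 C) [18, 28, 56, 82, 92, 110] (v3 C) [18, 41, 64, 80, 95, 110, 112] :=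
  C.conv (f65 C) (f138 C) (f138 C) _ [140, 153, 169, 172] _ (by decide +kernel) (by decide +kernel) (by decide +kernel)

theorem f1179 : C.S (v3 C) [20, 30, 65, 70, 91, 110, 125] :=
  C.stMul (f159 C) (f68 C) _ (by decide +kernel)

theorem f1180 : C.S (v3 C) [24, 37, 49, 72, 91, 123] :=
  C.stMul (f66 C) (f1179 C) _ (by decide +kernel)

theorem f1181 : C.S (v3 C) [17, 44, 55, 70, 95, 110, 115] :=
  C.stMul (f66 C) (f1180 C) _ (by decide +kernel)

theorem f1182 : C.T (v3 C) [4, 34, 68, 83, 110, 124] (v16 C) [5, 47, 67, 83, 109, 121] :=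
  C.conv (f560 C) (f595 C) (f1181 C) _ [127, 160, 166, 178] _ (by decide +kernel) (by decide +kernel) (by decide +kernel)

theorem f1183 : C.S (v2 C) [12, 39, 50, 77, 107, 123] :=
  C.stMul (f63 C) (f1168 C) _ (by decide +kernel)

theorem f1184 : C.S (v2 C) [10, 29, 68, 77, 104, 110, 117] :=
  C.stMul (f132 C) (f1183 C) _ (by decide +kernel)

theorem f1185 : C.T (v2 C) [25, 29, 69, 82, 102, 117] (v19 C) [6, 34, 58, 78, 99, 110, 123] :=
  C.conv (f1111 C) (f1142 C) (f1184 C) _ [128, 162, 165, 175] _ (by decide +kernel) (by decide +kernel) (by decide +kernel)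

theorem f1186 : C.T (v19 C) [6, 34, 58, 78, 99, 110, 123] (v2 C) [25, 29, 69, 82, 102, 117] :=
  C.flip (f1185 C)

theorem f1187 : C.T (v16 C) [8, 35, 59, 83, 103, 109, 112] (v19 C) [22, 36, 59, 72, 105, 110, 125] :=
  C.closeT (p := (v2 C)) (pu := [18, 28, 56, 82, 92, 110])
    (C.pT (f1178 C)
    (C.pH [8, 30, 65, 84, 94, 117] [4, 34, 68, 83, 110, 124] (by decide +kernel)
    (C.pT (f1182 C)
    (C.pH [26, 38, 54, 89, 90, 113] [8, 35, 59, 83, 103, 109, 112] (by decide +kernel) (C.pNil _ _)))))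
    (C.pH [8, 30, 65, 84, 94, 117] [6, 34, 58, 78, 99, 110, 123] (by decide +kernel)
    (C.pT (f1186 C)
    (C.pH [26, 38, 54, 89, 90, 113] [18, 28, 56, 82, 92, 110] (by decide +kernel) (C.pNil _ _))))
    (C.loop_of_one (relLoop1 C) _ _)

theorem f1189 : C.T (v2 C) [16, 30, 54, 75, 105, 110, 115] (v3 C) [16, 39, 82, 92, 117] :=
  C.conv (f65 C) (f138 C) (f138 C) _ [138, 155, 167, 174, 177] _ (by decide +kernel) (by decide +kernel) (by decide +kernel)

theorem f1190 : C.S (v3 C) [8, 48, 51, 88, 110, 118] :=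
  C.stMul (f68 C) (f135 C) _ (by decide +kernel)

theorem f1191 : C.S (v3 C) [16, 32, 62, 73, 107, 124] :=
  C.stMul (f159 C) (f1190 C) _ (by decide +kernel)

theorem f1192 : C.S (v3 C) [8, 48, 61, 89, 90, 109, 114] :=
  C.stMul (f159 C) (f1191 C) _ (by decide +kernel)

theorem f1193 : C.T (v3 C) [13, 32, 54, 98] (v16 C) [15, 44, 85, 97, 109, 123] :=
  C.conv (f560 C) (f595 C) (f1192 C) _ [137, 167, 173, 177] _ (by decide +kernel) (by decide +kernel) (by decide +kernel)

theorem f1194 : C.S (v2 C) [25, 43, 63, 71, 104, 110, 113] :=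
  C.stMul (f58 C) (f63 C) _ (by decide +kernel)

theorem f1195 : C.S (v2 C) [11, 36, 59, 72, 108, 110, 112] :=
  C.stMul (f52 C) (f1194 C) _ (by decide +kernel)

theorem f1196 : C.S (v2 C) [25, 47, 57, 73, 101, 125] :=
  C.stMul (f63 C) (f1195 C) _ (by decide +kernel)

theorem f1197 : C.T (v2 C) [24, 33, 54, 81, 93, 113] (v19 C) [16, 31, 56, 88, 100, 109, 113] :=
  C.conv (f1111 C) (f1142 C) (f1196 C) _ [138, 159, 166, 175, 178] _ (by decide +kernel) (by decide +kernel) (by decide +kernel)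

theorem f1198 : C.T (v19 C) [16, 31, 56, 88, 100, 109, 113] (v2 C) [24, 33, 54, 81, 93, 113] :=
  C.flip (f1197 C)

theorem f1199 : C.T (v16 C) [19, 29, 62, 78, 105, 110, 114] (v19 C) [26, 47, 56, 79, 109, 113] :=
  C.closeT (p := (v2 C)) (pu := [16, 30, 54, 75, 105, 110, 115])
    (C.pT (f1189 C)
    (C.pH [26, 38, 54, 89, 90, 113] [13, 32, 54, 98] (by decide +kernel)
    (C.pT (f1193 C)
    (C.pH [8, 30, 65, 84, 94, 117] [19, 29, 62, 78, 105, 110, 114] (by decide +kernel) (C.pNil _ _)))))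
    (C.pH [26, 38, 54, 89, 90, 113] [16, 31, 56, 88, 100, 109, 113] (by decide +kernel)
    (C.pT (f1198 C)
    (C.pH [8, 30, 65, 84, 94, 117] [16, 30, 54, 75, 105, 110, 115] (by decide +kernel) (C.pNil _ _))))
    (C.loop_of_one (relLoop2 C) _ _)

theorem f1200 : C.T (v19 C) [26, 47, 56, 79, 109, 113] (v16 C) [19, 29, 62, 78, 105, 110, 114] :=
  C.flip (f1199 C)

theorem f1210 : C.T (v15 C) [5, 36, 57, 82, 108, 125] (v19 C) [7, 41, 61, 83, 108, 109, 119] :=
  C.conv (f1165 C) (f635 C) (f635 C) _ [142, 151, 170, 172] _ (by decide +kernel) (by decide +kernel) (by decide +kernel)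

theorem f1211 : C.S (v15 C) [20, 37, 49, 82, 92, 125] :=
  C.stMul (f490 C) (f484 C) _ (by decide +kernel)

theorem f1212 : C.T (v15 C) [5, 30, 51, 76, 104, 125] (v10 C) [4, 28, 64, 85, 105, 109, 119] :=
  C.conv (f507 C) (f634 C) (f1211 C) _ [145, 163, 176] _ (by decide +kernel) (by decide +kernel) (by decide +kernel)

theorem f1213 : C.T (v15 C) [5, 30, 51, 76, 104, 125] (v16 C) [20, 54, 75, 95, 125] :=
  C.substR (f1212 C) (f844 C) _ (by decide +kernel)

theorem f1214 : C.T (v16 C) [20, 54, 75, 95, 125] (v15 C) [5, 30, 51, 76, 104, 125] :=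
  C.flip (f1213 C)

theorem f1215 : C.T (v19 C) [7, 45, 56, 77, 99, 110, 116] (v16 C) [11, 43, 60, 71, 106, 110, 116] :=
  C.closeT (p := (v15 C)) (pu := [5, 36, 57, 82, 108, 125])
    (C.pT (f1210 C)
    (C.pH [12, 35, 50, 83] [7, 45, 56, 77, 99, 110, 116] (by decide +kernel) (C.pNil _ _)))
    (C.pH [12, 35, 50, 83] [20, 54, 75, 95, 125] (by decide +kernel)
    (C.pT (f1214 C)
    (C.pH [12, 35, 50, 83] [5, 36, 57, 82, 108, 125] (by decide +kernel) (C.pNil _ _))))
    (C.loop_of_one (relLoop0 C) _ _)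

theorem f1216 : C.T (v16 C) [11, 43, 60, 71, 106, 110, 116] (v19 C) [7, 45, 56, 77, 99, 110, 116] :=
  C.flip (f1215 C)

theorem f1218 : C.S (v16 C) [9, 34, 68, 81, 104, 109, 112] :=
  C.stMul (f581 C) (f565 C) _ (by decide +kernel)

theorem f1224 : C.S (v19 C) [] :=
  C.stOne _

theorem f1226 : C.T (v17 C) [8, 35, 56, 76, 107, 110, 111] (v19 C) [6, 37, 51, 89, 95] :=
  C.conv (f1158 C) (f658 C) (f658 C) _ [133, 167, 173, 178] _ (by decide +kernel) (by decide +kernel) (by decide +kernel)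

theorem f1227 : C.S (v17 C) [7, 29, 60, 88, 102, 125] :=
  C.stMul (f741 C) (f741 C) _ (by decide +kernel)

theorem f1228 : C.S (v17 C) [22, 31, 59, 73, 95, 109, 118] :=
  C.stMul (f688 C) (f1227 C) _ (by decide +kernel)

theorem f1229 : C.S (v17 C) [6, 48, 68, 87, 108, 109, 111] :=
  C.stMul (f741 C) (f1228 C) _ (by decide +kernel)

theorem f1230 : C.T (v17 C) [21, 35, 55, 82, 93, 113] (v18 C) [10, 37, 54, 89, 108, 117] :=
  C.conv (f994 C) (f746 C) (f1229 C) _ [141, 162, 167, 172, 178] _ (by decide +kernel) (by decide +kernel) (by decide +kernel)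

theorem f1231 : C.T (v18 C) [10, 37, 54, 89, 108, 117] (v17 C) [21, 35, 55, 82, 93, 113] :=
  C.flip (f1230 C)

theorem f1232 : C.T (v19 C) [19, 32, 67, 83, 102, 109, 119] (v18 C) [8, 37, 53, 82, 94, 110, 118] :=
  C.closeT (p := (v17 C)) (pu := [8, 35, 56, 76, 107, 110, 111])
    (C.pT (f1226 C)
    (C.pH [12, 35, 50, 83] [19, 32, 67, 83, 102, 109, 119] (by decide +kernel) (C.pNil _ _)))
    (C.pH [12, 35, 50, 83] [10, 37, 54, 89, 108, 117] (by decide +kernel)
    (C.pT (f1231 C)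
    (C.pH [12, 35, 50, 83] [8, 35, 56, 76, 107, 110, 111] (by decide +kernel) (C.pNil _ _))))
    (C.loop_of_one (relLoop0 C) _ _)

theorem f1233 : C.T (v18 C) [8, 37, 53, 82, 94, 110, 118] (v19 C) [19, 32, 67, 83, 102, 109, 119] :=
  C.flip (f1232 C)

theorem f1666 : C.T (v2 C) [23, 40, 60, 76, 102, 115] (v22 C) [] :=
  C.defn _ _

theorem f1667 : C.S (v2 C) [6, 64, 80, 100, 114] :=
  C.stInv (f52 C) _ (by decide +kernel)

theorem f1668 : C.S (v2 C) [9, 48, 68, 84, 90, 122] :=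
  C.stMul (f1667 C) (f58 C) _ (by decide +kernel)

theorem f1669 : C.S (v22 C) [22, 34, 51, 87, 102, 122] :=
  C.transfer (f1666 C) (f1668 C) [144, 150, 167, 171] _ (by decide +kernel) (by decide +kernel) (by decide +kernel)

theorem f1670 : C.S (v2 C) [19, 44, 61, 78, 94, 122] :=
  C.stMul (f46 C) (f52 C) _ (by decide +kernel)

theorem f1671 : C.S (v2 C) [7, 27, 58, 71, 93, 109, 123] :=
  C.stMul (f63 C) (f46 C) _ (by decide +kernel)

theorem f1672 : C.S (v2 C) [7, 27, 58, 71, 93, 109, 123] :=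
  C.stInv (f1671 C) _ (by decide +kernel)

theorem f1673 : C.S (v2 C) [4, 34, 53, 84, 105, 110, 122] :=
  C.stMul (f1672 C) (f1670 C) _ (by decide +kernel)

theorem f1674 : C.S (v22 C) [8, 47, 54, 79, 98, 109, 121] :=
  C.transfer (f1666 C) (f1673 C) [130, 154, 169, 175, 178] _ (by decide +kernel) (by decide +kernel) (by decide +kernel)

theorem f1677 : C.S (v2 C) [10, 41, 81, 93, 124] :=
  C.stMul (f46 C) (f58 C) _ (by decide +kernel)

theorem f1722 : C.T (v17 C) [13, 40, 49, 84, 103, 109, 119] (v2 C) [5, 46, 59, 88, 99, 109, 112] :=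
  C.conv (f758 C) (f677 C) (f677 C) _ [132, 156, 167, 175] _ (by decide +kernel) (by decide +kernel) (by decide +kernel)

theorem f1723 : C.S (v2 C) [20, 33, 49, 80, 107, 110, 116] :=
  C.stMul (f132 C) (f46 C) _ (by decide +kernel)

theorem f1724 : C.S (v2 C) [6, 45, 69, 81, 91, 113] :=
  C.stMul (f46 C) (f1723 C) _ (by decide +kernel)

theorem f1725 : C.S (v2 C) [19, 46, 50, 81, 99, 109, 118] :=
  C.stMul (f46 C) (f1724 C) _ (by decide +kernel)

theorem f1726 : C.T (v2 C) [5, 30, 59, 88, 99, 109, 112] (v22 C) [14, 32, 67, 76, 95, 121] :=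
  C.conv (f1666 C) (f1677 C) (f1725 C) _ [136, 162, 167, 172] _ (by decide +kernel) (by decide +kernel) (by decide +kernel)

theorem f1727 : C.T (v22 C) [14, 33, 50, 80, 91, 111] (v17 C) [4, 28, 51, 87, 92, 109, 123] :=
  C.closeT (p := (v17 C)) (pu := [13, 40, 49, 84, 103, 109, 119])
    (C.pT (f1722 C)
    (C.pH [12, 35, 50, 83] [5, 30, 59, 88, 99, 109, 112] (by decide +kernel)
    (C.pT (f1726 C)
    (C.pH [12, 35, 50, 83] [14, 33, 50, 80, 91, 111] (by decide +kernel) (C.pNil _ _)))))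
    (C.pH [12, 35, 50, 83] [13, 40, 49, 84, 103, 109, 119] (by decide +kernel) (C.pNil _ _))
    (C.loop_of_one (relLoop0 C) _ _)

theorem f1728 : C.T (v17 C) [4, 28, 51, 87, 92, 109, 123] (v22 C) [14, 33, 50, 80, 91, 111] :=
  C.flip (f1727 C)

theorem f1729 : C.T (v17 C) [15, 41, 49, 86, 91, 110, 113] (v18 C) [12, 29, 55, 88, 96, 109, 117] :=
  C.conv (f994 C) (f746 C) (f746 C) _ [132, 161, 167, 177] _ (by decide +kernel) (by decide +kernel) (by decide +kernel)

theorem f1730 : C.S (v17 C) [19, 46, 69, 81, 102, 117] :=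
  C.stMul (f741 C) (f688 C) _ (by decide +kernel)

theorem f1731 : C.S (v17 C) [20, 34, 64, 76, 92] :=
  C.stMul (f741 C) (f1730 C) _ (by decide +kernel)

theorem f1732 : C.T (v17 C) [15, 36, 50, 78, 93, 113] (v22 C) [11, 36, 84, 99, 110] :=
  C.conv (f1728 C) (f1731 C) (f665 C) _ [143, 155, 170, 174, 177] _ (by decide +kernel) (by decide +kernel) (by decide +kernel)

theorem f1733 : C.T (v22 C) [11, 36, 84, 99, 110] (v17 C) [15, 36, 50, 78, 93, 113] :=
  C.flip (f1732 C)

theorem f1734 : C.T (v18 C) [23, 37, 53, 104, 110, 124] (v22 C) [22, 27, 49, 72, 90, 109, 118] :=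
  C.closeT (p := (v17 C)) (pu := [15, 41, 49, 86, 91, 110, 113])
    (C.pT (f1729 C)
    (C.pH [12, 35, 50, 83] [23, 37, 53, 104, 110, 124] (by decide +kernel) (C.pNil _ _)))
    (C.pH [12, 35, 50, 83] [11, 36, 84, 99, 110] (by decide +kernel)
    (C.pT (f1733 C)
    (C.pH [12, 35, 50, 83] [15, 41, 49, 86, 91, 110, 113] (by decide +kernel) (C.pNil _ _))))
    (C.loop_of_one (relLoop0 C) _ _)

theorem f1743 : C.T (v17 C) [26, 47, 63, 84, 109, 112] (v17 C) [17, 31, 61, 70, 97, 125] :=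
  C.conv (f826 C) (f746 C) (f746 C) _ [143, 149, 168, 171, 177] _ (by decide +kernel) (by decide +kernel) (by decide +kernel)

theorem f1744 : C.T (v17 C) [22, 47, 58, 74, 97, 113] (v22 C) [23, 32, 52, 73, 107, 109, 121] :=
  C.conv (f1728 C) (f1731 C) (f658 C) _ [146, 151, 164, 173] _ (by decide +kernel) (by decide +kernel) (by decide +kernel)

theorem f1745 : C.T (v17 C) [35, 57, 73, 92, 110, 119] (v22 C) [23, 37, 51, 72, 105, 109, 125] :=
  C.conv (f1728 C) (f1731 C) (f658 C) _ [126, 153, 174, 177] _ (by decide +kernel) (by decide +kernel) (by decide +kernel)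

theorem f1746 : C.T (v22 C) [23, 37, 51, 72, 105, 109, 125] (v17 C) [35, 57, 73, 92, 110, 119] :=
  C.flip (f1745 C)

theorem f1747 : C.T (v22 C) [7, 41, 60, 73, 107, 109, 124] (v22 C) [20, 48, 59, 73, 97, 109] :=
  C.closeT (p := (v17 C)) (pu := [26, 47, 63, 84, 109, 112])
    (C.pT (f1743 C)
    (C.pH [8, 30, 65, 84, 94, 117] [22, 47, 58, 74, 97, 113] (by decide +kernel)
    (C.pT (f1744 C)
    (C.pH [26, 38, 54, 89, 90, 113] [7, 41, 60, 73, 107, 109, 124] (by decide +kernel) (C.pNil _ _)))))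
    (C.pH [8, 30, 65, 84, 94, 117] [23, 37, 51, 72, 105, 109, 125] (by decide +kernel)
    (C.pT (f1746 C)
    (C.pH [26, 38, 54, 89, 90, 113] [26, 47, 63, 84, 109, 112] (by decide +kernel) (C.pNil _ _))))
    (C.loop_of_one (relLoop1 C) _ _)

theorem f1768 : C.S (v22 C) [] :=
  C.stOne _

theorem f1770 : C.T (v18 C) [25, 45, 57, 73, 90, 110, 119] (v22 C) [13, 43, 69, 73, 109, 115] :=
  C.conv (f1734 C) (f1023 C) (f1023 C) _ [126, 162, 173] _ (by decide +kernel) (by decide +kernel) (by decide +kernel)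

theorem f1771 : C.T (v18 C) [17, 33, 64, 84, 108, 109, 125] (v19 C) [13, 44, 69, 88, 93, 110] :=
  C.conv (f1233 C) (f973 C) (f1023 C) _ [138, 156, 169, 173, 177] _ (by decide +kernel) (by decide +kernel) (by decide +kernel)

theorem f1772 : C.T (v19 C) [13, 44, 69, 88, 93, 110] (v18 C) [17, 33, 64, 84, 108, 109, 125] :=
  C.flip (f1771 C)

theorem f1773 : C.T (v22 C) [26, 38, 52, 71, 108, 109, 112] (v19 C) [4, 46, 66, 89, 92, 110, 113] :=
  C.closeT (p := (v18 C)) (pu := [25, 45, 57, 73, 90, 110, 119])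
    (C.pT (f1770 C)
    (C.pH [12, 35, 50, 83] [26, 38, 52, 71, 108, 109, 112] (by decide +kernel) (C.pNil _ _)))
    (C.pH [12, 35, 50, 83] [13, 44, 69, 88, 93, 110] (by decide +kernel)
    (C.pT (f1772 C)
    (C.pH [12, 35, 50, 83] [25, 45, 57, 73, 90, 110, 119] (by decide +kernel) (C.pNil _ _))))
    (C.loop_of_one (relLoop0 C) _ _)

theorem f1774 : C.T (v19 C) [4, 46, 66, 89, 92, 110, 113] (v22 C) [26, 38, 52, 71, 108, 109, 112] :=
  C.flip (f1773 C)

theorem f1790 : C.T (v19 C) [20, 34, 89, 97, 109, 113] (v22 C) [17, 40, 66, 84, 108, 109, 119] :=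
  C.conv (f1774 C) (f1121 C) (f1121 C) _ [126, 159, 168, 174] _ (by decide +kernel) (by decide +kernel) (by decide +kernel)

theorem f1791 : C.T (v22 C) [22, 35, 50, 78, 105, 109, 112] (v22 C) [12, 47, 63, 88, 98, 109, 118] :=
  C.conv (f1747 C) (f1669 C) (f1669 C) _ [142, 152, 166, 175] _ (by decide +kernel) (by decide +kernel) (by decide +kernel)

theorem f1792 : C.T (v19 C) [17, 38, 66, 86, 107] (v16 C) [8, 31, 61, 82, 105, 109, 114] :=
  C.conv (f1200 C) (f1175 C) (f1175 C) _ [144, 158, 166, 176, 178] _ (by decide +kernel) (by decide +kernel) (by decide +kernel)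

theorem f1793 : C.T (v16 C) [8, 31, 61, 82, 105, 109, 114] (v19 C) [17, 38, 66, 86, 107] :=
  C.flip (f1792 C)

theorem f1794 : C.T (v22 C) [14, 30, 64, 86, 91, 109, 120] (v16 C) [36, 57, 70, 99, 117] :=
  C.closeT (p := (v19 C)) (pu := [20, 34, 89, 97, 109, 113])
    (C.pT (f1790 C)
    (C.pH [8, 30, 65, 84, 94, 117] [22, 35, 50, 78, 105, 109, 112] (by decide +kernel)
    (C.pT (f1791 C)
    (C.pH [26, 38, 54, 89, 90, 113] [14, 30, 64, 86, 91, 109, 120] (by decide +kernel) (C.pNil _ _)))))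
    (C.pH [8, 30, 65, 84, 94, 117] [8, 31, 61, 82, 105, 109, 114] (by decide +kernel)
    (C.pT (f1793 C)
    (C.pH [26, 38, 54, 89, 90, 113] [20, 34, 89, 97, 109, 113] (by decide +kernel) (C.pNil _ _))))
    (C.loop_of_one (relLoop1 C) _ _)

theorem f1872 : C.T (v15 C) [7, 35, 67, 79, 101, 109, 118] (v23 C) [] :=
  C.defn _ _

theorem f1873 : C.S (v15 C) [7, 35, 53, 84, 101, 109, 122] :=
  C.stMul (f490 C) (f471 C) _ (by decide +kernel)

theorem f1874 : C.S (v15 C) [22, 38, 68, 78, 106, 110, 125] :=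
  C.stMul (f471 C) (f1873 C) _ (by decide +kernel)

theorem f1875 : C.S (v15 C) [22, 40, 82, 99, 120] :=
  C.stMul (f479 C) (f471 C) _ (by decide +kernel)

theorem f1876 : C.S (v15 C) [22, 28, 67, 83, 94, 123] :=
  C.stMul (f484 C) (f1875 C) _ (by decide +kernel)

theorem f1877 : C.S (v15 C) [20, 44, 49, 83, 97, 110, 112] :=
  C.stInv (f1876 C) _ (by decide +kernel)

theorem f1878 : C.S (v15 C) [31, 50, 80, 94, 109, 122] :=
  C.stMul (f1877 C) (f1874 C) _ (by decide +kernel)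

theorem f1879 : C.S (v23 C) [58, 70, 102, 125] :=
  C.transfer (f1872 C) (f1878 C) [166, 175, 178] _ (by decide +kernel) (by decide +kernel) (by decide +kernel)

theorem f1882 : C.S (v15 C) [22, 40, 82, 99, 120] :=
  C.stMul (f479 C) (f471 C) _ (by decide +kernel)

theorem f1883 : C.S (v15 C) [7, 40, 49, 77, 91, 109, 111] :=
  C.stMul (f471 C) (f1882 C) _ (by decide +kernel)

theorem f1884 : C.S (v15 C) [23, 38, 66, 89, 99, 110, 118] :=
  C.stMul (f479 C) (f1883 C) _ (by decide +kernel)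

theorem f1885 : C.S (v15 C) [11, 31, 85, 98, 110, 117] :=
  C.stMul (f471 C) (f1884 C) _ (by decide +kernel)

theorem f1923 : C.T (v4 C) [5, 56, 81, 109, 118] (v15 C) [12, 29, 59, 77, 95, 110, 120] :=
  C.conv (f514 C) (f276 C) (f276 C) _ [141, 155, 168, 175, 178] _ (by decide +kernel) (by decide +kernel) (by decide +kernel)

theorem f1924 : C.S (v15 C) [37, 55, 74, 95, 109, 116] :=
  C.stMul (f479 C) (f475 C) _ (by decide +kernel)

theorem f1925 : C.S (v15 C) [18, 35, 65, 82, 100, 109, 116] :=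
  C.stMul (f471 C) (f1924 C) _ (by decide +kernel)

theorem f1926 : C.S (v15 C) [18, 45, 65, 85, 98, 117] :=
  C.stMul (f484 C) (f1925 C) _ (by decide +kernel)

theorem f1927 : C.T (v15 C) [23, 37, 55, 70, 103, 109, 124] (v23 C) [7, 45, 55, 89, 92, 109, 125] :=
  C.conv (f1872 C) (f1885 C) (f1926 C) _ [129, 150, 168, 172] _ (by decide +kernel) (by decide +kernel) (by decide +kernel)

theorem f1928 : C.T (v23 C) [7, 48, 62, 97, 114] (v4 C) [5, 34, 56, 81, 109, 118] :=
  C.closeT (p := (v4 C)) (pu := [5, 56, 81, 109, 118])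
    (C.pT (f1923 C)
    (C.pH [12, 35, 50, 83] [23, 37, 55, 70, 103, 109, 124] (by decide +kernel)
    (C.pT (f1927 C)
    (C.pH [12, 35, 50, 83] [7, 48, 62, 97, 114] (by decide +kernel) (C.pNil _ _)))))
    (C.pH [12, 35, 50, 83] [5, 56, 81, 109, 118] (by decide +kernel) (C.pNil _ _))
    (C.loop_of_one (relLoop0 C) _ _)

theorem f1948 : C.S (v23 C) [] :=
  C.stOne _

theorem f1950 : C.T (v15 C) [25, 40, 65, 87, 102, 109, 124] (v15 C) [21, 42, 59, 73, 108, 109, 114] :=
  C.conv (f819 C) (f821 C) (f821 C) _ [133, 151, 168, 174] _ (by decide +kernel) (by decide +kernel) (by decide +kernel)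

theorem f1951 : C.S (v15 C) [18, 34, 66, 85, 119] :=
  C.stMul (f471 C) (f484 C) _ (by decide +kernel)

theorem f1952 : C.S (v15 C) [22, 27, 50, 72, 105, 109, 124] :=
  C.stMul (f479 C) (f1951 C) _ (by decide +kernel)

theorem f1953 : C.S (v15 C) [22, 49, 77, 91, 109, 111] :=
  C.stMul (f484 C) (f1952 C) _ (by decide +kernel)

theorem f1954 : C.T (v15 C) [6, 45, 62, 75, 91, 110, 124] (v23 C) [18, 46, 59, 76, 99, 119] :=
  C.conv (f1872 C) (f1885 C) (f1953 C) _ [140, 156, 169, 174, 177] _ (by decide +kernel) (by decide +kernel) (by decide +kernel)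

theorem f1955 : C.T (v15 C) [4, 34, 56, 88, 97, 113] (v23 C) [21, 32, 50, 78, 108, 110, 120] :=
  C.conv (f1872 C) (f1885 C) (f1925 C) _ [143, 153, 164, 173] _ (by decide +kernel) (by decide +kernel) (by decide +kernel)

theorem f1956 : C.T (v23 C) [21, 32, 50, 78, 108, 110, 120] (v15 C) [4, 34, 56, 88, 97, 113] :=
  C.flip (f1955 C)

theorem f1957 : C.T (v23 C) [4, 37, 59, 95, 113] (v23 C) [10, 29, 65, 70, 99, 110, 112] :=
  C.closeT (p := (v15 C)) (pu := [25, 40, 65, 87, 102, 109, 124])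
    (C.pT (f1950 C)
    (C.pH [26, 38, 54, 89, 90, 113] [6, 45, 62, 75, 91, 110, 124] (by decide +kernel)
    (C.pT (f1954 C)
    (C.pH [8, 30, 65, 84, 94, 117] [4, 37, 59, 95, 113] (by decide +kernel) (C.pNil _ _)))))
    (C.pH [26, 38, 54, 89, 90, 113] [21, 32, 50, 78, 108, 110, 120] (by decide +kernel)
    (C.pT (f1956 C)
    (C.pH [8, 30, 65, 84, 94, 117] [25, 40, 65, 87, 102, 109, 124] (by decide +kernel) (C.pNil _ _))))
    (C.loop_of_one (relLoop2 C) _ _)

theorem f2012 : C.T (v23 C) [15, 35, 68, 87, 91, 109, 117] (v23 C) [14, 41, 57, 88, 94, 110] :=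
  C.conv (f1957 C) (f1948 C) (f1948 C) _ [147, 162, 164, 177] _ (by decide +kernel) (by decide +kernel) (by decide +kernel)

theorem f2013 : C.T (v23 C) [20, 32, 66, 88, 91, 109, 113] (v4 C) [15, 29, 49, 71, 104, 124] :=
  C.conv (f1928 C) (f1948 C) (f1948 C) _ [144, 155, 165, 176] _ (by decide +kernel) (by decide +kernel) (by decide +kernel)

theorem f2014 : C.T (v4 C) [15, 29, 49, 71, 104, 124] (v23 C) [20, 32, 66, 88, 91, 109, 113] :=
  C.flip (f2013 C)

theorem f2015 : C.S (v4 C) [18, 47, 68, 71, 90, 110, 124] :=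
  C.stMul (f171 C) (f176 C) _ (by decide +kernel)

theorem f2016 : C.S (v4 C) [11, 38, 67, 73, 108, 110, 122] :=
  C.stMul (f182 C) (f2015 C) _ (by decide +kernel)

theorem f2017 : C.T (v4 C) [10, 27, 63, 83, 102, 109, 117] (v5 C) [7, 28, 83, 106, 109, 122] :=
  C.conv (f299 C) (f182 C) (f2016 C) _ [143, 161, 166, 174, 177] _ (by decide +kernel) (by decide +kernel) (by decide +kernel)

theorem f2018 : C.T (v5 C) [7, 28, 83, 106, 109, 122] (v4 C) [10, 27, 63, 83, 102, 109, 117] :=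
  C.flip (f2017 C)

theorem f2019 : C.T (v23 C) [5, 47, 55, 85, 93, 109, 123] (v5 C) [23, 42, 65, 83, 90, 112] :=
  C.closeT (p := (v23 C)) (pu := [15, 35, 68, 87, 91, 109, 117])
    (C.pT (f2012 C)
    (C.pH [8, 30, 65, 84, 94, 117] [5, 47, 55, 85, 93, 109, 123] (by decide +kernel) (C.pNil _ _)))
    (C.pH [26, 38, 54, 89, 90, 113] [7, 28, 83, 106, 109, 122] (by decide +kernel)
    (C.pT (f2018 C)
    (C.pH [8, 30, 65, 84, 94, 117] [15, 29, 49, 71, 104, 124] (by decide +kernel)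
    (C.pT (f2014 C)
    (C.pH [26, 38, 54, 89, 90, 113] [15, 35, 68, 87, 91, 109, 117] (by decide +kernel) (C.pNil _ _))))))
    (C.loop_of_one (relLoop1 C) _ _)

theorem f2443 : C.T (v15 C) [26, 45, 60, 84, 105, 110, 115] (v27 C) [] :=
  C.defn _ _

theorem f2444 : C.S (v27 C) [12, 46, 68, 84, 104, 110, 121] :=
  C.transfer (f2443 C) (f484 C) [134, 160, 170, 175] _ (by decide +kernel) (by decide +kernel) (by decide +kernel)

theorem f2461 : C.T (v2 C) [5, 38, 55, 78, 104, 110, 111] (v15 C) [8, 45, 67, 74, 105, 109, 111] :=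
  C.conv (f499 C) (f501 C) (f501 C) _ [130, 158, 165, 175, 177] _ (by decide +kernel) (by decide +kernel) (by decide +kernel)

theorem f2462 : C.S (v15 C) [32, 57, 85, 120] :=
  C.stMul (f479 C) (f479 C) _ (by decide +kernel)

theorem f2463 : C.S (v15 C) [12, 28, 52, 71, 94, 110, 120] :=
  C.stMul (f479 C) (f2462 C) _ (by decide +kernel)

theorem f2464 : C.S (v15 C) [22, 40, 82, 99, 120] :=
  C.stMul (f479 C) (f471 C) _ (by decide +kernel)

theorem f2465 : C.S (v15 C) [38, 57, 73, 92, 109, 116] :=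
  C.stMul (f490 C) (f2464 C) _ (by decide +kernel)

theorem f2466 : C.S (v15 C) [18, 33, 61, 70, 104, 125] :=
  C.stMul (f471 C) (f2465 C) _ (by decide +kernel)

theorem f2467 : C.T (v15 C) [29, 56, 86, 97, 123] (v27 C) [24, 35, 52, 86, 104, 109, 123] :=
  C.conv (f2443 C) (f2463 C) (f2466 C) _ [146, 158, 169, 173, 177] _ (by decide +kernel) (by decide +kernel) (by decide +kernel)

theorem f2468 : C.S (v2 C) [16, 38, 53, 72, 94, 124] :=
  C.stMul (f46 C) (f46 C) _ (by decide +kernel)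

theorem f2469 : C.S (v2 C) [14, 41, 81, 101, 113] :=
  C.stMul (f132 C) (f2468 C) _ (by decide +kernel)

theorem f2470 : C.T (v2 C) [14, 40, 56, 86, 99, 125] (v17 C) [9, 34, 64, 83, 106, 109] :=
  C.conv (f757 C) (f806 C) (f2469 C) _ [135, 149, 164, 178] _ (by decide +kernel) (by decide +kernel) (by decide +kernel)

theorem f2471 : C.T (v17 C) [9, 34, 64, 83, 106, 109] (v2 C) [14, 40, 56, 86, 99, 125] :=
  C.flip (f2470 C)

theorem f2472 : C.T (v27 C) [12, 30, 51, 86, 107, 110, 116] (v17 C) [25, 30, 69, 70, 96, 110, 124] :=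
  C.closeT (p := (v2 C)) (pu := [5, 38, 55, 78, 104, 110, 111])
    (C.pT (f2461 C)
    (C.pH [8, 30, 65, 84, 94, 117] [29, 56, 86, 97, 123] (by decide +kernel)
    (C.pT (f2467 C)
    (C.pH [26, 38, 54, 89, 90, 113] [12, 30, 51, 86, 107, 110, 116] (by decide +kernel) (C.pNil _ _)))))
    (C.pH [8, 30, 65, 84, 94, 117] [9, 34, 64, 83, 106, 109] (by decide +kernel)
    (C.pT (f2471 C)
    (C.pH [26, 38, 54, 89, 90, 113] [5, 38, 55, 78, 104, 110, 111] (by decide +kernel) (C.pNil _ _))))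
    (C.loop_of_one (relLoop1 C) _ _)

theorem f2473 : C.T (v17 C) [25, 30, 69, 70, 96, 110, 124] (v27 C) [12, 30, 51, 86, 107, 110, 116] :=
  C.flip (f2472 C)

theorem f2478 : C.S (v17 C) [6, 27, 80, 94, 109, 112] :=
  C.stMul (f741 C) (f658 C) _ (by decide +kernel)

theorem f2479 : C.S (v27 C) [14, 43, 59, 84, 93, 110, 121] :=
  C.transfer (f2473 C) (f2478 C) [143, 150, 167, 175, 178] _ (by decide +kernel) (by decide +kernel) (by decide +kernel)

theorem f2481 : C.T (v3 C) [20, 37, 63, 86, 94, 110, 117] (v15 C) [16, 48, 60, 83, 102, 118] :=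
  C.conv (f470 C) (f493 C) (f493 C) _ [138, 157, 172, 177] _ (by decide +kernel) (by decide +kernel) (by decide +kernel)

theorem f2482 : C.S (v15 C) [12, 34, 59, 85, 107, 109, 122] :=
  C.stMul (f471 C) (f490 C) _ (by decide +kernel)

theorem f2483 : C.T (v15 C) [20, 35, 65, 82, 97, 110, 118] (v27 C) [25, 33, 61, 73, 110, 113] :=
  C.conv (f2443 C) (f2463 C) (f2482 C) _ [147, 158, 167, 174, 178] _ (by decide +kernel) (by decide +kernel) (by decide +kernel)

theorem f2484 : C.S (v3 C) [20, 37, 54, 74, 107, 110] :=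
  C.stMul (f66 C) (f516 C) _ (by decide +kernel)

theorem f2485 : C.T (v3 C) [17, 28, 52, 105, 109, 119] (v15 C) [24, 62, 87, 99, 109, 123] :=
  C.conv (f470 C) (f493 C) (f2484 C) _ [146, 149, 177] _ (by decide +kernel) (by decide +kernel) (by decide +kernel)

theorem f2486 : C.T (v15 C) [24, 62, 87, 99, 109, 123] (v3 C) [17, 28, 52, 105, 109, 119] :=
  C.flip (f2485 C)

theorem f2487 : C.T (v27 C) [18, 47, 67, 83, 93, 123] (v15 C) [21, 33, 50, 74, 99] :=
  C.closeT (p := (v3 C)) (pu := [20, 37, 63, 86, 94, 110, 117])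
    (C.pT (f2481 C)
    (C.pH [8, 30, 65, 84, 94, 117] [20, 35, 65, 82, 97, 110, 118] (by decide +kernel)
    (C.pT (f2483 C)
    (C.pH [26, 38, 54, 89, 90, 113] [18, 47, 67, 83, 93, 123] (by decide +kernel) (C.pNil _ _)))))
    (C.pH [8, 30, 65, 84, 94, 117] [24, 62, 87, 99, 109, 123] (by decide +kernel)
    (C.pT (f2486 C)
    (C.pH [26, 38, 54, 89, 90, 113] [20, 37, 63, 86, 94, 110, 117] (by decide +kernel) (C.pNil _ _))))
    (C.loop_of_one (relLoop1 C) _ _)

theorem f2488 : C.T (v15 C) [21, 33, 50, 74, 99] (v27 C) [18, 47, 67, 83, 93, 123] :=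
  C.flip (f2487 C)

theorem f2489 : C.S (v15 C) [18, 35, 53, 85, 93, 109, 117] :=
  C.stMul (f484 C) (f471 C) _ (by decide +kernel)

theorem f2490 : C.S (v15 C) [7, 29, 60, 79, 103, 109, 112] :=
  C.stMul (f490 C) (f2489 C) _ (by decide +kernel)

theorem f2491 : C.T (v15 C) [21, 33, 50, 74, 99] (v27 C) [26, 50, 93, 109, 116] :=
  C.conv (f2443 C) (f2463 C) (f2490 C) _ [148, 157, 165] _ (by decide +kernel) (by decide +kernel) (by decide +kernel)

theorem f2492 : C.E (v27 C) [26, 50, 93, 109, 116] (v27 C) [18, 47, 67, 83, 93, 123] :=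
  C.sameSrc (f2491 C) (f2488 C)

theorem f2493 : C.S (v27 C) [6, 36, 64, 73, 108, 109, 112] :=
  C.stEq (f2492 C) _ (by decide +kernel)

theorem f2546 : C.T (v15 C) [4, 30, 49, 86, 90, 121] (v28 C) [] :=
  C.defn _ _

theorem f2547 : C.S (v15 C) [12, 28, 52, 71, 94, 110, 120] :=
  C.stInv (f479 C) _ (by decide +kernel)

theorem f2548 : C.S (v15 C) [11, 36, 56, 71, 91, 109, 123] :=
  C.stMul (f2547 C) (f490 C) _ (by decide +kernel)

theorem f2549 : C.S (v28 C) [20, 34, 68, 85, 104, 109, 121] :=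
  C.transfer (f2546 C) (f2548 C) [142, 159, 166, 172, 177] _ (by decide +kernel) (by decide +kernel) (by decide +kernel)

theorem f2550 : C.S (v15 C) [20, 63, 89, 92, 116] :=
  C.stMul (f475 C) (f471 C) _ (by decide +kernel)

theorem f2551 : C.S (v15 C) [27, 69, 82, 90, 120] :=
  C.stInv (f484 C) _ (by decide +kernel)

theorem f2552 : C.S (v15 C) [20, 42, 57, 78, 99, 110, 115] :=
  C.stMul (f2551 C) (f2550 C) _ (by decide +kernel)

theorem f2553 : C.S (v28 C) [18, 40, 58, 80, 104, 110, 121] :=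
  C.transfer (f2546 C) (f2552 C) [140, 152, 165, 172, 177] _ (by decide +kernel) (by decide +kernel) (by decide +kernel)

theorem f2554 : C.S (v15 C) [18, 35, 53, 85, 93, 109, 117] :=
  C.stMul (f484 C) (f471 C) _ (by decide +kernel)

theorem f2555 : C.S (v15 C) [12, 43, 63, 72, 93, 109, 111] :=
  C.stInv (f475 C) _ (by decide +kernel)

theorem f2556 : C.S (v15 C) [20, 33, 53, 83, 105, 116] :=
  C.stMul (f2555 C) (f2554 C) _ (by decide +kernel)

theorem f2557 : C.S (v28 C) [11, 30, 55, 85, 97, 110, 117] :=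
  C.transfer (f2546 C) (f2556 C) [133, 156, 170, 177] _ (by decide +kernel) (by decide +kernel) (by decide +kernel)

theorem f2558 : C.S (v15 C) [37, 55, 74, 95, 109, 116] :=
  C.stMul (f479 C) (f475 C) _ (by decide +kernel)

theorem f2559 : C.S (v15 C) [7, 35, 53, 84, 101, 109, 122] :=
  C.stMul (f490 C) (f471 C) _ (by decide +kernel)

theorem f2560 : C.S (v15 C) [7, 50, 86, 91, 109, 124] :=
  C.stInv (f2559 C) _ (by decide +kernel)

theorem f2561 : C.S (v15 C) [7, 41, 67, 77, 107, 109, 122] :=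
  C.stMul (f2560 C) (f2558 C) _ (by decide +kernel)

theorem f2562 : C.S (v28 C) [37, 58, 94, 110, 113] :=
  C.transfer (f2546 C) (f2561 C) [156, 166, 171, 178] _ (by decide +kernel) (by decide +kernel) (by decide +kernel)

theorem f2563 : C.S (v15 C) [20, 37, 59, 83, 99, 122] :=
  C.stMul (f471 C) (f479 C) _ (by decide +kernel)

theorem f2564 : C.S (v15 C) [12, 28, 52, 71, 94, 110, 120] :=
  C.stInv (f479 C) _ (by decide +kernel)

theorem f2565 : C.S (v15 C) [11, 43, 61, 84, 94, 109, 125] :=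
  C.stMul (f2564 C) (f2563 C) _ (by decide +kernel)

theorem f2566 : C.S (v28 C) [12, 46, 53, 89, 100, 109, 124] :=
  C.transfer (f2546 C) (f2565 C) [134, 160, 165, 178] _ (by decide +kernel) (by decide +kernel) (by decide +kernel)

theorem f2568 : C.S (v15 C) [7, 35, 53, 84, 101, 109, 122] :=
  C.stMul (f490 C) (f471 C) _ (by decide +kernel)

theorem f2569 : C.T (v15 C) [27, 68, 80, 93] (v28 C) [26, 34, 62, 87, 123] :=
  C.conv (f2546 C) (f2568 C) (f2568 C) _ [148, 159, 177] _ (by decide +kernel) (by decide +kernel) (by decide +kernel)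

theorem f2570 : C.S (v15 C) [22, 47, 63, 84, 101, 112] :=
  C.stMul (f490 C) (f490 C) _ (by decide +kernel)

theorem f2571 : C.S (v15 C) [11, 61, 70, 91, 116] :=
  C.stMul (f475 C) (f2570 C) _ (by decide +kernel)

theorem f2572 : C.T (v15 C) [23, 68, 74, 116] (v19 C) [24, 30, 51, 74, 95, 110, 124] :=
  C.conv (f1165 C) (f635 C) (f2571 C) _ [131, 161, 169, 174, 177] _ (by decide +kernel) (by decide +kernel) (by decide +kernel)

theorem f2573 : C.T (v19 C) [24, 30, 51, 74, 95, 110, 124] (v15 C) [23, 68, 74, 116] :=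
  C.flip (f2572 C)

theorem f2574 : C.T (v28 C) [4, 47, 66, 74, 97, 125] (v19 C) [19, 38, 67, 85, 96, 125] :=
  C.closeT (p := (v15 C)) (pu := [27, 68, 80, 93])
    (C.pT (f2569 C)
    (C.pH [12, 35, 50, 83] [4, 47, 66, 74, 97, 125] (by decide +kernel) (C.pNil _ _)))
    (C.pH [12, 35, 50, 83] [24, 30, 51, 74, 95, 110, 124] (by decide +kernel)
    (C.pT (f2573 C)
    (C.pH [12, 35, 50, 83] [27, 68, 80, 93] (by decide +kernel) (C.pNil _ _))))
    (C.loop_of_one (relLoop0 C) _ _)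

theorem f2575 : C.T (v19 C) [19, 38, 67, 85, 96, 125] (v28 C) [4, 47, 66, 74, 97, 125] :=
  C.flip (f2574 C)

theorem f2576 : C.S (v28 C) [13, 31, 53, 89, 107, 109, 113] :=
  C.transfer (f2575 C) (f1175 C) [143, 162, 170, 174] _ (by decide +kernel) (by decide +kernel) (by decide +kernel)

theorem f2586 : C.T (v15 C) [10, 43, 69, 72, 93] (v28 C) [11, 38, 50, 83, 92, 112] :=
  C.conv (f2546 C) (f2568 C) (f2568 C) _ [133, 154, 170, 176, 177] _ (by decide +kernel) (by decide +kernel) (by decide +kernel)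

theorem f2587 : C.T (v15 C) [8, 43, 58, 74, 106, 112] (v27 C) [23, 43, 63, 85, 94, 123] :=
  C.conv (f2443 C) (f2463 C) (f479 C) _ [145, 150, 165, 173, 177] _ (by decide +kernel) (by decide +kernel) (by decide +kernel)

theorem f2588 : C.T (v27 C) [23, 43, 63, 85, 94, 123] (v15 C) [8, 43, 58, 74, 106, 112] :=
  C.flip (f2587 C)

theorem f2589 : C.T (v28 C) [20, 29, 59, 79, 103, 109, 122] (v27 C) [12, 43, 65, 85, 107, 109, 125] :=
  C.closeT (p := (v15 C)) (pu := [10, 43, 69, 72, 93])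
    (C.pT (f2586 C)
    (C.pH [12, 35, 50, 83] [20, 29, 59, 79, 103, 109, 122] (by decide +kernel) (C.pNil _ _)))
    (C.pH [12, 35, 50, 83] [23, 43, 63, 85, 94, 123] (by decide +kernel)
    (C.pT (f2588 C)
    (C.pH [12, 35, 50, 83] [10, 43, 69, 72, 93] (by decide +kernel) (C.pNil _ _))))
    (C.loop_of_one (relLoop0 C) _ _)

theorem f2590 : C.T (v27 C) [12, 43, 65, 85, 107, 109, 125] (v28 C) [20, 29, 59, 79, 103, 109, 122] :=
  C.flip (f2589 C)

theorem f2591 : C.S (v27 C) [25, 37, 79, 108, 118] :=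
  C.stMul (f2493 C) (f2479 C) _ (by decide +kernel)

theorem f2592 : C.S (v27 C) [15, 37, 49, 74, 99, 125] :=
  C.stMul (f2479 C) (f2444 C) _ (by decide +kernel)

theorem f2593 : C.S (v27 C) [25, 44, 69, 99, 109, 125] :=
  C.stInv (f2592 C) _ (by decide +kernel)

theorem f2594 : C.S (v27 C) [22, 35, 51, 85, 91, 110, 122] :=
  C.stMul (f2593 C) (f2591 C) _ (by decide +kernel)

theorem f2595 : C.S (v28 C) [22, 34, 51, 84, 94, 109, 123] :=
  C.transfer (f2590 C) (f2594 C) [140, 155, 167, 175, 177] _ (by decide +kernel) (by decide +kernel) (by decide +kernel)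

theorem f2606 : C.T (v15 C) [42, 67, 80, 94, 110, 113] (v29 C) [] :=
  C.defn _ _

theorem f2607 : C.S (v15 C) [7, 35, 53, 84, 101, 109, 122] :=
  C.stMul (f490 C) (f471 C) _ (by decide +kernel)

theorem f2608 : C.S (v15 C) [11, 30, 55, 77, 91, 109, 116] :=
  C.stMul (f490 C) (f2607 C) _ (by decide +kernel)

theorem f2609 : C.S (v15 C) [20, 37, 59, 83, 99, 122] :=
  C.stMul (f471 C) (f479 C) _ (by decide +kernel)

theorem f2610 : C.S (v15 C) [22, 29, 49, 81, 97, 111] :=
  C.stInv (f2609 C) _ (by decide +kernel)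

theorem f2611 : C.S (v15 C) [7, 29, 51, 83, 103, 109, 117] :=
  C.stMul (f2610 C) (f2608 C) _ (by decide +kernel)

theorem f2612 : C.S (v29 C) [22, 40, 64, 84, 109, 116] :=
  C.transfer (f2606 C) (f2611 C) [144, 154] _ (by decide +kernel) (by decide +kernel) (by decide +kernel)

theorem f2613 : C.S (v15 C) [11, 37, 65, 71, 104, 125] :=
  C.stMul (f479 C) (f2609 C) _ (by decide +kernel)

theorem f2614 : C.S (v15 C) [18, 35, 53, 85, 93, 109, 117] :=
  C.stMul (f484 C) (f471 C) _ (by decide +kernel)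

theorem f2615 : C.S (v15 C) [37, 58, 94, 110, 113] :=
  C.stMul (f471 C) (f2614 C) _ (by decide +kernel)

theorem f2616 : C.S (v15 C) [37, 58, 94, 110, 113] :=
  C.stInv (f2615 C) _ (by decide +kernel)

theorem f2617 : C.S (v15 C) [11, 48, 60, 86, 98, 109, 123] :=
  C.stMul (f2616 C) (f2613 C) _ (by decide +kernel)

theorem f2618 : C.S (v29 C) [12, 36, 66, 79, 97, 110, 111] :=
  C.transfer (f2606 C) (f2617 C) [134, 149, 167, 175] _ (by decide +kernel) (by decide +kernel) (by decide +kernel)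

theorem f2619 : C.S (v15 C) [32, 57, 85, 120] :=
  C.stMul (f479 C) (f479 C) _ (by decide +kernel)

theorem f2620 : C.S (v15 C) [38, 81, 95, 109, 118] :=
  C.stMul (f484 C) (f2619 C) _ (by decide +kernel)

theorem f2621 : C.S (v15 C) [22, 40, 82, 99, 120] :=
  C.stMul (f479 C) (f471 C) _ (by decide +kernel)

theorem f2622 : C.S (v15 C) [38, 57, 73, 92, 109, 116] :=
  C.stMul (f490 C) (f2621 C) _ (by decide +kernel)

theorem f2623 : C.S (v15 C) [39, 54, 89, 105, 110, 112] :=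
  C.stInv (f2622 C) _ (by decide +kernel)

theorem f2624 : C.S (v15 C) [58, 74, 107, 110, 122] :=
  C.stMul (f2623 C) (f2620 C) _ (by decide +kernel)

theorem f2625 : C.S (v29 C) [36, 69, 72, 98, 125] :=
  C.transfer (f2606 C) (f2624 C) [155, 168, 172, 177] _ (by decide +kernel) (by decide +kernel) (by decide +kernel)

theorem f2628 : C.S (v15 C) [7, 35, 53, 84, 101, 109, 122] :=
  C.stMul (f490 C) (f471 C) _ (by decide +kernel)

theorem f2663 : C.S (v29 C) [] :=
  C.stOne _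

theorem f2674 : C.T (v15 C) [22, 38, 52, 85, 96, 114] (v15 C) [20, 31, 50, 85, 106, 109, 118] :=
  C.conv (f819 C) (f821 C) (f821 C) _ [136, 157, 169, 173] _ (by decide +kernel) (by decide +kernel) (by decide +kernel)

theorem f2675 : C.S (v15 C) [22, 40, 82, 99, 120] :=
  C.stMul (f479 C) (f471 C) _ (by decide +kernel)

theorem f2676 : C.S (v15 C) [7, 40, 49, 77, 91, 109, 111] :=
  C.stMul (f471 C) (f2675 C) _ (by decide +kernel)

theorem f2677 : C.S (v15 C) [7, 30, 67, 83, 94, 123] :=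
  C.stMul (f484 C) (f2676 C) _ (by decide +kernel)

theorem f2678 : C.T (v15 C) [22, 45, 49, 83, 107, 109, 123] (v29 C) [22, 31, 62, 84, 108, 109, 122] :=
  C.conv (f2606 C) (f2628 C) (f2677 C) _ [144, 155, 165, 172, 177] _ (by decide +kernel) (by decide +kernel) (by decide +kernel)

theorem f2679 : C.T (v29 C) [11, 48, 66, 74, 103, 110, 113] (v15 C) [20, 34, 66, 80, 105, 109, 124] :=
  C.closeT (p := (v15 C)) (pu := [22, 38, 52, 85, 96, 114])
    (C.pT (f2674 C)
    (C.pH [12, 35, 50, 83] [22, 45, 49, 83, 107, 109, 123] (by decide +kernel)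
    (C.pT (f2678 C)
    (C.pH [12, 35, 50, 83] [11, 48, 66, 74, 103, 110, 113] (by decide +kernel) (C.pNil _ _)))))
    (C.pH [12, 35, 50, 83] [22, 38, 52, 85, 96, 114] (by decide +kernel) (C.pNil _ _))
    (C.loop_of_one (relLoop0 C) _ _)

theorem f2680 : C.T (v15 C) [20, 34, 66, 80, 105, 109, 124] (v29 C) [11, 48, 66, 74, 103, 110, 113] :=
  C.flip (f2679 C)

theorem f2681 : C.T (v15 C) [13, 31, 59, 77, 100, 110, 125] (v23 C) [21, 38, 49, 86, 98, 109, 116] :=
  C.conv (f1872 C) (f1885 C) (f1885 C) _ [143, 162, 169, 176, 177] _ (by decide +kernel) (by decide +kernel) (by decide +kernel)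

theorem f2682 : C.S (v15 C) [18, 35, 53, 85, 93, 109, 117] :=
  C.stMul (f484 C) (f471 C) _ (by decide +kernel)

theorem f2683 : C.S (v15 C) [37, 58, 94, 110, 113] :=
  C.stMul (f471 C) (f2682 C) _ (by decide +kernel)

theorem f2684 : C.S (v15 C) [47, 56, 71, 97, 123] :=
  C.stMul (f484 C) (f2683 C) _ (by decide +kernel)

theorem f2685 : C.S (v15 C) [20, 33, 53, 83, 105, 116] :=
  C.stMul (f475 C) (f2682 C) _ (by decide +kernel)

theorem f2686 : C.S (v15 C) [11, 43, 57, 82, 108, 122] :=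
  C.stMul (f479 C) (f2685 C) _ (by decide +kernel)

theorem f2687 : C.T (v15 C) [4, 42, 61, 86, 93, 115] (v29 C) [16, 38, 53, 84, 108] :=
  C.conv (f2680 C) (f2684 C) (f2686 C) _ [148, 163, 168, 174] _ (by decide +kernel) (by decide +kernel) (by decide +kernel)

theorem f2688 : C.T (v29 C) [16, 38, 53, 84, 108] (v15 C) [4, 42, 61, 86, 93, 115] :=
  C.flip (f2687 C)

theorem f2689 : C.T (v23 C) [8, 34, 72, 107, 110, 122] (v29 C) [16, 29, 55, 78, 100, 109, 114] :=
  C.closeT (p := (v15 C)) (pu := [13, 31, 59, 77, 100, 110, 125])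
    (C.pT (f2681 C)
    (C.pH [12, 35, 50, 83] [8, 34, 72, 107, 110, 122] (by decide +kernel) (C.pNil _ _)))
    (C.pH [12, 35, 50, 83] [16, 38, 53, 84, 108] (by decide +kernel)
    (C.pT (f2688 C)
    (C.pH [12, 35, 50, 83] [13, 31, 59, 77, 100, 110, 125] (by decide +kernel) (C.pNil _ _))))
    (C.loop_of_one (relLoop0 C) _ _)

theorem f2690 : C.T (v29 C) [16, 29, 55, 78, 100, 109, 114] (v23 C) [8, 34, 72, 107, 110, 122] :=
  C.flip (f2689 C)

theorem f2804 : C.T (v15 C) [12, 48, 52, 71, 95, 111] (v30 C) [] :=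
  C.defn _ _

theorem f2805 : C.S (v15 C) [18, 34, 66, 85, 119] :=
  C.stMul (f471 C) (f484 C) _ (by decide +kernel)

theorem f2806 : C.S (v15 C) [12, 33, 57, 87, 103, 109, 116] :=
  C.stMul (f484 C) (f475 C) _ (by decide +kernel)

theorem f2807 : C.S (v15 C) [12, 28, 51, 102, 109, 123] :=
  C.stInv (f2806 C) _ (by decide +kernel)

theorem f2808 : C.S (v15 C) [20, 44, 61, 70, 108, 114] :=
  C.stMul (f2807 C) (f2805 C) _ (by decide +kernel)

theorem f2809 : C.S (v30 C) [23, 38, 66, 89, 99, 110, 118] :=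
  C.transfer (f2804 C) (f2808 C) [145, 162, 165, 176] _ (by decide +kernel) (by decide +kernel) (by decide +kernel)

theorem f2810 : C.S (v15 C) [20, 37, 59, 83, 99, 122] :=
  C.stMul (f471 C) (f479 C) _ (by decide +kernel)

theorem f2811 : C.S (v15 C) [18, 33, 61, 87, 106] :=
  C.stMul (f475 C) (f2810 C) _ (by decide +kernel)

theorem f2812 : C.S (v15 C) [37, 55, 74, 95, 109, 116] :=
  C.stMul (f479 C) (f475 C) _ (by decide +kernel)

theorem f2813 : C.S (v15 C) [47, 50, 105] :=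
  C.stMul (f484 C) (f2812 C) _ (by decide +kernel)

theorem f2814 : C.S (v15 C) [47, 50, 105] :=
  C.stInv (f2813 C) _ (by decide +kernel)

theorem f2815 : C.S (v15 C) [11, 45, 53, 89, 97, 111] :=
  C.stMul (f2814 C) (f2811 C) _ (by decide +kernel)

theorem f2816 : C.S (v30 C) [22, 40, 53, 74, 107, 121] :=
  C.transfer (f2804 C) (f2815 C) [144, 154, 167, 176, 177] _ (by decide +kernel) (by decide +kernel) (by decide +kernel)

theorem f2817 : C.S (v15 C) [32, 57, 85, 120] :=
  C.stMul (f479 C) (f479 C) _ (by decide +kernel)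

theorem f2818 : C.S (v15 C) [38, 81, 95, 109, 118] :=
  C.stMul (f484 C) (f2817 C) _ (by decide +kernel)

theorem f2819 : C.S (v15 C) [22, 40, 82, 99, 120] :=
  C.stMul (f479 C) (f471 C) _ (by decide +kernel)

theorem f2820 : C.S (v15 C) [38, 57, 73, 92, 109, 116] :=
  C.stMul (f490 C) (f2819 C) _ (by decide +kernel)

theorem f2821 : C.S (v15 C) [39, 54, 89, 105, 110, 112] :=
  C.stInv (f2820 C) _ (by decide +kernel)

theorem f2822 : C.S (v15 C) [58, 74, 107, 110, 122] :=
  C.stMul (f2821 C) (f2818 C) _ (by decide +kernel)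

theorem f2823 : C.S (v30 C) [47, 56, 71, 97, 123] :=
  C.transfer (f2804 C) (f2822 C) [162, 165, 173, 177] _ (by decide +kernel) (by decide +kernel) (by decide +kernel)

theorem f2827 : C.S (v15 C) [32, 57, 85, 120] :=
  C.stMul (f479 C) (f479 C) _ (by decide +kernel)

theorem f2828 : C.S (v15 C) [18, 48, 66, 85, 91, 109, 116] :=
  C.stMul (f471 C) (f2827 C) _ (by decide +kernel)

theorem f2851 : C.T (v15 C) [5, 47, 60, 71, 91, 110, 113] (v23 C) [14, 31, 54, 80, 93, 121] :=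
  C.conv (f1872 C) (f1885 C) (f1885 C) _ [136, 159, 165, 178] _ (by decide +kernel) (by decide +kernel) (by decide +kernel)

theorem f2852 : C.S (v15 C) [22, 47, 63, 84, 101, 112] :=
  C.stMul (f490 C) (f490 C) _ (by decide +kernel)

theorem f2853 : C.S (v15 C) [11, 61, 70, 91, 116] :=
  C.stMul (f475 C) (f2852 C) _ (by decide +kernel)

theorem f2854 : C.T (v15 C) [5, 37, 71, 91, 110, 113] (v30 C) [16, 31, 56, 75, 101, 109, 119] :=
  C.conv (f2804 C) (f2828 C) (f2853 C) _ [138, 159, 166, 172, 177] _ (by decide +kernel) (by decide +kernel) (by decide +kernel)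

theorem f2855 : C.T (v30 C) [16, 31, 56, 75, 101, 109, 119] (v15 C) [5, 37, 71, 91, 110, 113] :=
  C.flip (f2854 C)

theorem f2856 : C.T (v23 C) [14, 29, 68, 81, 97, 109, 114] (v30 C) [16, 31, 66, 71, 108, 110, 112] :=
  C.closeT (p := (v15 C)) (pu := [5, 47, 60, 71, 91, 110, 113])
    (C.pT (f2851 C)
    (C.pH [12, 35, 50, 83] [14, 29, 68, 81, 97, 109, 114] (by decide +kernel) (C.pNil _ _)))
    (C.pH [12, 35, 50, 83] [16, 31, 56, 75, 101, 109, 119] (by decide +kernel)
    (C.pT (f2855 C)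
    (C.pH [12, 35, 50, 83] [5, 47, 60, 71, 91, 110, 113] (by decide +kernel) (C.pNil _ _))))
    (C.loop_of_one (relLoop0 C) _ _)

theorem f2857 : C.T (v30 C) [16, 31, 66, 71, 108, 110, 112] (v23 C) [14, 29, 68, 81, 97, 109, 114] :=
  C.flip (f2856 C)

theorem f3003 : C.T (v28 C) [25, 35, 66, 89, 110, 111] (v31 C) [] :=
  C.defn _ _

theorem f3004 : C.S (v28 C) [23, 38, 66, 89, 99, 110, 118] :=
  C.stMul (f2549 C) (f2549 C) _ (by decide +kernel)

theorem f3005 : C.S (v28 C) [12, 46, 53, 89, 100, 109, 124] :=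
  C.stInv (f2566 C) _ (by decide +kernel)

theorem f3006 : C.S (v28 C) [7, 44, 58, 79, 105, 110, 119] :=
  C.stMul (f3005 C) (f3004 C) _ (by decide +kernel)

theorem f3007 : C.S (v31 C) [12, 47, 60, 72, 102, 110, 121] :=
  C.transfer (f3003 C) (f3006 C) [134, 157, 171, 177] _ (by decide +kernel) (by decide +kernel) (by decide +kernel)

theorem f3008 : C.S (v28 C) [20, 37, 59, 83, 99, 122] :=
  C.stMul (f2562 C) (f2549 C) _ (by decide +kernel)

theorem f3009 : C.S (v28 C) [11, 30, 55, 85, 97, 110, 117] :=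
  C.stInv (f2557 C) _ (by decide +kernel)

theorem f3010 : C.S (v28 C) [7, 29, 51, 82, 98, 110, 114] :=
  C.stMul (f3009 C) (f3008 C) _ (by decide +kernel)

theorem f3011 : C.S (v31 C) [20, 42, 57, 78, 94, 110, 117] :=
  C.transfer (f3003 C) (f3010 C) [142, 153, 177] _ (by decide +kernel) (by decide +kernel) (by decide +kernel)

theorem f3013 : C.T (v15 C) [12, 44, 65, 78, 94, 114] (v28 C) [17, 28, 52, 74, 96, 110, 123] :=
  C.conv (f2546 C) (f2568 C) (f2568 C) _ [139, 153, 170, 171, 177] _ (by decide +kernel) (by decide +kernel) (by decide +kernel)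

theorem f3014 : C.S (v28 C) [11, 31, 77, 102, 115] :=
  C.stMul (f2595 C) (f2553 C) _ (by decide +kernel)

theorem f3015 : C.S (v28 C) [26, 27, 69, 89, 96, 124] :=
  C.stMul (f2576 C) (f3014 C) _ (by decide +kernel)

theorem f3016 : C.S (v28 C) [9, 62, 87, 102, 109, 121] :=
  C.stMul (f2562 C) (f3015 C) _ (by decide +kernel)

theorem f3017 : C.S (v28 C) [8, 45, 50, 78, 93, 109, 112] :=
  C.stMul (f2576 C) (f2595 C) _ (by decide +kernel)

theorem f3018 : C.S (v28 C) [9, 34, 52, 76, 105, 113] :=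
  C.stMul (f2557 C) (f3017 C) _ (by decide +kernel)

theorem f3019 : C.T (v28 C) [25, 35, 68, 71, 106, 110, 118] (v31 C) [7, 35, 63, 83, 92, 110, 112] :=
  C.conv (f3003 C) (f3016 C) (f3018 C) _ [129, 149, 177] _ (by decide +kernel) (by decide +kernel) (by decide +kernel)

theorem f3020 : C.T (v31 C) [7, 35, 69, 82, 100, 109, 119] (v15 C) [27, 59, 80, 105, 110, 111] :=
  C.closeT (p := (v15 C)) (pu := [12, 44, 65, 78, 94, 114])
    (C.pT (f3013 C)
    (C.pH [12, 35, 50, 83] [25, 35, 68, 71, 106, 110, 118] (by decide +kernel)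
    (C.pT (f3019 C)
    (C.pH [12, 35, 50, 83] [7, 35, 69, 82, 100, 109, 119] (by decide +kernel) (C.pNil _ _)))))
    (C.pH [12, 35, 50, 83] [12, 44, 65, 78, 94, 114] (by decide +kernel) (C.pNil _ _))
    (C.loop_of_one (relLoop0 C) _ _)

theorem f3021 : C.T (v15 C) [27, 59, 80, 105, 110, 111] (v31 C) [7, 35, 69, 82, 100, 109, 119] :=
  C.flip (f3020 C)

theorem f3022 : C.T (v15 C) [13, 43, 49, 86, 102, 109, 125] (v29 C) [10, 30, 62, 86, 96, 110, 114] :=
  C.conv (f2680 C) (f2684 C) (f2684 C) _ [147, 161, 164, 173, 178] _ (by decide +kernel) (by decide +kernel) (by decide +kernel)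

theorem f3023 : C.S (v15 C) [22, 40, 82, 99, 120] :=
  C.stMul (f479 C) (f471 C) _ (by decide +kernel)

theorem f3024 : C.S (v15 C) [38, 57, 73, 92, 109, 116] :=
  C.stMul (f490 C) (f3023 C) _ (by decide +kernel)

theorem f3025 : C.S (v15 C) [12, 27, 55, 87, 92, 109, 112] :=
  C.stMul (f479 C) (f3024 C) _ (by decide +kernel)

theorem f3026 : C.S (v15 C) [27, 83, 93, 109, 113] :=
  C.stMul (f479 C) (f3025 C) _ (by decide +kernel)

theorem f3027 : C.S (v15 C) [7, 40, 49, 77, 91, 109, 111] :=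
  C.stMul (f471 C) (f3023 C) _ (by decide +kernel)

theorem f3028 : C.S (v15 C) [7, 30, 67, 83, 94, 123] :=
  C.stMul (f484 C) (f3027 C) _ (by decide +kernel)

theorem f3029 : C.T (v15 C) [4, 41, 49, 86, 102, 109, 125] (v31 C) [15, 27, 52, 87, 92, 109, 114] :=
  C.conv (f3021 C) (f3026 C) (f3028 C) _ [141, 162, 175, 177] _ (by decide +kernel) (by decide +kernel) (by decide +kernel)

theorem f3030 : C.T (v31 C) [15, 27, 52, 87, 92, 109, 114] (v15 C) [4, 41, 49, 86, 102, 109, 125] :=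
  C.flip (f3029 C)

theorem f3031 : C.T (v29 C) [21, 33, 68, 76, 101, 110, 123] (v31 C) [15, 37, 51, 76, 106, 123] :=
  C.closeT (p := (v15 C)) (pu := [13, 43, 49, 86, 102, 109, 125])
    (C.pT (f3022 C)
    (C.pH [12, 35, 50, 83] [21, 33, 68, 76, 101, 110, 123] (by decide +kernel) (C.pNil _ _)))
    (C.pH [12, 35, 50, 83] [15, 27, 52, 87, 92, 109, 114] (by decide +kernel)
    (C.pT (f3030 C)
    (C.pH [12, 35, 50, 83] [13, 43, 49, 86, 102, 109, 125] (by decide +kernel) (C.pNil _ _))))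
    (C.loop_of_one (relLoop0 C) _ _)

theorem f3032 : C.T (v31 C) [15, 37, 51, 76, 106, 123] (v29 C) [21, 33, 68, 76, 101, 110, 123] :=
  C.flip (f3031 C)

theorem f3038 : C.S (v15 C) [12, 60, 71, 104, 110, 125] :=
  C.stMul (f490 C) (f479 C) _ (by decide +kernel)

theorem f3055 : C.S (v31 C) [] :=
  C.stOne _

theorem f3149 : C.T (v29 C) [17, 48, 54, 76, 92, 116] (v31 C) [6, 40, 64, 71, 98, 110, 115] :=
  C.conv (f3031 C) (f2625 C) (f2625 C) _ [134, 157, 166, 177] _ (by decide +kernel) (by decide +kernel) (by decide +kernel)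

theorem f3150 : C.T (v29 C) [9, 28, 49, 79, 107, 109, 117] (v31 C) [4, 48, 63, 84, 96, 110, 122] :=
  C.conv (f3031 C) (f2625 C) (f2612 C) _ [129, 149, 165, 171, 177] _ (by decide +kernel) (by decide +kernel) (by decide +kernel)

theorem f3151 : C.T (v31 C) [4, 48, 63, 84, 96, 110, 122] (v29 C) [9, 28, 49, 79, 107, 109, 117] :=
  C.flip (f3150 C)

theorem f3152 : C.T (v31 C) [19, 37, 63, 70, 97, 110, 122] (v31 C) [26, 47, 68, 73, 103, 109, 125] :=
  C.closeT (p := (v29 C)) (pu := [17, 48, 54, 76, 92, 116])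
    (C.pT (f3149 C)
    (C.pH [12, 35, 50, 83] [19, 37, 63, 70, 97, 110, 122] (by decide +kernel) (C.pNil _ _)))
    (C.pH [12, 35, 50, 83] [4, 48, 63, 84, 96, 110, 122] (by decide +kernel)
    (C.pT (f3151 C)
    (C.pH [12, 35, 50, 83] [17, 48, 54, 76, 92, 116] (by decide +kernel) (C.pNil _ _))))
    (C.loop_of_one (relLoop0 C) _ _)

theorem f3187 : C.T (v28 C) [5, 43, 49, 75, 96, 109, 125] (v32 C) [] :=
  C.defn _ _

theorem f3188 : C.S (v28 C) [18, 40, 58, 80, 104, 110, 121] :=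
  C.stInv (f2553 C) _ (by decide +kernel)

theorem f3189 : C.S (v28 C) [18, 29, 65, 78, 101, 110, 116] :=
  C.stMul (f3188 C) (f2562 C) _ (by decide +kernel)

theorem f3190 : C.S (v32 C) [18, 30, 66, 90, 116] :=
  C.transfer (f3187 C) (f3189 C) [140, 150, 165, 175, 178] _ (by decide +kernel) (by decide +kernel) (by decide +kernel)

theorem f3193 : C.T (v15 C) [28, 57, 88, 104, 110, 125] (v28 C) [13, 38, 68, 107, 111] :=
  C.conv (f2546 C) (f2568 C) (f2568 C) _ [135, 154, 171] _ (by decide +kernel) (by decide +kernel) (by decide +kernel)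

theorem f3194 : C.S (v28 C) [7, 40, 83, 93, 125] :=
  C.stMul (f2553 C) (f2595 C) _ (by decide +kernel)

theorem f3195 : C.S (v28 C) [21, 39, 62, 76, 92, 109, 124] :=
  C.stMul (f2576 C) (f3194 C) _ (by decide +kernel)

theorem f3196 : C.S (v28 C) [7, 39, 56, 103, 110, 116] :=
  C.stMul (f2595 C) (f2566 C) _ (by decide +kernel)

theorem f3197 : C.S (v28 C) [21, 32, 53, 77, 90, 109, 111] :=
  C.stMul (f2576 C) (f3196 C) _ (by decide +kernel)

theorem f3198 : C.T (v28 C) [26, 48, 61, 73, 101, 116] (v32 C) [20, 32, 51, 83, 106, 115] :=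
  C.conv (f3187 C) (f3195 C) (f3197 C) _ [142, 160, 168, 177] _ (by decide +kernel) (by decide +kernel) (by decide +kernel)

theorem f3199 : C.T (v32 C) [22, 27, 61, 78, 104, 110, 115] (v15 C) [23, 39, 52, 73, 99, 109, 118] :=
  C.closeT (p := (v15 C)) (pu := [28, 57, 88, 104, 110, 125])
    (C.pT (f3193 C)
    (C.pH [12, 35, 50, 83] [26, 48, 61, 73, 101, 116] (by decide +kernel)
    (C.pT (f3198 C)
    (C.pH [12, 35, 50, 83] [22, 27, 61, 78, 104, 110, 115] (by decide +kernel) (C.pNil _ _)))))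
    (C.pH [12, 35, 50, 83] [28, 57, 88, 104, 110, 125] (by decide +kernel) (C.pNil _ _))
    (C.loop_of_one (relLoop0 C) _ _)

theorem f3200 : C.T (v15 C) [23, 39, 52, 73, 99, 109, 118] (v32 C) [22, 27, 61, 78, 104, 110, 115] :=
  C.flip (f3199 C)

theorem f3202 : C.S (v15 C) [12, 34, 59, 85, 107, 109, 122] :=
  C.stMul (f471 C) (f490 C) _ (by decide +kernel)

theorem f3210 : C.T (v15 C) [14, 27, 68, 79, 96, 110, 122] (v2 C) [19, 48, 69, 79, 95, 125] :=
  C.conv (f498 C) (f490 C) (f490 C) _ [136, 149, 167, 174, 178] _ (by decide +kernel) (by decide +kernel) (by decide +kernel)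

theorem f3211 : C.S (v2 C) [15, 64, 80, 100, 114] :=
  C.stMul (f132 C) (f132 C) _ (by decide +kernel)

theorem f3212 : C.S (v2 C) [5, 36, 51, 89, 97, 124] :=
  C.stMul (f63 C) (f3211 C) _ (by decide +kernel)

theorem f3213 : C.S (v2 C) [22, 47, 50, 79, 103, 124] :=
  C.stMul (f46 C) (f3212 C) _ (by decide +kernel)

theorem f3214 : C.S (v2 C) [46, 60, 73, 96, 121] :=
  C.stMul (f58 C) (f3213 C) _ (by decide +kernel)

theorem f3215 : C.T (v2 C) [17, 38, 69, 73, 101, 125] (v22 C) [14, 43, 61, 74, 107] :=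
  C.conv (f1666 C) (f1677 C) (f3214 C) _ [136, 152, 165, 173, 177] _ (by decide +kernel) (by decide +kernel) (by decide +kernel)

theorem f3216 : C.S (v15 C) [20, 37, 59, 83, 99, 122] :=
  C.stMul (f471 C) (f479 C) _ (by decide +kernel)

theorem f3217 : C.S (v15 C) [22, 42, 51, 76, 92, 109, 119] :=
  C.stMul (f490 C) (f3216 C) _ (by decide +kernel)

theorem f3218 : C.T (v15 C) [26, 45, 53, 76, 107, 109, 113] (v32 C) [26, 28, 49, 88, 92, 110, 121] :=
  C.conv (f3200 C) (f3202 C) (f3217 C) _ [127, 159, 169, 172] _ (by decide +kernel) (by decide +kernel) (by decide +kernel)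

theorem f3219 : C.T (v32 C) [26, 28, 49, 88, 92, 110, 121] (v15 C) [26, 45, 53, 76, 107, 109, 113] :=
  C.flip (f3218 C)

theorem f3220 : C.T (v22 C) [5, 44, 68, 76, 96, 117] (v32 C) [43, 62, 81, 97, 125] :=
  C.closeT (p := (v15 C)) (pu := [14, 27, 68, 79, 96, 110, 122])
    (C.pT (f3210 C)
    (C.pH [26, 38, 54, 89, 90, 113] [17, 38, 69, 73, 101, 125] (by decide +kernel)
    (C.pT (f3215 C)
    (C.pH [8, 30, 65, 84, 94, 117] [5, 44, 68, 76, 96, 117] (by decide +kernel) (C.pNil _ _)))))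
    (C.pH [26, 38, 54, 89, 90, 113] [26, 28, 49, 88, 92, 110, 121] (by decide +kernel)
    (C.pT (f3219 C)
    (C.pH [8, 30, 65, 84, 94, 117] [14, 27, 68, 79, 96, 110, 122] (by decide +kernel) (C.pNil _ _))))
    (C.loop_of_one (relLoop2 C) _ _)

theorem f3239 : C.S (v22 C) [16, 43, 56, 74, 99, 121] :=
  C.stMul (f1674 C) (f1669 C) _ (by decide +kernel)

theorem f3240 : C.S (v22 C) [10, 30, 62, 70, 93, 120] :=
  C.stMul (f1669 C) (f3239 C) _ (by decide +kernel)

theorem f3265 : C.T (v22 C) [9, 27, 68, 74, 91, 115] (v16 C) [11, 39, 51, 74, 93, 110] :=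
  C.conv (f1794 C) (f1768 C) (f1768 C) _ [133, 155, 165, 172] _ (by decide +kernel) (by decide +kernel) (by decide +kernel)

theorem f3266 : C.S (v16 C) [8, 48, 69, 89, 108, 112] :=
  C.stMul (f588 C) (f565 C) _ (by decide +kernel)

theorem f3267 : C.S (v16 C) [21, 35, 69, 82, 103, 109, 122] :=
  C.stMul (f565 C) (f565 C) _ (by decide +kernel)

theorem f3268 : C.T (v16 C) [7, 36, 68, 71, 91, 109, 120] (v19 C) [15, 43, 64, 81, 91, 110] :=
  C.conv (f1216 C) (f3266 C) (f3267 C) _ [130, 156, 169, 176, 177] _ (by decide +kernel) (by decide +kernel) (by decide +kernel)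

theorem f3269 : C.T (v22 C) [15, 42, 59, 77, 100, 109, 125] (v32 C) [11, 33, 50, 82, 93, 109, 120] :=
  C.conv (f3220 C) (f3240 C) (f1768 C) _ [133, 159, 165, 175, 178] _ (by decide +kernel) (by decide +kernel) (by decide +kernel)

theorem f3270 : C.T (v32 C) [11, 33, 50, 82, 93, 109, 120] (v22 C) [15, 42, 59, 77, 100, 109, 125] :=
  C.flip (f3269 C)

theorem f3271 : C.T (v19 C) [9, 31, 50, 89, 97, 109, 123] (v32 C) [13, 32, 61, 87, 96, 114] :=
  C.closeT (p := (v22 C)) (pu := [9, 27, 68, 74, 91, 115])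
    (C.pT (f3265 C)
    (C.pH [8, 30, 65, 84, 94, 117] [7, 36, 68, 71, 91, 109, 120] (by decide +kernel)
    (C.pT (f3268 C)
    (C.pH [26, 38, 54, 89, 90, 113] [9, 31, 50, 89, 97, 109, 123] (by decide +kernel) (C.pNil _ _)))))
    (C.pH [8, 30, 65, 84, 94, 117] [11, 33, 50, 82, 93, 109, 120] (by decide +kernel)
    (C.pT (f3270 C)
    (C.pH [26, 38, 54, 89, 90, 113] [9, 27, 68, 74, 91, 115] (by decide +kernel) (C.pNil _ _))))
    (C.loop_of_one (relLoop1 C) _ _)

theorem f3290 : C.S (v32 C) [] :=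
  C.stOne _

theorem f3339 : C.T (v16 C) [17, 37, 54, 88, 91, 109, 120] (v19 C) [12, 48, 65, 76, 97, 110, 123] :=
  C.conv (f1187 C) (f1218 C) (f1218 C) _ [145, 166, 172, 178] _ (by decide +kernel) (by decide +kernel) (by decide +kernel)

theorem f3340 : C.T (v19 C) [23, 48, 67, 78, 97, 110, 111] (v32 C) [13, 27, 57, 85, 103, 109] :=
  C.conv (f3271 C) (f1175 C) (f1116 C) _ [136, 158, 164, 171, 177] _ (by decide +kernel) (by decide +kernel) (by decide +kernel)

theorem f3341 : C.T (v32 C) [26, 29, 57, 85, 94, 124] (v16 C) [9, 30, 74, 96, 123] :=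
  C.closeT (p := (v16 C)) (pu := [17, 37, 54, 88, 91, 109, 120])
    (C.pT (f3339 C)
    (C.pH [12, 35, 50, 83] [23, 48, 67, 78, 97, 110, 111] (by decide +kernel)
    (C.pT (f3340 C)
    (C.pH [12, 35, 50, 83] [26, 29, 57, 85, 94, 124] (by decide +kernel) (C.pNil _ _)))))
    (C.pH [12, 35, 50, 83] [17, 37, 54, 88, 91, 109, 120] (by decide +kernel) (C.pNil _ _))
    (C.loop_of_one (relLoop0 C) _ _)

theorem f3381 : C.T (v15 C) [22, 32, 61, 96, 110, 117] (v33 C) [] :=
  C.defn _ _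

theorem f3382 : C.S (v15 C) [18, 35, 53, 85, 93, 109, 117] :=
  C.stMul (f484 C) (f471 C) _ (by decide +kernel)

theorem f3383 : C.S (v15 C) [12, 43, 63, 72, 93, 109, 111] :=
  C.stInv (f475 C) _ (by decide +kernel)

theorem f3384 : C.S (v15 C) [20, 33, 53, 83, 105, 116] :=
  C.stMul (f3383 C) (f3382 C) _ (by decide +kernel)

theorem f3385 : C.S (v33 C) [22, 76, 106, 109, 116] :=
  C.transfer (f3381 C) (f3384 C) [144, 153, 164, 178] _ (by decide +kernel) (by decide +kernel) (by decide +kernel)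

theorem f3386 : C.S (v15 C) [38, 57, 85, 101, 120] :=
  C.stMul (f475 C) (f479 C) _ (by decide +kernel)

theorem f3387 : C.S (v15 C) [27, 69, 82, 90, 120] :=
  C.stInv (f484 C) _ (by decide +kernel)

theorem f3388 : C.S (v15 C) [32, 55, 86, 100, 109, 121] :=
  C.stMul (f3387 C) (f3386 C) _ (by decide +kernel)

theorem f3389 : C.S (v33 C) [20, 54, 86, 100, 115] :=
  C.transfer (f3381 C) (f3388 C) [142, 163, 172] _ (by decide +kernel) (by decide +kernel) (by decide +kernel)

theorem f3391 : C.T (v15 C) [12, 45, 63, 87, 107, 119] (v17 C) [22, 43, 55, 108, 109, 119] :=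
  C.conv (f812 C) (f815 C) (f815 C) _ [140, 149, 169, 177] _ (by decide +kernel) (by decide +kernel) (by decide +kernel)

theorem f3392 : C.S (v15 C) [22, 40, 82, 99, 120] :=
  C.stMul (f479 C) (f471 C) _ (by decide +kernel)

theorem f3393 : C.S (v15 C) [38, 57, 73, 92, 109, 116] :=
  C.stMul (f490 C) (f3392 C) _ (by decide +kernel)

theorem f3394 : C.S (v15 C) [20, 35, 66, 86, 108, 109, 123] :=
  C.stMul (f490 C) (f3393 C) _ (by decide +kernel)

theorem f3395 : C.S (v15 C) [12, 29, 59, 89, 91, 123] :=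
  C.stMul (f471 C) (f3394 C) _ (by decide +kernel)

theorem f3396 : C.S (v15 C) [32, 57, 85, 120] :=
  C.stMul (f479 C) (f479 C) _ (by decide +kernel)

theorem f3397 : C.S (v15 C) [18, 48, 66, 85, 91, 109, 116] :=
  C.stMul (f471 C) (f3396 C) _ (by decide +kernel)

theorem f3398 : C.S (v15 C) [18, 44, 53, 81, 95, 109, 118] :=
  C.stMul (f484 C) (f3397 C) _ (by decide +kernel)

theorem f3399 : C.T (v15 C) [39, 55, 82, 92, 110, 112] (v33 C) [32, 65, 85, 92, 109, 116] :=
  C.conv (f3381 C) (f3395 C) (f3398 C) _ [153, 166, 172, 178] _ (by decide +kernel) (by decide +kernel) (by decide +kernel)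

theorem f3400 : C.T (v33 C) [32, 65, 85, 92, 109, 116] (v15 C) [39, 55, 82, 92, 110, 112] :=
  C.flip (f3399 C)

theorem f3401 : C.T (v17 C) [11, 30, 67, 74, 95, 122] (v33 C) [23, 33, 64, 80, 104, 109, 118] :=
  C.closeT (p := (v15 C)) (pu := [12, 45, 63, 87, 107, 119])
    (C.pT (f3391 C)
    (C.pH [12, 35, 50, 83] [11, 30, 67, 74, 95, 122] (by decide +kernel) (C.pNil _ _)))
    (C.pH [12, 35, 50, 83] [32, 65, 85, 92, 109, 116] (by decide +kernel)
    (C.pT (f3400 C)
    (C.pH [12, 35, 50, 83] [12, 45, 63, 87, 107, 119] (by decide +kernel) (C.pNil _ _))))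
    (C.loop_of_one (relLoop0 C) _ _)

theorem f3403 : C.T (v15 C) [35, 69, 86, 96, 125] (v17 C) [7, 32, 64, 73, 95, 109, 116] :=
  C.conv (f812 C) (f815 C) (f815 C) _ [142, 156, 168, 177] _ (by decide +kernel) (by decide +kernel) (by decide +kernel)

theorem f3404 : C.S (v15 C) [7, 35, 53, 84, 101, 109, 122] :=
  C.stMul (f490 C) (f471 C) _ (by decide +kernel)

theorem f3405 : C.S (v15 C) [23, 30, 54, 70, 102, 110, 119] :=
  C.stMul (f475 C) (f3404 C) _ (by decide +kernel)

theorem f3406 : C.S (v15 C) [7, 29, 51, 76, 100, 119] :=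
  C.stMul (f479 C) (f3405 C) _ (by decide +kernel)

theorem f3407 : C.T (v15 C) [23, 31, 69, 92, 109, 115] (v33 C) [7, 39, 68, 107, 111] :=
  C.conv (f3381 C) (f3395 C) (f3406 C) _ [129, 164, 175, 178] _ (by decide +kernel) (by decide +kernel) (by decide +kernel)

theorem f3408 : C.T (v33 C) [7, 39, 68, 107, 111] (v15 C) [23, 31, 69, 92, 109, 115] :=
  C.flip (f3407 C)

theorem f3409 : C.T (v17 C) [7, 29, 52, 71, 108, 109, 115] (v33 C) [7, 44, 65, 70, 95, 109, 112] :=
  C.closeT (p := (v15 C)) (pu := [35, 69, 86, 96, 125])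
    (C.pT (f3403 C)
    (C.pH [12, 35, 50, 83] [7, 29, 52, 71, 108, 109, 115] (by decide +kernel) (C.pNil _ _)))
    (C.pH [12, 35, 50, 83] [7, 39, 68, 107, 111] (by decide +kernel)
    (C.pT (f3408 C)
    (C.pH [12, 35, 50, 83] [35, 69, 86, 96, 125] (by decide +kernel) (C.pNil _ _))))
    (C.loop_of_one (relLoop0 C) _ _)

theorem f3416 : C.S (v33 C) [] :=
  C.stOne _

theorem f3438 : C.S (v15 C) [12, 34, 59, 85, 107, 109, 122] :=
  C.stMul (f471 C) (f490 C) _ (by decide +kernel)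

theorem f3452 : C.S (v17 C) [23, 52, 81, 99, 122] :=
  C.stMul (f688 C) (f665 C) _ (by decide +kernel)

theorem f3453 : C.S (v17 C) [13, 31, 51, 71, 90, 109, 124] :=
  C.stMul (f741 C) (f3452 C) _ (by decide +kernel)

theorem f3472 : C.T (v15 C) [19, 32, 59, 86, 93, 113] (v17 C) [14, 47, 63, 103, 109, 118] :=
  C.conv (f812 C) (f815 C) (f815 C) _ [137, 164, 174, 178] _ (by decide +kernel) (by decide +kernel) (by decide +kernel)

theorem f3473 : C.S (v17 C) [6, 27, 80, 94, 109, 112] :=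
  C.stMul (f741 C) (f658 C) _ (by decide +kernel)

theorem f3474 : C.T (v17 C) [5, 42, 60, 89, 94, 117] (v18 C) [17, 42, 64, 70, 106, 109, 123] :=
  C.conv (f1098 C) (f1102 C) (f3473 C) _ [141, 151, 168, 176, 177] _ (by decide +kernel) (by decide +kernel) (by decide +kernel)

theorem f3475 : C.S (v15 C) [12, 34, 59, 88, 93, 114] :=
  C.stMul (f490 C) (f3438 C) _ (by decide +kernel)

theorem f3476 : C.T (v15 C) [15, 37, 65, 88, 94, 109, 124] (v33 C) [15, 38, 62, 70, 94, 118] :=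
  C.conv (f3381 C) (f3395 C) (f3475 C) _ [137, 159, 165, 171, 177] _ (by decide +kernel) (by decide +kernel) (by decide +kernel)

theorem f3477 : C.T (v33 C) [15, 38, 62, 70, 94, 118] (v15 C) [15, 37, 65, 88, 94, 109, 124] :=
  C.flip (f3476 C)

theorem f3478 : C.T (v18 C) [22, 37, 88, 101, 109, 112] (v33 C) [20, 30, 56, 73, 105, 109, 115] :=
  C.closeT (p := (v15 C)) (pu := [19, 32, 59, 86, 93, 113])
    (C.pT (f3472 C)
    (C.pH [26, 38, 54, 89, 90, 113] [5, 42, 60, 89, 94, 117] (by decide +kernel)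
    (C.pT (f3474 C)
    (C.pH [8, 30, 65, 84, 94, 117] [22, 37, 88, 101, 109, 112] (by decide +kernel) (C.pNil _ _)))))
    (C.pH [26, 38, 54, 89, 90, 113] [15, 38, 62, 70, 94, 118] (by decide +kernel)
    (C.pT (f3477 C)
    (C.pH [8, 30, 65, 84, 94, 117] [19, 32, 59, 86, 93, 113] (by decide +kernel) (C.pNil _ _))))
    (C.loop_of_one (relLoop2 C) _ _)

theorem f3487 : C.T (v17 C) [23, 43, 49, 75, 96, 120] (v15 C) [20, 27, 59, 81, 91, 110, 123] :=
  C.conv (f813 C) (f677 C) (f677 C) _ [144, 160, 167, 172, 178] _ (by decide +kernel) (by decide +kernel) (by decide +kernel)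

theorem f3488 : C.S (v15 C) [12, 60, 81, 108, 123] :=
  C.stMul (f490 C) (f3038 C) _ (by decide +kernel)

theorem f3489 : C.S (v15 C) [20, 37, 59, 81, 95, 119] :=
  C.stMul (f471 C) (f3488 C) _ (by decide +kernel)

theorem f3490 : C.T (v15 C) [15, 32, 54, 81, 107, 110, 125] (v31 C) [17, 38, 57, 76, 99, 110, 112] :=
  C.conv (f3021 C) (f3026 C) (f3489 C) _ [148, 172, 177] _ (by decide +kernel) (by decide +kernel) (by decide +kernel)

theorem f3491 : C.S (v17 C) [6, 27, 80, 94, 109, 112] :=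
  C.stMul (f741 C) (f658 C) _ (by decide +kernel)

theorem f3492 : C.S (v17 C) [7, 29, 60, 88, 102, 125] :=
  C.stMul (f741 C) (f741 C) _ (by decide +kernel)

theorem f3493 : C.S (v17 C) [12, 44, 50, 84, 94, 110, 125] :=
  C.stMul (f677 C) (f3492 C) _ (by decide +kernel)

theorem f3494 : C.T (v17 C) [20, 30, 51, 82, 98, 114] (v33 C) [14, 35, 55, 73, 98, 109, 118] :=
  C.conv (f3409 C) (f3491 C) (f3493 C) _ [148, 149, 165, 173, 178] _ (by decide +kernel) (by decide +kernel) (by decide +kernel)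

theorem f3495 : C.T (v33 C) [14, 35, 55, 73, 98, 109, 118] (v17 C) [20, 30, 51, 82, 98, 114] :=
  C.flip (f3494 C)

theorem f3496 : C.T (v31 C) [22, 27, 56, 72, 91, 110, 125] (v33 C) [12, 45, 56, 85, 106, 125] :=
  C.closeT (p := (v17 C)) (pu := [23, 43, 49, 75, 96, 120])
    (C.pT (f3487 C)
    (C.pH [26, 38, 54, 89, 90, 113] [15, 32, 54, 81, 107, 110, 125] (by decide +kernel)
    (C.pT (f3490 C)
    (C.pH [8, 30, 65, 84, 94, 117] [22, 27, 56, 72, 91, 110, 125] (by decide +kernel) (C.pNil _ _)))))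
    (C.pH [26, 38, 54, 89, 90, 113] [14, 35, 55, 73, 98, 109, 118] (by decide +kernel)
    (C.pT (f3495 C)
    (C.pH [8, 30, 65, 84, 94, 117] [23, 43, 49, 75, 96, 120] (by decide +kernel) (C.pNil _ _))))
    (C.loop_of_one (relLoop2 C) _ _)

theorem f3497 : C.T (v33 C) [12, 45, 56, 85, 106, 125] (v31 C) [22, 27, 56, 72, 91, 110, 125] :=
  C.flip (f3496 C)

theorem f3566 : C.T (v18 C) [20, 31, 60, 72, 105, 109] (v33 C) [7, 36, 74, 109, 115] :=
  C.conv (f3478 C) (f959 C) (f959 C) _ [152, 166, 172, 177] _ (by decide +kernel) (by decide +kernel) (by decide +kernel)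

theorem f3567 : C.S (v18 C) [15, 41, 54, 78, 96, 110, 120] :=
  C.stMul (f959 C) (f973 C) _ (by decide +kernel)

theorem f3568 : C.T (v18 C) [17, 42, 57, 70, 91, 113] (v19 C) [4, 47, 58, 74, 102, 110] :=
  C.conv (f1233 C) (f973 C) (f3567 C) _ [148, 157, 167, 174] _ (by decide +kernel) (by decide +kernel) (by decide +kernel)

theorem f3569 : C.T (v19 C) [4, 47, 58, 74, 102, 110] (v18 C) [17, 42, 57, 70, 91, 113] :=
  C.flip (f3568 C)

theorem f3570 : C.S (v19 C) [10, 46, 49, 89, 107, 110, 122] :=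
  C.stMul (f1175 C) (f1116 C) _ (by decide +kernel)

theorem f3571 : C.T (v19 C) [18, 62, 82, 107, 110, 113] (v16 C) [18, 43, 60, 88, 102, 109, 123] :=
  C.conv (f1215 C) (f1175 C) (f3570 C) _ [144, 161, 168, 175] _ (by decide +kernel) (by decide +kernel) (by decide +kernel)

theorem f3572 : C.T (v16 C) [18, 43, 60, 88, 102, 109, 123] (v19 C) [18, 62, 82, 107, 110, 113] :=
  C.flip (f3571 C)

theorem f3573 : C.T (v33 C) [17, 27, 53, 84, 101, 110, 124] (v16 C) [25, 27, 49, 71, 115] :=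
  C.closeT (p := (v18 C)) (pu := [20, 31, 60, 72, 105, 109])
    (C.pT (f3566 C)
    (C.pH [8, 30, 65, 84, 94, 117] [17, 27, 53, 84, 101, 110, 124] (by decide +kernel) (C.pNil _ _)))
    (C.pH [26, 38, 54, 89, 90, 113] [18, 43, 60, 88, 102, 109, 123] (by decide +kernel)
    (C.pT (f3572 C)
    (C.pH [8, 30, 65, 84, 94, 117] [4, 47, 58, 74, 102, 110] (by decide +kernel)
    (C.pT (f3569 C)
    (C.pH [26, 38, 54, 89, 90, 113] [20, 31, 60, 72, 105, 109] (by decide +kernel) (C.pNil _ _))))))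
    (C.loop_of_one (relLoop1 C) _ _)

theorem f3574 : C.T (v16 C) [25, 27, 49, 71, 115] (v33 C) [17, 27, 53, 84, 101, 110, 124] :=
  C.flip (f3573 C)

theorem f3587 : C.T (v19 C) [26, 37, 58, 75, 97, 110, 118] (v17 C) [16, 30, 63, 81, 107, 124] :=
  C.conv (f1176 C) (f1137 C) (f1137 C) _ [144, 162, 167, 176, 177] _ (by decide +kernel) (by decide +kernel) (by decide +kernel)

theorem f3588 : C.S (v17 C) [12, 40, 58, 79, 105, 110] :=
  C.stMul (f665 C) (f658 C) _ (by decide +kernel)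

theorem f3589 : C.S (v17 C) [20, 63, 89, 92, 116] :=
  C.stMul (f688 C) (f3588 C) _ (by decide +kernel)

theorem f3590 : C.T (v17 C) [20, 28, 61, 82, 95, 109] (v33 C) [14, 44, 63, 76, 98, 110, 118] :=
  C.conv (f3401 C) (f3453 C) (f3589 C) _ [141, 156, 170, 172, 178] _ (by decide +kernel) (by decide +kernel) (by decide +kernel)

theorem f3591 : C.T (v19 C) [42, 64, 108, 109, 123] (v32 C) [26, 39, 49, 77, 91] :=
  C.conv (f3271 C) (f1175 C) (f1224 C) _ [132, 159, 175, 177] _ (by decide +kernel) (by decide +kernel) (by decide +kernel)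

theorem f3592 : C.T (v32 C) [26, 39, 49, 77, 91] (v19 C) [42, 64, 108, 109, 123] :=
  C.flip (f3591 C)

theorem f3593 : C.T (v33 C) [5, 46, 54, 81, 99, 117] (v32 C) [19, 37, 65, 85, 97, 115] :=
  C.closeT (p := (v19 C)) (pu := [26, 37, 58, 75, 97, 110, 118])
    (C.pT (f3587 C)
    (C.pH [8, 30, 65, 84, 94, 117] [20, 28, 61, 82, 95, 109] (by decide +kernel)
    (C.pT (f3590 C)
    (C.pH [26, 38, 54, 89, 90, 113] [5, 46, 54, 81, 99, 117] (by decide +kernel) (C.pNil _ _)))))
    (C.pH [8, 30, 65, 84, 94, 117] [26, 39, 49, 77, 91] (by decide +kernel)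
    (C.pT (f3592 C)
    (C.pH [26, 38, 54, 89, 90, 113] [26, 37, 58, 75, 97, 110, 118] (by decide +kernel) (C.pNil _ _))))
    (C.loop_of_one (relLoop1 C) _ _)

theorem f3615 : C.T (v32 C) [26, 46, 56, 74, 105, 109] (v16 C) [18, 27, 55, 79, 108, 109, 113] :=
  C.conv (f3341 C) (f3290 C) (f3290 C) _ [128, 158, 164, 174, 178] _ (by decide +kernel) (by decide +kernel) (by decide +kernel)

theorem f3616 : C.S (v16 C) [9, 34, 68, 81, 104, 109, 112] :=
  C.stMul (f581 C) (f565 C) _ (by decide +kernel)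

theorem f3617 : C.T (v16 C) [18, 37, 57, 71, 108, 114] (v33 C) [23, 39, 88, 92, 112] :=
  C.conv (f3574 C) (f565 C) (f3616 C) _ [137, 170, 175] _ (by decide +kernel) (by decide +kernel) (by decide +kernel)

theorem f3618 : C.T (v33 C) [28, 69, 71, 105, 110, 113] (v32 C) [13, 40, 68, 97, 109, 119] :=
  C.closeT (p := (v32 C)) (pu := [26, 46, 56, 74, 105, 109])
    (C.pT (f3615 C)
    (C.pH [12, 35, 50, 83] [18, 37, 57, 71, 108, 114] (by decide +kernel)
    (C.pT (f3617 C)
    (C.pH [12, 35, 50, 83] [28, 69, 71, 105, 110, 113] (by decide +kernel) (C.pNil _ _)))))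
    (C.pH [12, 35, 50, 83] [26, 46, 56, 74, 105, 109] (by decide +kernel) (C.pNil _ _))
    (C.loop_of_one (relLoop0 C) _ _)

theorem f3619 : C.T (v32 C) [13, 40, 68, 97, 109, 119] (v33 C) [28, 69, 71, 105, 110, 113] :=
  C.flip (f3618 C)

theorem f3678 : C.T (v33 C) [23, 45, 60, 73, 100, 114] (v32 C) [20, 42, 78, 105, 121] :=
  C.conv (f3593 C) (f3416 C) (f3416 C) _ [138, 150, 165, 174, 178] _ (by decide +kernel) (by decide +kernel) (by decide +kernel)

theorem f3679 : C.T (v32 C) [22, 68, 87, 95, 109, 119] (v33 C) [26, 48, 65, 74, 100, 109, 114] :=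
  C.conv (f3619 C) (f3190 C) (f3190 C) _ [148, 156, 165, 175] _ (by decide +kernel) (by decide +kernel) (by decide +kernel)

theorem f3680 : C.T (v33 C) [4, 38, 59, 71, 97, 110, 112] (v33 C) [12, 37, 52, 86, 102, 117] :=
  C.closeT (p := (v33 C)) (pu := [23, 45, 60, 73, 100, 114])
    (C.pT (f3678 C)
    (C.pH [12, 35, 50, 83] [22, 68, 87, 95, 109, 119] (by decide +kernel)
    (C.pT (f3679 C)
    (C.pH [12, 35, 50, 83] [4, 38, 59, 71, 97, 110, 112] (by decide +kernel) (C.pNil _ _)))))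
    (C.pH [12, 35, 50, 83] [23, 45, 60, 73, 100, 114] (by decide +kernel) (C.pNil _ _))
    (C.loop_of_one (relLoop0 C) _ _)

theorem f3816 : C.T (v33 C) [18, 45, 69, 86, 92, 109] (v33 C) [16, 43, 63, 87, 90, 110, 112] :=
  C.conv (f3680 C) (f3385 C) (f3385 C) _ [148, 158, 168, 172] _ (by decide +kernel) (by decide +kernel) (by decide +kernel)

theorem f3817 : C.T (v33 C) [13, 48, 88, 98, 109, 119] (v31 C) [25, 35, 60, 80, 90, 109, 113] :=
  C.conv (f3497 C) (f3416 C) (f3416 C) _ [143, 160, 168, 173, 177] _ (by decide +kernel) (by decide +kernel) (by decide +kernel)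

theorem f3818 : C.T (v33 C) [9, 34, 52, 84, 91, 109, 113] (v31 C) [19, 27, 66, 83, 93, 112] :=
  C.conv (f3497 C) (f3416 C) (f3389 C) _ [137, 155, 176] _ (by decide +kernel) (by decide +kernel) (by decide +kernel)

theorem f3819 : C.T (v31 C) [19, 27, 66, 83, 93, 112] (v33 C) [9, 34, 52, 84, 91, 109, 113] :=
  C.flip (f3818 C)

theorem f3820 : C.T (v31 C) [9, 36, 55, 71, 109, 113] (v31 C) [22, 34, 58, 82, 94, 109, 120] :=
  C.closeT (p := (v33 C)) (pu := [18, 45, 69, 86, 92, 109])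
    (C.pT (f3816 C)
    (C.pH [26, 38, 54, 89, 90, 113] [13, 48, 88, 98, 109, 119] (by decide +kernel)
    (C.pT (f3817 C)
    (C.pH [8, 30, 65, 84, 94, 117] [9, 36, 55, 71, 109, 113] (by decide +kernel) (C.pNil _ _)))))
    (C.pH [26, 38, 54, 89, 90, 113] [19, 27, 66, 83, 93, 112] (by decide +kernel)
    (C.pT (f3819 C)
    (C.pH [8, 30, 65, 84, 94, 117] [18, 45, 69, 86, 92, 109] (by decide +kernel) (C.pNil _ _))))
    (C.loop_of_one (relLoop2 C) _ _)

theorem f3822 : C.S (v31 C) [11, 38, 67, 73, 108, 110, 122] :=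
  C.stMul (f3011 C) (f3007 C) _ (by decide +kernel)

theorem f3833 : C.T (v15 C) [18, 43, 55, 102, 117] (v35 C) [] :=
  C.defn _ _

theorem f3836 : C.S (v15 C) [7, 35, 53, 84, 101, 109, 122] :=
  C.stMul (f490 C) (f471 C) _ (by decide +kernel)

theorem f3837 : C.S (v15 C) [23, 30, 54, 70, 102, 110, 119] :=
  C.stMul (f475 C) (f3836 C) _ (by decide +kernel)

theorem f3838 : C.S (v15 C) [23, 33, 51, 106, 123] :=
  C.stMul (f484 C) (f3837 C) _ (by decide +kernel)

theorem f3859 : C.T (v15 C) [10, 27, 51, 93, 114] (v23 C) [25, 47, 78, 100, 110, 116] :=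
  C.conv (f1872 C) (f1885 C) (f1885 C) _ [147, 155, 168, 174, 178] _ (by decide +kernel) (by decide +kernel) (by decide +kernel)

theorem f3860 : C.S (v15 C) [18, 35, 53, 85, 93, 109, 117] :=
  C.stMul (f484 C) (f471 C) _ (by decide +kernel)

theorem f3861 : C.S (v15 C) [7, 29, 60, 79, 103, 109, 112] :=
  C.stMul (f490 C) (f3860 C) _ (by decide +kernel)

theorem f3862 : C.S (v15 C) [23, 46, 60, 83, 106, 122] :=
  C.stMul (f475 C) (f3861 C) _ (by decide +kernel)

theorem f3863 : C.S (v15 C) [7, 62, 80, 99, 125] :=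
  C.stMul (f479 C) (f3862 C) _ (by decide +kernel)

theorem f3864 : C.S (v15 C) [23, 32, 52, 89, 110, 115] :=
  C.stMul (f475 C) (f3863 C) _ (by decide +kernel)

theorem f3865 : C.T (v15 C) [8, 48, 63, 84, 97, 110, 121] (v35 C) [14, 39, 53, 84, 110, 125] :=
  C.conv (f3833 C) (f3838 C) (f3864 C) _ [136, 155, 171, 178] _ (by decide +kernel) (by decide +kernel) (by decide +kernel)

theorem f3866 : C.T (v35 C) [14, 39, 53, 84, 110, 125] (v15 C) [8, 48, 63, 84, 97, 110, 121] :=
  C.flip (f3865 C)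

theorem f3867 : C.T (v23 C) [9, 41, 55, 78, 100, 110, 116] (v35 C) [14, 34, 53, 86, 92, 110, 122] :=
  C.closeT (p := (v15 C)) (pu := [10, 27, 51, 93, 114])
    (C.pT (f3859 C)
    (C.pH [12, 35, 50, 83] [9, 41, 55, 78, 100, 110, 116] (by decide +kernel) (C.pNil _ _)))
    (C.pH [12, 35, 50, 83] [14, 39, 53, 84, 110, 125] (by decide +kernel)
    (C.pT (f3866 C)
    (C.pH [12, 35, 50, 83] [10, 27, 51, 93, 114] (by decide +kernel) (C.pNil _ _))))
    (C.loop_of_one (relLoop0 C) _ _)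

theorem f3868 : C.T (v35 C) [14, 34, 53, 86, 92, 110, 122] (v23 C) [9, 41, 55, 78, 100, 110, 116] :=
  C.flip (f3867 C)

theorem f3886 : C.T (v15 C) [10, 42, 62, 80, 109, 124] (v30 C) [9, 27, 60, 85, 119] :=
  C.conv (f2804 C) (f2828 C) (f2828 C) _ [131, 150, 175, 177] _ (by decide +kernel) (by decide +kernel) (by decide +kernel)

theorem f3887 : C.T (v15 C) [8, 30, 60, 89, 99, 110, 121] (v35 C) [5, 30, 62, 81, 91, 125] :=
  C.conv (f3833 C) (f3838 C) (f484 C) _ [127, 152, 165, 176, 178] _ (by decide +kernel) (by decide +kernel) (by decide +kernel)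

theorem f3888 : C.T (v35 C) [5, 30, 62, 81, 91, 125] (v15 C) [8, 30, 60, 89, 99, 110, 121] :=
  C.flip (f3887 C)

theorem f3889 : C.T (v30 C) [17, 44, 60, 85, 119] (v35 C) [5, 46, 62, 81, 91, 125] :=
  C.closeT (p := (v15 C)) (pu := [10, 42, 62, 80, 109, 124])
    (C.pT (f3886 C)
    (C.pH [12, 35, 50, 83] [17, 44, 60, 85, 119] (by decide +kernel) (C.pNil _ _)))
    (C.pH [12, 35, 50, 83] [5, 30, 62, 81, 91, 125] (by decide +kernel)
    (C.pT (f3888 C)
    (C.pH [12, 35, 50, 83] [10, 42, 62, 80, 109, 124] (by decide +kernel) (C.pNil _ _))))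
    (C.loop_of_one (relLoop0 C) _ _)

theorem f3890 : C.T (v35 C) [5, 46, 62, 81, 91, 125] (v30 C) [17, 44, 60, 85, 119] :=
  C.flip (f3889 C)

theorem f3891 : C.T (v15 C) [8, 39, 50, 73, 108, 110, 125] (v31 C) [14, 44, 86, 91, 110, 125] :=
  C.conv (f3021 C) (f3026 C) (f3026 C) _ [130, 150, 168, 176] _ (by decide +kernel) (by decide +kernel) (by decide +kernel)

theorem f3892 : C.S (v15 C) [22, 47, 63, 84, 101, 112] :=
  C.stMul (f490 C) (f490 C) _ (by decide +kernel)

theorem f3893 : C.S (v15 C) [11, 61, 70, 91, 116] :=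
  C.stMul (f475 C) (f3892 C) _ (by decide +kernel)

theorem f3894 : C.S (v15 C) [11, 44, 61, 106, 110, 125] :=
  C.stMul (f484 C) (f3893 C) _ (by decide +kernel)

theorem f3895 : C.T (v15 C) [21, 28, 68, 73, 99, 113] (v35 C) [17, 47, 57, 79, 97, 110] :=
  C.conv (f3833 C) (f3838 C) (f3894 C) _ [139, 156, 165, 176, 178] _ (by decide +kernel) (by decide +kernel) (by decide +kernel)

theorem f3896 : C.T (v35 C) [17, 47, 57, 79, 97, 110] (v15 C) [21, 28, 68, 73, 99, 113] :=
  C.flip (f3895 C)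

theorem f3897 : C.T (v31 C) [14, 34, 56, 73, 108, 121] (v35 C) [9, 36, 54, 82, 97, 109, 113] :=
  C.closeT (p := (v15 C)) (pu := [8, 39, 50, 73, 108, 110, 125])
    (C.pT (f3891 C)
    (C.pH [12, 35, 50, 83] [14, 34, 56, 73, 108, 121] (by decide +kernel) (C.pNil _ _)))
    (C.pH [12, 35, 50, 83] [17, 47, 57, 79, 97, 110] (by decide +kernel)
    (C.pT (f3896 C)
    (C.pH [12, 35, 50, 83] [8, 39, 50, 73, 108, 110, 125] (by decide +kernel) (C.pNil _ _))))
    (C.loop_of_one (relLoop0 C) _ _)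

theorem f3924 : C.S (v15 C) [20, 37, 49, 82, 92, 125] :=
  C.stMul (f490 C) (f484 C) _ (by decide +kernel)

theorem f3925 : C.S (v15 C) [18, 33, 83, 102, 114] :=
  C.stMul (f475 C) (f3924 C) _ (by decide +kernel)

theorem f3926 : C.S (v15 C) [22, 31, 64, 76, 110] :=
  C.stMul (f479 C) (f3925 C) _ (by decide +kernel)

theorem f3927 : C.S (v15 C) [18, 35, 53, 89, 106, 110, 114] :=
  C.stMul (f479 C) (f3926 C) _ (by decide +kernel)

theorem f3933 : C.S (v35 C) [] :=
  C.stOne _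

theorem f3935 : C.T (v15 C) [21, 64, 86, 102, 112] (v15 C) [4, 48, 69, 72, 106, 115] :=
  C.conv (f521 C) (f471 C) (f471 C) _ [132, 160, 164, 176, 178] _ (by decide +kernel) (by decide +kernel) (by decide +kernel)

theorem f3936 : C.S (v15 C) [37, 58, 72, 102, 109, 125] :=
  C.stMul (f471 C) (f3927 C) _ (by decide +kernel)

theorem f3937 : C.T (v15 C) [25, 30, 81, 95, 110, 113] (v35 C) [9, 44, 69, 81, 107, 116] :=
  C.conv (f3833 C) (f3838 C) (f3936 C) _ [131, 151, 170, 172] _ (by decide +kernel) (by decide +kernel) (by decide +kernel)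

theorem f3938 : C.S (v15 C) [12, 37, 62, 88, 97, 109, 118] :=
  C.stMul (f490 C) (f475 C) _ (by decide +kernel)

theorem f3939 : C.S (v15 C) [20, 29, 51, 87, 93, 109, 117] :=
  C.stMul (f471 C) (f3938 C) _ (by decide +kernel)

theorem f3940 : C.S (v15 C) [22, 28, 61, 80, 107, 119] :=
  C.stMul (f490 C) (f3939 C) _ (by decide +kernel)

theorem f3941 : C.T (v15 C) [10, 67, 74, 108, 123] (v35 C) [6, 36, 49, 72, 106, 123] :=
  C.conv (f3833 C) (f3838 C) (f3940 C) _ [128, 161, 164, 173, 177] _ (by decide +kernel) (by decide +kernel) (by decide +kernel)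

theorem f3942 : C.T (v35 C) [6, 36, 49, 72, 106, 123] (v15 C) [10, 67, 74, 108, 123] :=
  C.flip (f3941 C)

theorem f3943 : C.T (v35 C) [22, 48, 52, 86, 96, 110, 115] (v35 C) [22, 31, 68, 86, 105, 110, 112] :=
  C.closeT (p := (v15 C)) (pu := [21, 64, 86, 102, 112])
    (C.pT (f3935 C)
    (C.pH [8, 30, 65, 84, 94, 117] [25, 30, 81, 95, 110, 113] (by decide +kernel)
    (C.pT (f3937 C)
    (C.pH [26, 38, 54, 89, 90, 113] [22, 48, 52, 86, 96, 110, 115] (by decide +kernel) (C.pNil _ _)))))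
    (C.pH [8, 30, 65, 84, 94, 117] [6, 36, 49, 72, 106, 123] (by decide +kernel)
    (C.pT (f3942 C)
    (C.pH [26, 38, 54, 89, 90, 113] [21, 64, 86, 102, 112] (by decide +kernel) (C.pNil _ _))))
    (C.loop_of_one (relLoop1 C) _ _)

theorem f3978 : C.T (v23 C) [17, 48, 54, 71, 96, 109, 124] (v30 C) [8, 43, 59, 85, 118] :=
  C.conv (f2856 C) (f1948 C) (f1948 C) _ [152, 168, 172, 177] _ (by decide +kernel) (by decide +kernel) (by decide +kernel)

theorem f3979 : C.S (v30 C) [22, 76, 106, 109, 116] :=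
  C.stMul (f2823 C) (f2816 C) _ (by decide +kernel)

theorem f3980 : C.T (v30 C) [10, 43, 59, 88, 96, 110, 112] (v35 C) [9, 29, 61, 72, 96, 110, 117] :=
  C.conv (f3889 C) (f3979 C) (f2823 C) _ [134, 149, 164, 171, 177] _ (by decide +kernel) (by decide +kernel) (by decide +kernel)

theorem f3981 : C.T (v35 C) [17, 40, 61, 87, 99, 110, 114] (v23 C) [9, 28, 49, 77, 106] :=
  C.closeT (p := (v23 C)) (pu := [17, 48, 54, 71, 96, 109, 124])
    (C.pT (f3978 C)
    (C.pH [12, 35, 50, 83] [10, 43, 59, 88, 96, 110, 112] (by decide +kernel)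
    (C.pT (f3980 C)
    (C.pH [12, 35, 50, 83] [17, 40, 61, 87, 99, 110, 114] (by decide +kernel) (C.pNil _ _)))))
    (C.pH [12, 35, 50, 83] [17, 48, 54, 71, 96, 109, 124] (by decide +kernel) (C.pNil _ _))
    (C.loop_of_one (relLoop0 C) _ _)

theorem f3991 : C.T (v29 C) [8, 28, 56, 84, 96, 109, 116] (v23 C) [17, 32, 88, 100, 109, 124] :=
  C.conv (f2690 C) (f2663 C) (f2663 C) _ [142, 149, 169, 172, 178] _ (by decide +kernel) (by decide +kernel) (by decide +kernel)

theorem f3992 : C.T (v23 C) [25, 47, 52, 72, 108, 110, 111] (v35 C) [14, 41, 60, 81, 94, 109, 121] :=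
  C.conv (f3867 C) (f1948 C) (f1879 C) _ [133, 153, 165, 172, 178] _ (by decide +kernel) (by decide +kernel) (by decide +kernel)

theorem f3993 : C.T (v35 C) [14, 41, 69, 77, 101, 109, 111] (v29 C) [21, 30, 59, 74, 105, 109] :=
  C.closeT (p := (v29 C)) (pu := [8, 28, 56, 84, 96, 109, 116])
    (C.pT (f3991 C)
    (C.pH [12, 35, 50, 83] [25, 47, 52, 72, 108, 110, 111] (by decide +kernel)
    (C.pT (f3992 C)
    (C.pH [12, 35, 50, 83] [14, 41, 69, 77, 101, 109, 111] (by decide +kernel) (C.pNil _ _)))))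
    (C.pH [12, 35, 50, 83] [8, 28, 56, 84, 96, 109, 116] (by decide +kernel) (C.pNil _ _))
    (C.loop_of_one (relLoop0 C) _ _)

theorem f3994 : C.T (v29 C) [21, 30, 59, 74, 105, 109] (v35 C) [14, 41, 69, 77, 101, 109, 111] :=
  C.flip (f3993 C)

theorem f4002 : C.T (v31 C) [24, 28, 51, 89, 90, 109, 116] (v31 C) [6, 29, 63, 70, 105, 121] :=
  C.conv (f3152 C) (f3007 C) (f3007 C) _ [140, 150, 169, 171] _ (by decide +kernel) (by decide +kernel) (by decide +kernel)

theorem f4003 : C.S (v31 C) [11, 38, 67, 73, 108, 110, 122] :=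
  C.stMul (f3011 C) (f3007 C) _ (by decide +kernel)

theorem f4004 : C.T (v31 C) [19, 30, 60, 85, 96, 109, 121] (v35 C) [5, 40, 69, 87, 107, 120] :=
  C.conv (f3897 C) (f3011 C) (f4003 C) _ [144, 161, 168, 172, 178] _ (by decide +kernel) (by decide +kernel) (by decide +kernel)

theorem f4005 : C.T (v35 C) [5, 39, 64, 87, 100, 124] (v31 C) [19, 45, 54, 80, 110, 116] :=
  C.closeT (p := (v31 C)) (pu := [24, 28, 51, 89, 90, 109, 116])
    (C.pT (f4002 C)
    (C.pH [12, 35, 50, 83] [19, 30, 60, 85, 96, 109, 121] (by decide +kernel)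
    (C.pT (f4004 C)
    (C.pH [12, 35, 50, 83] [5, 39, 64, 87, 100, 124] (by decide +kernel) (C.pNil _ _)))))
    (C.pH [12, 35, 50, 83] [24, 28, 51, 89, 90, 109, 116] (by decide +kernel) (C.pNil _ _))
    (C.loop_of_one (relLoop0 C) _ _)

theorem f4006 : C.T (v31 C) [19, 45, 54, 80, 110, 116] (v35 C) [5, 39, 64, 87, 100, 124] :=
  C.flip (f4005 C)

theorem f4020 : C.T (v35 C) [10, 44, 69, 89, 94, 110, 125] (v23 C) [14, 47, 57, 87, 100, 109, 122] :=
  C.conv (f3868 C) (f3933 C) (f3933 C) _ [134, 157, 170, 171] _ (by decide +kernel) (by decide +kernel) (by decide +kernel)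

theorem f4021 : C.T (v23 C) [14, 37, 53, 88, 105, 110, 112] (v35 C) [9, 45, 69, 76, 102, 110, 115] :=
  C.conv (f3867 C) (f1948 C) (f1879 C) _ [145, 156, 170, 174, 177] _ (by decide +kernel) (by decide +kernel) (by decide +kernel)

theorem f4022 : C.T (v35 C) [17, 39, 62, 70, 101, 109, 117] (v35 C) [8, 32, 69, 89, 90, 109, 123] :=
  C.closeT (p := (v35 C)) (pu := [10, 44, 69, 89, 94, 110, 125])
    (C.pT (f4020 C)
    (C.pH [12, 35, 50, 83] [14, 37, 53, 88, 105, 110, 112] (by decide +kernel)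
    (C.pT (f4021 C)
    (C.pH [12, 35, 50, 83] [17, 39, 62, 70, 101, 109, 117] (by decide +kernel) (C.pNil _ _)))))
    (C.pH [12, 35, 50, 83] [10, 44, 69, 89, 94, 110, 125] (by decide +kernel) (C.pNil _ _))
    (C.loop_of_one (relLoop0 C) _ _)

theorem f4305 : C.T (v31 C) [19, 41, 52, 100, 109, 124] (v29 C) [7, 27, 54, 81, 107, 110, 116] :=
  C.conv (f3032 C) (f3055 C) (f3055 C) _ [143, 153, 164, 172] _ (by decide +kernel) (by decide +kernel) (by decide +kernel)

theorem f4306 : C.T (v29 C) [39, 51, 70, 105, 110, 124] (v35 C) [10, 45, 67, 80, 92, 124] :=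
  C.conv (f3994 C) (f2618 C) (f2625 C) _ [138, 158, 166, 175, 178] _ (by decide +kernel) (by decide +kernel) (by decide +kernel)

theorem f4307 : C.T (v31 C) [15, 34, 52, 96, 110, 120] (v31 C) [14, 31, 60, 83, 92, 110, 119] :=
  C.conv (f3820 C) (f3822 C) (f3011 C) _ [130, 160, 166, 174, 178] _ (by decide +kernel) (by decide +kernel) (by decide +kernel)

theorem f4308 : C.T (v31 C) [14, 31, 60, 83, 92, 110, 119] (v31 C) [15, 34, 52, 96, 110, 120] :=
  C.flip (f4307 C)

theorem f4309 : C.T (v35 C) [15, 44, 68, 84, 98, 110, 113] (v31 C) [12, 30, 66, 84, 92, 119] :=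
  C.closeT (p := (v31 C)) (pu := [19, 41, 52, 100, 109, 124])
    (C.pT (f4305 C)
    (C.pH [26, 38, 54, 89, 90, 113] [39, 51, 70, 105, 110, 124] (by decide +kernel)
    (C.pT (f4306 C)
    (C.pH [8, 30, 65, 84, 94, 117] [15, 44, 68, 84, 98, 110, 113] (by decide +kernel) (C.pNil _ _)))))
    (C.pH [26, 38, 54, 89, 90, 113] [14, 31, 60, 83, 92, 110, 119] (by decide +kernel)
    (C.pT (f4308 C)
    (C.pH [8, 30, 65, 84, 94, 117] [19, 41, 52, 100, 109, 124] (by decide +kernel) (C.pNil _ _))))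
    (C.loop_of_one (relLoop2 C) _ _)

theorem f4310 : C.T (v31 C) [12, 30, 66, 84, 92, 119] (v35 C) [15, 44, 68, 84, 98, 110, 113] :=
  C.flip (f4309 C)

theorem f5078 : C.T (v31 C) [28, 50, 70, 104, 109, 113] (v35 C) [22, 34, 57, 81, 101, 109, 113] :=
  C.conv (f4006 C) (f3007 C) (f3007 C) _ [147, 152, 168, 178] _ (by decide +kernel) (by decide +kernel) (by decide +kernel)

theorem f5079 : C.T (v31 C) [7, 40, 50, 78, 103, 110, 120] (v35 C) [25, 40, 56, 87, 92, 111] :=
  C.conv (f4310 C) (f3007 C) (f3055 C) _ [140, 150, 164, 174] _ (by decide +kernel) (by decide +kernel) (by decide +kernel)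

theorem f5080 : C.T (v35 C) [25, 40, 56, 87, 92, 111] (v31 C) [7, 40, 50, 78, 103, 110, 120] :=
  C.flip (f5079 C)

theorem f5081 : C.T (v35 C) [4, 34, 60, 83, 90, 121] (v35 C) [4, 42, 59, 81, 90, 125] :=
  C.conv (f3943 C) (f3933 C) (f3933 C) _ [146, 163, 169] _ (by decide +kernel) (by decide +kernel) (by decide +kernel)

theorem f5082 : C.T (v35 C) [4, 42, 59, 81, 90, 125] (v35 C) [4, 34, 60, 83, 90, 121] :=
  C.flip (f5081 C)

theorem f5083 : C.T (v35 C) [6, 29, 51, 86, 102, 109] (v35 C) [6, 47, 50, 88, 90, 109, 119] :=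
  C.closeT (p := (v31 C)) (pu := [28, 50, 70, 104, 109, 113])
    (C.pT (f5078 C)
    (C.pH [8, 30, 65, 84, 94, 117] [6, 29, 51, 86, 102, 109] (by decide +kernel) (C.pNil _ _)))
    (C.pH [26, 38, 54, 89, 90, 113] [4, 42, 59, 81, 90, 125] (by decide +kernel)
    (C.pT (f5082 C)
    (C.pH [8, 30, 65, 84, 94, 117] [25, 40, 56, 87, 92, 111] (by decide +kernel)
    (C.pT (f5080 C)
    (C.pH [26, 38, 54, 89, 90, 113] [28, 50, 70, 104, 109, 113] (by decide +kernel) (C.pNil _ _))))))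
    (C.loop_of_one (relLoop1 C) _ _)

theorem f5171 : C.T (v35 C) [25, 47, 61, 81, 105, 109, 112] (v35 C) [25, 59, 84, 107, 109, 119] :=
  C.conv (f5083 C) (f3933 C) (f3933 C) _ [152, 173] _ (by decide +kernel) (by decide +kernel) (by decide +kernel)

theorem f5172 : C.T (v35 C) [9, 28, 58, 80, 101, 110, 124] (v35 C) [25, 42, 51, 75, 106, 109, 112] :=
  C.conv (f4022 C) (f3933 C) (f3933 C) _ [141, 151, 164, 176, 177] _ (by decide +kernel) (by decide +kernel) (by decide +kernel)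

theorem f5173 : C.T (v35 C) [9, 39, 80, 106, 110, 115] (v35 C) [17, 32, 67, 85, 100, 112] :=
  C.closeT (p := (v35 C)) (pu := [25, 47, 61, 81, 105, 109, 112])
    (C.pT (f5171 C)
    (C.pH [12, 35, 50, 83] [9, 28, 58, 80, 101, 110, 124] (by decide +kernel)
    (C.pT (f5172 C)
    (C.pH [12, 35, 50, 83] [9, 39, 80, 106, 110, 115] (by decide +kernel) (C.pNil _ _)))))
    (C.pH [12, 35, 50, 83] [25, 47, 61, 81, 105, 109, 112] (by decide +kernel) (C.pNil _ _))
    (C.loop_of_one (relLoop0 C) _ _)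

theorem f5181 : C.T (v35 C) [9, 41, 52, 83, 95, 110, 122] (v35 C) [9, 43, 62, 83, 90, 114] :=
  C.conv (f5083 C) (f3933 C) (f3933 C) _ [161, 164, 174, 178] _ (by decide +kernel) (by decide +kernel) (by decide +kernel)

theorem f5182 : C.T (v35 C) [17, 45, 55, 80, 104, 121] (v35 C) [24, 40, 64, 77, 98, 125] :=
  C.conv (f5173 C) (f3933 C) (f3933 C) _ [134, 155, 173, 178] _ (by decide +kernel) (by decide +kernel) (by decide +kernel)

theorem f5183 : C.T (v35 C) [6, 46, 66, 83, 100, 110, 121] (v35 C) [25, 47, 58, 84, 95, 109, 113] :=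
  C.closeT (p := (v35 C)) (pu := [9, 41, 52, 83, 95, 110, 122])
    (C.pT (f5181 C)
    (C.pH [12, 35, 50, 83] [17, 45, 55, 80, 104, 121] (by decide +kernel)
    (C.pT (f5182 C)
    (C.pH [12, 35, 50, 83] [6, 46, 66, 83, 100, 110, 121] (by decide +kernel) (C.pNil _ _)))))
    (C.pH [12, 35, 50, 83] [9, 41, 52, 83, 95, 110, 122] (by decide +kernel) (C.pNil _ _))
    (C.loop_of_one (relLoop0 C) _ _)

theorem f5203 : C.T (v35 C) [16, 39, 59, 78, 107, 120] (v35 C) [14, 32, 62, 78, 94, 110, 113] :=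
  C.conv (f5183 C) (f3933 C) (f3933 C) _ [140, 161, 170, 174] _ (by decide +kernel) (by decide +kernel) (by decide +kernel)

theorem f5204 : C.T (v35 C) [5, 28, 61, 89, 100, 109, 117] (v30 C) [15, 46, 49, 71, 96, 110, 121] :=
  C.conv (f3890 C) (f3933 C) (f3933 C) _ [126, 158, 167, 172, 178] _ (by decide +kernel) (by decide +kernel) (by decide +kernel)

theorem f5205 : C.S (v30 C) [20, 42, 57, 78, 99, 110, 115] :=
  C.stMul (f2816 C) (f2809 C) _ (by decide +kernel)

theorem f5206 : C.T (v30 C) [9, 33, 66, 72, 90, 118] (v23 C) [31, 53, 72, 93, 112] :=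
  C.conv (f2857 C) (f2816 C) (f5205 C) _ [130, 158, 167, 178] _ (by decide +kernel) (by decide +kernel) (by decide +kernel)

theorem f5207 : C.T (v23 C) [8, 34, 63, 80, 100, 116] (v35 C) [26, 38, 61, 87, 101, 110, 115] :=
  C.closeT (p := (v35 C)) (pu := [16, 39, 59, 78, 107, 120])
    (C.pT (f5203 C)
    (C.pH [8, 30, 65, 84, 94, 117] [5, 28, 61, 89, 100, 109, 117] (by decide +kernel)
    (C.pT (f5204 C)
    (C.pH [26, 38, 54, 89, 90, 113] [9, 33, 66, 72, 90, 118] (by decide +kernel)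
    (C.pT (f5206 C)
    (C.pH [8, 30, 65, 84, 94, 117] [8, 34, 63, 80, 100, 116] (by decide +kernel) (C.pNil _ _)))))))
    (C.pH [26, 38, 54, 89, 90, 113] [16, 39, 59, 78, 107, 120] (by decide +kernel) (C.pNil _ _))
    (C.loop_of_one (relLoop1 C) _ _)

theorem f5208 : C.T (v35 C) [26, 38, 61, 87, 101, 110, 115] (v23 C) [8, 34, 63, 80, 100, 116] :=
  C.flip (f5207 C)

theorem f5209 : C.T (v35 C) [26, 38, 61, 87, 101, 110, 115] (v23 C) [11, 42, 62, 76, 96, 116] :=
  C.conv (f3981 C) (f3933 C) (f3933 C) _ [147, 155, 164, 174, 177] _ (by decide +kernel) (by decide +kernel) (by decide +kernel)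

theorem f5210 : C.E (v23 C) [11, 42, 62, 76, 96, 116] (v23 C) [8, 34, 63, 80, 100, 116] :=
  C.sameSrc (f5209 C) (f5208 C)

theorem f5211 : C.S (v23 C) [25, 35, 87, 99, 111] :=
  C.stEq (f5210 C) _ (by decide +kernel)

theorem f5220 : C.S (v23 C) [] :=
  C.stOne _

theorem f5252 : C.T (v23 C) [7, 48, 62, 97, 114] (v5 C) [20, 31, 50, 76, 97, 109, 115] :=
  C.conv (f2019 C) (f5211 C) (f5220 C) _ [145, 162, 168, 176, 178] _ (by decide +kernel) (by decide +kernel) (by decide +kernel)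

theorem f5253 : C.E (v5 C) [20, 31, 50, 76, 97, 109, 115] (v4 C) [5, 34, 56, 81, 109, 118] :=
  C.sameSrc (f5252 C) (f1928 C)

theorem f5254 : C.E (v4 C) [5, 34, 56, 81, 109, 118] (v5 C) [20, 31, 50, 76, 97, 109, 115] :=
  C.esymm (f5253 C)

theorem f5255 : C.E (v5 C) [20, 31, 50, 76, 97, 109, 115] (v4 C) [5, 34, 56, 81, 109, 118] :=
  C.esymm (f5254 C)

theorem f5256 : C.E (v5 C) [] (v4 C) [16, 40, 55, 70, 98, 125] :=
  C.norm (f5255 C) _ (by decide +kernel)

theorem f5305 : C.S (v3 C) [9, 31, 67, 77, 110, 122] :=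
  C.stMul (f66 C) (f159 C) _ (by decide +kernel)

theorem f5306 : C.S (v3 C) [25, 29, 69, 73, 99, 110, 111] :=
  C.stMul (f159 C) (f5305 C) _ (by decide +kernel)

theorem f5320 : C.S (v2 C) [4, 35, 57, 79, 90, 109, 117] :=
  C.stMul (f46 C) (f137 C) _ (by decide +kernel)

theorem f6073 : C.T (v3 C) [43, 66] (v2 C) [19, 45, 51, 89, 91, 114] :=
  C.conv (f155 C) (f162 C) (f5306 C) _ [135, 149, 168, 171, 177] _ (by decide +kernel) (by decide +kernel) (by decide +kernel)

theorem f6074 : C.T (v2 C) [12, 38, 61, 105, 118] (v1 C) [20, 48, 61, 75, 90, 109, 124] :=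
  C.conv (f125 C) (f137 C) (f5320 C) _ [137, 158, 169, 171, 178] _ (by decide +kernel) (by decide +kernel) (by decide +kernel)

theorem f6075 : C.T (v1 C) [25, 40, 54, 71, 96, 112] (v0 C) [10, 38, 69, 87, 91, 115] :=
  C.conv (f39 C) (f908 C) (f908 C) _ [147, 152, 166, 174, 177] _ (by decide +kernel) (by decide +kernel) (by decide +kernel)

theorem f6076 : C.T (v3 C) [21, 46, 64, 77, 107, 110, 112] (v2 C) [20, 40, 88, 98, 117] :=
  C.conv (f155 C) (f162 C) (f5306 C) _ [138, 151, 168, 174] _ (by decide +kernel) (by decide +kernel) (by decide +kernel)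

theorem f6077 : C.T (v2 C) [25, 27, 53, 86, 99, 109, 111] (v1 C) [6, 44, 58, 81, 107, 110, 123] :=
  C.conv (f125 C) (f137 C) (f5320 C) _ [140, 149, 175] _ (by decide +kernel) (by decide +kernel) (by decide +kernel)

theorem f6078 : C.T (v1 C) [14, 32, 68, 87, 104, 109, 118] (v0 C) [16, 29, 59, 84, 92, 118] :=
  C.conv (f39 C) (f908 C) (f908 C) _ [136, 162, 170, 172] _ (by decide +kernel) (by decide +kernel) (by decide +kernel)

theorem f6079 : C.T (v3 C) [7, 43, 67, 71, 103, 120] (v2 C) [26, 46, 50, 75, 101, 118] :=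
  C.conv (f155 C) (f162 C) (f159 C) _ [146, 157, 164, 178] _ (by decide +kernel) (by decide +kernel) (by decide +kernel)

theorem f6080 : C.S (v2 C) [15, 64, 80, 100, 114] :=
  C.stMul (f132 C) (f132 C) _ (by decide +kernel)

theorem f6081 : C.T (v2 C) [5, 32, 69, 85, 100, 109, 117] (v1 C) [38, 53, 87, 100, 119] :=
  C.conv (f125 C) (f137 C) (f6080 C) _ [135, 169, 175] _ (by decide +kernel) (by decide +kernel) (by decide +kernel)

theorem f6082 : C.T (v1 C) [48, 51, 72, 110, 118] (v0 C) [18, 28, 50, 82, 106, 119] :=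
  C.conv (f39 C) (f908 C) (f908 C) _ [163, 169, 175, 177] _ (by decide +kernel) (by decide +kernel) (by decide +kernel)

theorem f6083 : C.T (v4 C) [43, 66] (v4 C) [16, 40, 55, 70, 98, 125] :=
  C.substR (f184 C) (f5256 C) _ (by decide +kernel)

theorem f6084 : C.T (v4 C) [26, 46, 55, 80, 102, 109, 117] (v3 C) [4, 48, 54, 99, 109, 114] :=
  C.conv (f183 C) (f276 C) (f276 C) _ [148, 158, 176, 177] _ (by decide +kernel) (by decide +kernel) (by decide +kernel)

theorem f6085 : C.T (v3 C) [10, 39, 68, 85, 103, 121] (v2 C) [20, 58, 89, 93, 110] :=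
  C.conv (f155 C) (f162 C) (f5306 C) _ [130, 160, 169, 175, 177] _ (by decide +kernel) (by decide +kernel) (by decide +kernel)

theorem f6086 : C.T (v2 C) [25, 36, 56, 71, 90, 110, 111] (v1 C) [6, 47, 62, 70, 107, 110, 113] :=
  C.conv (f125 C) (f137 C) (f5320 C) _ [134, 161, 170, 172] _ (by decide +kernel) (by decide +kernel) (by decide +kernel)

theorem f6087 : C.T (v1 C) [14, 35, 56, 70, 105, 110, 115] (v0 C) [26, 46, 49, 89, 106, 110, 112] :=
  C.conv (f39 C) (f908 C) (f908 C) _ [136, 150, 165, 173] _ (by decide +kernel) (by decide +kernel) (by decide +kernel)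

theorem f6088 : C.T (v3 C) [22, 28, 66] (v2 C) [5, 43, 63, 78, 106, 109, 114] :=
  C.conv (f155 C) (f162 C) (f5306 C) _ [126, 152, 165, 171, 178] _ (by decide +kernel) (by decide +kernel) (by decide +kernel)

theorem f6089 : C.T (v2 C) [16, 32, 73, 101, 113] (v16 C) [24, 28, 64, 80, 92, 113] :=
  C.substR (f201 C) (f844 C) _ (by decide +kernel)

theorem f6090 : C.T (v16 C) [19, 31, 53, 76, 90, 109, 125] (v3 C) [22, 27, 57, 73, 95, 110] :=
  C.conv (f589 C) (f631 C) (f631 C) _ [141, 163, 164, 172, 177] _ (by decide +kernel) (by decide +kernel) (by decide +kernel)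

theorem f6091 : C.T (v3 C) [25, 29, 59, 81, 96, 112] (v2 C) [14, 43, 66, 88, 110, 115] :=
  C.conv (f155 C) (f162 C) (f872 C) _ [146, 155, 165, 171, 178] _ (by decide +kernel) (by decide +kernel) (by decide +kernel)

theorem f6092 : C.T (v2 C) [18, 44, 61, 84, 90] (v1 C) [9, 32, 54, 72, 105, 110, 116] :=
  C.conv (f125 C) (f137 C) (f132 C) _ [134, 160, 170, 173, 178] _ (by decide +kernel) (by decide +kernel) (by decide +kernel)

theorem f6093 : C.T (v1 C) [15, 41, 67, 70, 96, 118] (v0 C) [8, 47, 51, 88, 103, 110, 117] :=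
  C.conv (f39 C) (f908 C) (f908 C) _ [137, 155, 167, 172, 178] _ (by decide +kernel) (by decide +kernel) (by decide +kernel)

theorem goal0 : C.prodOps [some [20, 50], none, some [11, 66], some [20, 50], none, some [11, 66], some [20, 50], none, some [11, 66], some [20, 50], none, some [11, 66], some [20, 50], none, some [11, 66], some [20, 50], none, some [11, 66]] • C.p0 = C.p0 := by
  have h : C.Path [some [20, 50], none, some [11, 66], some [20, 50], none, some [11, 66], some [20, 50], none, some [11, 66], some [20, 50], none, some [11, 66], some [20, 50], none, some [11, 66], some [20, 50], none, some [11, 66]] (v0 C) [] (v0 C) [12, 37, 65, 98, 109, 117] :=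
    (C.pH [20, 50] [20, 50] (by decide +kernel)
    (C.pT (f2 C)
    (C.pH [11, 66] [11, 66] (by decide +kernel)
    (C.pH [20, 50] [43, 66] (by decide +kernel)
    (C.pT (f40 C)
    (C.pH [11, 66] [11, 66] (by decide +kernel)
    (C.pH [20, 50] [43, 66] (by decide +kernel)
    (C.pT (f65 C)
    (C.pH [11, 66] [11, 66] (by decide +kernel)
    (C.pH [20, 50] [43, 66] (by decide +kernel)
    (C.pT (f6073 C)
    (C.pH [11, 66] [24, 35, 54, 73, 101, 110, 111] (by decide +kernel)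
    (C.pH [20, 50] [12, 38, 61, 105, 118] (by decide +kernel)
    (C.pT (f6074 C)
    (C.pH [11, 66] [7, 45, 53, 81, 107, 109, 124] (by decide +kernel)
    (C.pH [20, 50] [25, 40, 54, 71, 96, 112] (by decide +kernel)
    (C.pT (f6075 C)
    (C.pH [11, 66] [12, 37, 65, 98, 109, 117] (by decide +kernel) (C.pNil _ _)))))))))))))))))))
  have h2 : C.prodOps [some [20, 50], none, some [11, 66], some [20, 50], none, some [11, 66], some [20, 50], none, some [11, 66], some [20, 50], none, some [11, 66], some [20, 50], none, some [11, 66], some [20, 50], none, some [11, 66]] • C.W [] • C.p0 = C.W [12, 37, 65, 98, 109, 117] • C.p0 := h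
  rw [Base.W_nil, one_smul] at h2
  rw [h2]
  exact rootAll C [12, 37, 65, 98, 109, 117]

theorem goal1 : C.prodOps [some [20, 50], none, some [11, 66], some [20, 50], none, some [11, 66], some [20, 50], none, some [11, 66], some [7, 38, 51, 70, 101, 110, 119], some [20, 50], none, some [11, 66], some [20, 50], none, some [11, 66], some [20, 50], none, some [11, 66]] • C.p0 = C.p0 := by
  have h : C.Path [some [20, 50], none, some [11, 66], some [20, 50], none, some [11, 66], some [20, 50], none, some [11, 66], some [7, 38, 51, 70, 101, 110, 119], some [20, 50], none, some [11, 66], some [20, 50], none, some [11, 66], some [20, 50], none, some [11, 66]] (v0 C) [] (v0 C) [14, 27, 59, 78, 105, 110, 115] :=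
    (C.pH [20, 50] [20, 50] (by decide +kernel)
    (C.pT (f2 C)
    (C.pH [11, 66] [11, 66] (by decide +kernel)
    (C.pH [20, 50] [43, 66] (by decide +kernel)
    (C.pT (f40 C)
    (C.pH [11, 66] [11, 66] (by decide +kernel)
    (C.pH [20, 50] [43, 66] (by decide +kernel)
    (C.pT (f65 C)
    (C.pH [11, 66] [11, 66] (by decide +kernel)
    (C.pH [7, 38, 51, 70, 101, 110, 119] [5, 43, 54, 87, 106, 115] (by decide +kernel)
    (C.pH [20, 50] [21, 46, 64, 77, 107, 110, 112] (by decide +kernel)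
    (C.pT (f6076 C)
    (C.pH [11, 66] [7, 41, 53, 86, 99, 109, 111] (by decide +kernel)
    (C.pH [20, 50] [25, 27, 53, 86, 99, 109, 111] (by decide +kernel)
    (C.pT (f6077 C)
    (C.pH [11, 66] [13, 41, 67, 81, 107, 109, 111] (by decide +kernel)
    (C.pH [20, 50] [14, 32, 68, 87, 104, 109, 118] (by decide +kernel)
    (C.pT (f6078 C)
    (C.pH [11, 66] [14, 27, 59, 78, 105, 110, 115] (by decide +kernel) (C.pNil _ _))))))))))))))))))))
  have h2 : C.prodOps [some [20, 50], none, some [11, 66], some [20, 50], none, some [11, 66], some [20, 50], none, some [11, 66], some [7, 38, 51, 70, 101, 110, 119], some [20, 50], none, some [11, 66], some [20, 50], none, some [11, 66], some [20, 50], none, some [11, 66]] • C.W [] • C.p0 = C.W [14, 27, 59, 78, 105, 110, 115] • C.p0 := h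
  rw [Base.W_nil, one_smul] at h2
  rw [h2]
  exact rootAll C [14, 27, 59, 78, 105, 110, 115]

theorem goal2 : C.prodOps [some [20, 50], none, some [11, 66], some [20, 50], none, some [11, 66], some [20, 50], none, some [11, 66], some [6, 32, 68, 80, 94, 109, 116], some [20, 50], none, some [11, 66], some [20, 50], none, some [11, 66], some [20, 50], none, some [11, 66]] • C.p0 = C.p0 := by
  have h : C.Path [some [20, 50], none, some [11, 66], some [20, 50], none, some [11, 66], some [20, 50], none, some [11, 66], some [6, 32, 68, 80, 94, 109, 116], some [20, 50], none, some [11, 66], some [20, 50], none, some [11, 66], some [20, 50], none, some [11, 66]] (v0 C) [] (v0 C) [23, 42, 64, 86, 91] :=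
    (C.pH [20, 50] [20, 50] (by decide +kernel)
    (C.pT (f2 C)
    (C.pH [11, 66] [11, 66] (by decide +kernel)
    (C.pH [20, 50] [43, 66] (by decide +kernel)
    (C.pT (f40 C)
    (C.pH [11, 66] [11, 66] (by decide +kernel)
    (C.pH [20, 50] [43, 66] (by decide +kernel)
    (C.pT (f65 C)
    (C.pH [11, 66] [11, 66] (by decide +kernel)
    (C.pH [6, 32, 68, 80, 94, 109, 116] [17, 43, 72, 99, 109, 114] (by decide +kernel)
    (C.pH [20, 50] [7, 43, 67, 71, 103, 120] (by decide +kernel)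
    (C.pT (f6079 C)
    (C.pH [11, 66] [18, 36, 69, 85, 100, 109, 117] (by decide +kernel)
    (C.pH [20, 50] [5, 32, 69, 85, 100, 109, 117] (by decide +kernel)
    (C.pT (f6081 C)
    (C.pH [11, 66] [11, 35, 53, 79, 108, 110, 113] (by decide +kernel)
    (C.pH [20, 50] [48, 51, 72, 110, 118] (by decide +kernel)
    (C.pT (f6082 C)
    (C.pH [11, 66] [23, 42, 64, 86, 91] (by decide +kernel) (C.pNil _ _))))))))))))))))))))
  have h2 : C.prodOps [some [20, 50], none, some [11, 66], some [20, 50], none, some [11, 66], some [20, 50], none, some [11, 66], some [6, 32, 68, 80, 94, 109, 116], some [20, 50], none, some [11, 66], some [20, 50], none, some [11, 66], some [20, 50], none, some [11, 66]] • C.W [] • C.p0 = C.W [23, 42, 64, 86, 91] • C.p0 := h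
  rw [Base.W_nil, one_smul] at h2
  rw [h2]
  exact rootAll C [23, 42, 64, 86, 91]

theorem goal3 : C.prodOps [some [20, 50], none, some [11, 66], some [20, 50], none, some [11, 66], some [20, 50], none, some [11, 66], some [10], some [20, 50], none, some [11, 66], some [20, 50], none, some [11, 66], some [20, 50], none, some [11, 66], some [10], some [21, 37, 65, 73, 105, 109, 124], some [20, 50], none, some [11, 66], some [20, 50], none, some [11, 66], some [20, 50], none, some [11, 66], some [21, 35, 65]] • C.p0 = C.p0 := by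
  have h : C.Path [some [20, 50], none, some [11, 66], some [20, 50], none, some [11, 66], some [20, 50], none, some [11, 66], some [10], some [20, 50], none, some [11, 66], some [20, 50], none, some [11, 66], some [20, 50], none, some [11, 66], some [10], some [21, 37, 65, 73, 105, 109, 124], some [20, 50], none, some [11, 66], some [20, 50], none, some [11, 66], some [20, 50], none, some [11, 66], some [21, 35, 65]] (v0 C) [] (v0 C) [24, 43, 106, 110, 117] :=
    (C.pH [20, 50] [20, 50] (by decide +kernel)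
    (C.pT (f2 C)
    (C.pH [11, 66] [11, 66] (by decide +kernel)
    (C.pH [20, 50] [43, 66] (by decide +kernel)
    (C.pT (f40 C)
    (C.pH [11, 66] [11, 66] (by decide +kernel)
    (C.pH [20, 50] [43, 66] (by decide +kernel)
    (C.pT (f65 C)
    (C.pH [11, 66] [11, 66] (by decide +kernel)
    (C.pH [10] [13, 66] (by decide +kernel)
    (C.pH [20, 50] [14, 30, 66, 74, 96, 109, 117] (by decide +kernel)
    (C.pT (f165 C)
    (C.pH [11, 66] [11, 66] (by decide +kernel)
    (C.pH [20, 50] [43, 66] (by decide +kernel)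
    (C.pT (f6083 C)
    (C.pH [11, 66] [14, 36, 56, 86, 97, 125] (by decide +kernel)
    (C.pH [20, 50] [26, 46, 55, 80, 102, 109, 117] (by decide +kernel)
    (C.pT (f6084 C)
    (C.pH [11, 66] [5, 30, 63, 73, 97, 110] (by decide +kernel)
    (C.pH [10] [19, 35, 58, 76, 99, 109, 113] (by decide +kernel)
    (C.pH [21, 37, 65, 73, 105, 109, 124] [12, 36, 56, 82, 91, 109, 125] (by decide +kernel)
    (C.pH [20, 50] [10, 39, 68, 85, 103, 121] (by decide +kernel)
    (C.pT (f6085 C)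
    (C.pH [11, 66] [7, 56, 71, 90, 110, 111] (by decide +kernel)
    (C.pH [20, 50] [25, 36, 56, 71, 90, 110, 111] (by decide +kernel)
    (C.pT (f6086 C)
    (C.pH [11, 66] [13, 37, 66, 71, 98, 119] (by decide +kernel)
    (C.pH [20, 50] [14, 35, 56, 70, 105, 110, 115] (by decide +kernel)
    (C.pT (f6087 C)
    (C.pH [11, 66] [18, 36, 65, 107, 110, 123] (by decide +kernel)
    (C.pH [21, 35, 65] [24, 43, 106, 110, 117] (by decide +kernel) (C.pNil _ _))))))))))))))))))))))))))))))))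
  have h2 : C.prodOps [some [20, 50], none, some [11, 66], some [20, 50], none, some [11, 66], some [20, 50], none, some [11, 66], some [10], some [20, 50], none, some [11, 66], some [20, 50], none, some [11, 66], some [20, 50], none, some [11, 66], some [10], some [21, 37, 65, 73, 105, 109, 124], some [20, 50], none, some [11, 66], some [20, 50], none, some [11, 66], some [20, 50], none, some [11, 66], some [21, 35, 65]] • C.W [] • C.p0 = C.W [24, 43, 106, 110, 117] • C.p0 := h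
  rw [Base.W_nil, one_smul] at h2
  rw [h2]
  exact rootAll C [24, 43, 106, 110, 117]

theorem goal4 : C.prodOps [some [20, 50], none, some [11, 66], some [20, 50], none, some [11, 66], some [20, 50], none, some [11, 66], some [24, 65], some [20, 50], none, some [11, 66], some [20, 50], none, some [11, 66], some [20, 50], none, some [11, 66], some [24, 65], some [6, 43, 59, 74, 101, 110, 118], some [20, 50], none, some [11, 66], some [20, 50], none, some [11, 66], some [20, 50], none, some [11, 66], some [20, 37, 66, 89, 99, 110, 112]] • C.p0 = C.p0 := by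
  have h : C.Path [some [20, 50], none, some [11, 66], some [20, 50], none, some [11, 66], some [20, 50], none, some [11, 66], some [24, 65], some [20, 50], none, some [11, 66], some [20, 50], none, some [11, 66], some [20, 50], none, some [11, 66], some [24, 65], some [6, 43, 59, 74, 101, 110, 118], some [20, 50], none, some [11, 66], some [20, 50], none, some [11, 66], some [20, 50], none, some [11, 66], some [20, 37, 66, 89, 99, 110, 112]] (v0 C) [] (v0 C) [10, 35, 51, 73, 105, 109, 123] :=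
    (C.pH [20, 50] [20, 50] (by decide +kernel)
    (C.pT (f2 C)
    (C.pH [11, 66] [11, 66] (by decide +kernel)
    (C.pH [20, 50] [43, 66] (by decide +kernel)
    (C.pT (f40 C)
    (C.pH [11, 66] [11, 66] (by decide +kernel)
    (C.pH [20, 50] [43, 66] (by decide +kernel)
    (C.pT (f65 C)
    (C.pH [11, 66] [11, 66] (by decide +kernel)
    (C.pH [24, 65] [26, 66] (by decide +kernel)
    (C.pH [20, 50] [22, 28, 66] (by decide +kernel)
    (C.pT (f6088 C)
    (C.pH [11, 66] [21, 30, 62, 88, 114] (by decide +kernel)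
    (C.pH [20, 50] [16, 32, 73, 101, 113] (by decide +kernel)
    (C.pT (f6089 C)
    (C.pH [11, 66] [22, 45, 57, 107, 109, 112] (by decide +kernel)
    (C.pH [20, 50] [19, 31, 53, 76, 90, 109, 125] (by decide +kernel)
    (C.pT (f6090 C)
    (C.pH [11, 66] [26, 41, 58, 86, 105, 110, 119] (by decide +kernel)
    (C.pH [24, 65] [11, 41, 58, 86, 105, 110, 119] (by decide +kernel)
    (C.pH [6, 43, 59, 74, 101, 110, 118] [7, 33, 59, 81, 96, 112] (by decide +kernel)
    (C.pH [20, 50] [25, 29, 59, 81, 96, 112] (by decide +kernel)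
    (C.pT (f6091 C)
    (C.pH [11, 66] [15, 43, 69, 88, 94, 110, 113] (by decide +kernel)
    (C.pH [20, 50] [18, 44, 61, 84, 90] (by decide +kernel)
    (C.pT (f6092 C)
    (C.pH [11, 66] [10, 32, 56, 92, 109] (by decide +kernel)
    (C.pH [20, 50] [15, 41, 67, 70, 96, 118] (by decide +kernel)
    (C.pT (f6093 C)
    (C.pH [11, 66] [16, 31, 61, 78, 103, 110, 125] (by decide +kernel)
    (C.pH [20, 37, 66, 89, 99, 110, 112] [10, 35, 51, 73, 105, 109, 123] (by decide +kernel) (C.pNil _ _))))))))))))))))))))))))))))))))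
  have h2 : C.prodOps [some [20, 50], none, some [11, 66], some [20, 50], none, some [11, 66], some [20, 50], none, some [11, 66], some [24, 65], some [20, 50], none, some [11, 66], some [20, 50], none, some [11, 66], some [20, 50], none, some [11, 66], some [24, 65], some [6, 43, 59, 74, 101, 110, 118], some [20, 50], none, some [11, 66], some [20, 50], none, some [11, 66], some [20, 50], none, some [11, 66], some [20, 37, 66, 89, 99, 110, 112]] • C.W [] • C.p0 = C.W [10, 35, 51, 73, 105, 109, 123] • C.p0 := h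
  rw [Base.W_nil, one_smul] at h2
  rw [h2]
  exact rootAll C [10, 35, 51, 73, 105, 109, 123]

end CfsgLib.J4Kp
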