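import Cfsg.Agent.Lib.J4Kp.Facts
import Cfsg.Agent.Lib.J4Index.Index
import Cfsg.Agent.Lib.J4G.Mathieu

/-!
# Equations in the presented J4 read from its cosets and its representation
-/

set_option autoImplicit false
set_option maxRecDepth 100000
set_option linter.constructorNameAsVariable false

namespace CfsgLib.J4Kp

open Cfsg.Spor CfsgLib.J4P
open CfsgLib.J4Index (wv wv_flat flat okW flat_lt jg MG toM toM_eval)
open CfsgLib.HNxyz (evalW evalW_nil evalW_cons)

/-- The subgroup generated by x and y. -/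
def hSub : Subgroup Cfsg.Spor.J4 := Subgroup.closure {jg .x, jg .y}

/-- The action on the cosets of the subgroup generated by x and y. -/
def hCtx : Base Cfsg.Spor.J4 (Cfsg.Spor.J4 ⧸ hSub) where
  a := jg .x
  b := jg .y
  t := jg .t
  p0 := ((1 : Cfsg.Spor.J4) : Cfsg.Spor.J4 ⧸ hSub)
  rels := xy_rels
  t_sq := J4Index.j4_t_sq
  t_x := J4Index.j4_t_x
  t_w := J4Index.j4_t_w
  fix_a := by
    rw [MulAction.Quotient.smul_coe, QuotientGroup.eq, smul_eq_mul, mul_one, mul_one]
    exact inv_mem (Subgroup.subset_closure (Or.inl rfl))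
  fix_b := by
    rw [MulAction.Quotient.smul_coe, QuotientGroup.eq, smul_eq_mul, mul_one, mul_one]
    exact inv_mem (Subgroup.subset_closure (Or.inr rfl))
  relOne := J4Index.j4_relOne
  relTwo := J4Index.j4_relTwo

/-- The letters of x, y and t. -/
def jl : List Cfsg.Spor.J4 := [jg .x, jg .y, jg .t]

theorem eltL_jl {g : ℕ} (hg : g < 4) : eltL jl g = eltL [jg .x, jg .y] g := by
  interval_cases g <;> rfl

theorem eval_jl : ∀ {w : List ℕ}, (∀ g ∈ w, g < 4) →
    evalW (eltL jl) w = evalW (eltL [jg .x, jg .y]) w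
  | [], _ => rfl
  | g :: w, h => by
    rw [evalW_cons, evalW_cons, eval_jl fun a ha => h a (List.mem_cons_of_mem _ ha),
      eltL_jl (h g List.mem_cons_self)]

theorem rho_letter {g : ℕ} (hg : g < 6) :
    ((rho (eltL jl g)) : Matrix (Fin 112) (Fin 112) (ZMod 2)) = lm g := by
  have hof : ∀ i : J4.Gen, rho (jg i) = lu i := fun i => by
    simp [rho, jg, PresentedGroup.toGroup.of]
  interval_cases g <;> simp [eltL, jl, hof, lu, genLetter, Units.inv_mk]

theorem rho_word : ∀ {w : List ℕ}, (∀ g ∈ w, g < 6) →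
    ((rho (evalW (eltL jl) w)) : Matrix (Fin 112) (Fin 112) (ZMod 2)) = (w.map lm).prod
  | [], _ => by simp [evalW_nil]
  | g :: w, h => by
    rw [evalW_cons, map_mul, Units.val_mul, rho_word fun a ha => h a (List.mem_cons_of_mem _ ha),
      rho_letter (h g List.mem_cons_self), List.map_cons, List.prod_cons]

/-- The word of a list of steps. -/
def flatOps : List (Option (List ℕ)) → List ℕ
  | [] => []
  | none :: r => flatOps r ++ [4]
  | some g :: r => flatOps r ++ flat g

theorem prodOps_flat : ∀ {l : List (Option (List ℕ))},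
    (l.all fun o => (o.map okW).getD true) = true → hCtx.prodOps l = evalW (eltL jl) (flatOps l)
  | [], _ => rfl
  | none :: r, h => by
    rw [List.all_cons, Bool.and_eq_true] at h
    rw [Base.prodOps, flatOps, J4P.evalW_append, prodOps_flat h.2]
    congr 1
  | some g :: r, h => by
    rw [List.all_cons, Bool.and_eq_true] at h
    rw [Base.prodOps, flatOps, J4P.evalW_append, prodOps_flat h.2]
    congr 1
    rw [eval_jl (flat_lt (by simpa using h.1)), Base.W, wv_flat]
    rfl

theorem inj_rho : Function.Injective (rho.comp (toM (a := jg .x) (b := jg .y) xy_rels)) := by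
  have : IsSimpleGroup MG := by
    have := Golay.M24_simple
    have e : MG ≃* ↥Cfsg.M24 :=
      (MonoidHom.ofInjective J4Index.toPerm_range.2).trans (MulEquiv.subgroupCongr J4Index.toPerm_range.1)
    have : Nontrivial MG := e.toEquiv.nontrivial
    exact IsSimpleGroup.isSimpleGroup_of_surjective e.symm.toMonoidHom e.symm.surjective
  refine (MonoidHom.ker_eq_bot_iff _).1 ?_
  rcases (MonoidHom.normal_ker (rho.comp (toM (a := jg .x) (b := jg .y) xy_rels))).eq_bot_or_eq_top with h | h
  · exact h
  · exfalso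
    have h1 : J4Index.ga ∈ (rho.comp (toM (a := jg .x) (b := jg .y) xy_rels)).ker := h ▸ Subgroup.mem_top _
    rw [MonoidHom.mem_ker, MonoidHom.comp_apply] at h1
    have e : (toM (a := jg .x) (b := jg .y) xy_rels) J4Index.ga = jg .x := by
      simp [toM, J4Index.ga, PresentedGroup.toGroup.of]
    rw [e] at h1
    rw [J4G.rho_of] at h1
    exact J4G.gX_ne h1

/-- The check that a list of steps has the value of a word in the representation. -/
noncomputable def rhoOk (ops : List (Option (List ℕ))) (h : List ℕ) : Bool :=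
  (ops.all fun o => (o.map okW).getD true) && okW h &&
    ((flatOps ops ++ HNxyz.invW (flat h)).all fun g => Nat.blt g 6) &&
    (evalB 112 tabJ (flatOps ops ++ HNxyz.invW (flat h)) == idJ)

theorem eq_of_loop {ops : List (Option (List ℕ))} {h : List ℕ}
    (hl : hCtx.prodOps ops • hCtx.p0 = hCtx.p0) (hc : rhoOk ops h = true) :
    hCtx.prodOps ops = hCtx.W h := by
  simp only [rhoOk, Bool.and_eq_true] at hc
  obtain ⟨⟨⟨hops, hh⟩, hlt⟩, hev⟩ := hc
  have hmem : hCtx.prodOps ops ∈ hSub := by
    change hCtx.prodOps ops • ((1 : Cfsg.Spor.J4) : Cfsg.Spor.J4 ⧸ hSub) = ((1 : Cfsg.Spor.J4) : Cfsg.Spor.J4 ⧸ hSub) at hl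
    rw [MulAction.Quotient.smul_coe, QuotientGroup.eq, smul_eq_mul, mul_one, mul_one] at hl
    exact inv_mem_iff.1 hl
  have hrange : hSub ≤ (toM (a := jg .x) (b := jg .y) xy_rels).range := by
    rw [hSub, Subgroup.closure_le]
    rintro m (rfl | rfl)
    · exact ⟨J4Index.ga, by simp [toM, J4Index.ga, PresentedGroup.toGroup.of]⟩
    · exact ⟨J4Index.gb, by simp [toM, J4Index.gb, PresentedGroup.toGroup.of]⟩
  obtain ⟨m, hm⟩ := hrange hmem
  have hW : hCtx.W h = toM xy_rels (J4Index.mgW h) := by
    rw [J4Index.mgW, toM_eval, Base.W, wv_flat]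
    rfl
  have hr : rho (hCtx.prodOps ops) = rho (hCtx.W h) := by
    have hlt' : ∀ g ∈ flatOps ops ++ HNxyz.invW (flat h), g < 6 := fun g hg =>
      Nat.le_of_ble_eq_true (List.all_eq_true.1 hlt g hg)
    have e := rho_word hlt'
    rw [word_prod hlt' hev, J4P.evalW_append, J4P.evalW_invW, ← prodOps_flat hops,
      eval_jl (flat_lt hh)] at e
    have e2 : rho (hCtx.prodOps ops * (hCtx.W h)⁻¹) = 1 := by
      refine Units.ext ?_
      rw [Units.val_one, Base.W, wv_flat]
      exact e
    rwa [map_mul, map_inv, mul_inv_eq_one] at e2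
  rw [hW]
  rw [hW, ← hm] at hr
  rw [← hm]
  exact congrArg _ (inj_rho hr)

end CfsgLib.J4Kp
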