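import Cfsg.Agent.Lib.J4Index.Rules

/-!
# Rules for deriving equations between points when only x and y fix the point

A point is the image of one of a few vertices under an element of the group generated by x and y.
-/

set_option autoImplicit false
set_option maxRecDepth 100000

namespace CfsgLib.J4Kp

open Cfsg CfsgLib.J4P
open CfsgLib.J4Index (wv wv_flat same eq_of_same macW numMac firstComm macC macC_checks wWord relA relB relC relU relV)
open CfsgLib.J4Index.Ctx (isC)
open CfsgLib.HNxyz (evalW evalW_nil evalW_cons)

/-- Three elements satisfying the relations, and a point fixed by x and y. -/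
structure Base (G : Type) (X : Type) [Group G] [MulAction G X] where
  /-- x -/
  a : G
  /-- y -/
  b : G
  /-- t -/
  t : G
  /-- the point -/
  p0 : X
  rels : BaseRels a b
  t_sq : t * t = 1
  t_x : Commute t a
  t_w : Commute t (evalW (eltL [a, b]) wWord)
  fix_a : a • p0 = p0
  fix_b : b • p0 = p0
  relOne : (wv a b relA * t) ^ 3 = 1
  relTwo : (wv a b relB * t * wv a b relC * t) ^ 2 = 1

namespace Base

variable {G X : Type} [Group G] [MulAction G X] (C : Base G X)

/-- The element of a word. -/
def W (w : List ℕ) : G := wv C.a C.b w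

theorem W_append (u v : List ℕ) : C.W (u ++ v) = C.W u * C.W v := by
  simp [W, wv, evalW, List.map_append, List.prod_append]

theorem W_same {u v : List ℕ} (e : same u v = true) : C.W u = C.W v := eq_of_same C.rels e

theorem W_nil : C.W [] = 1 := rfl

theorem commute_letter {g : ℕ} (h1 : firstComm ≤ g) (h2 : g < numMac) :
    Commute C.t (evalW (eltL [C.a, C.b]) (macW.getD g [])) := by
  have h := List.all_eq_true.1 macC_checks (g - firstComm) (List.mem_range.2 (by omega))
  simp only [Bool.and_eq_true, List.all_eq_true, Nat.blt_eq, beq_iff_eq] at h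
  obtain ⟨hd, he⟩ := h
  rw [Nat.add_sub_cancel' h1] at he
  rw [he]
  clear he
  revert hd
  induction macC.getD (g - firstComm) [] with
  | nil => intro _; exact Commute.one_right _
  | cons k d ih =>
    intro hd
    rw [List.flatMap_cons, CfsgLib.J4P.evalW_append]
    refine Commute.mul_right ?_ (ih fun a ha => hd a (List.mem_cons_of_mem _ ha))
    have hk := hd k List.mem_cons_self
    interval_cases k
    · simpa [evalW, eltL] using C.t_x
    · exact C.t_w
    · show Commute C.t (evalW (eltL [C.a, C.b]) (CfsgLib.HNxyz.invW wWord))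
      rw [CfsgLib.J4P.evalW_invW]
      exact C.t_w.inv_right

theorem commute_of_isC : ∀ {c : List ℕ}, isC c = true → Commute C.t (C.W c)
  | [], _ => Commute.one_right _
  | g :: c, h => by
    simp only [isC, List.all_cons, Bool.and_eq_true, Nat.ble_eq, Nat.blt_eq] at h
    rw [show g :: c = [g] ++ c from rfl, C.W_append]
    refine Commute.mul_right ?_ (commute_of_isC (c := c) h.2)
    simpa [W, wv, evalW] using C.commute_letter h.1.1 h.1.2

/-- An equation between points. -/
def E (p : X) (u : List ℕ) (q : X) (v : List ℕ) : Prop := C.W u • p = C.W v • q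

/-- An element fixing a point. -/
def S (p : X) (w : List ℕ) : Prop := C.W w • p = p

/-- The image of a point under t. -/
def T (p : X) (u : List ℕ) (q : X) (v : List ℕ) : Prop := C.t • C.W u • p = C.W v • q

theorem stOne (p : X) : C.S p [] := by simp [S, W_nil]

theorem defn (p : X) (u : List ℕ) : C.T p u (C.t • C.W u • p) [] := by simp [T, W_nil]

theorem stMul {p : X} {u v : List ℕ} (hu : C.S p u) (hv : C.S p v) (w : List ℕ)
    (e : same w (u ++ v) = true) : C.S p w := by
  show C.W w • p = p
  rw [C.W_same e, C.W_append, mul_smul, hv, hu]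

theorem stInv {p : X} {u : List ℕ} (hu : C.S p u) (w : List ℕ)
    (e : same (w ++ u) [] = true) : C.S p w := by
  show C.W w • p = p
  conv_lhs => rw [← (hu : C.W u • p = p)]
  rw [← mul_smul, ← C.W_append, C.W_same e, W_nil, one_smul]

theorem stEq {p : X} {u v : List ℕ} (h : C.E p u p v) (w : List ℕ)
    (e : same (u ++ w) v = true) : C.S p w := by
  show C.W w • p = p
  have h' : C.W u • C.W w • p = C.W u • p := by
    rw [← mul_smul, ← C.W_append, C.W_same e]
    exact h.symm
  exact MulAction.injective (C.W u) h'

theorem flip {p q : X} {u v : List ℕ} (h : C.T p u q v) : C.T q v p u := by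
  show C.t • C.W v • q = C.W u • p
  rw [← (h : C.t • C.W u • p = C.W v • q), ← mul_smul, C.t_sq, one_smul]

theorem conv {p q : X} {a b lr lt : List ℕ} (h : C.T p a q b) (hr : C.S p lr) (ht : C.S p lt)
    (u c v : List ℕ) (hc : isC c = true) (e : same (u ++ lt) (c ++ a ++ lr) = true)
    (e' : same v (c ++ b) = true) : C.T p u q v := by
  show C.t • C.W u • p = C.W v • q
  have h1 : C.W u • p = C.W c • C.W a • p := by
    conv_lhs => rw [← (ht : C.W lt • p = p)]
    rw [← mul_smul, ← C.W_append, C.W_same e, C.W_append, C.W_append, mul_smul, mul_smul, hr]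
  rw [h1, ← mul_smul C.t, (C.commute_of_isC hc).eq, mul_smul, C.W_same e', C.W_append, mul_smul]
  exact congrArg _ h

theorem transfer {p q : X} {a b s : List ℕ} (h : C.T p a q b) (hs : C.S p s)
    (c w : List ℕ) (hc : isC c = true) (e : same (a ++ s) (c ++ a) = true)
    (e' : same (b ++ w) (c ++ b) = true) : C.S q w := by
  show C.W w • q = q
  refine MulAction.injective (C.W b) ?_
  show C.W b • C.W w • q = C.W b • q
  rw [← mul_smul, ← C.W_append, C.W_same e', C.W_append, mul_smul,
    ← (h : C.t • C.W a • p = C.W b • q)]
  conv_rhs => rw [← (hs : C.W s • p = p), ← mul_smul (C.W a), ← C.W_append, C.W_same e,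
    C.W_append, mul_smul, ← mul_smul C.t, (C.commute_of_isC hc).eq, mul_smul]

theorem sameSrc {p q q' : X} {u v v' : List ℕ} (h : C.T p u q v) (h' : C.T p u q' v') :
    C.E q v q' v' := by
  show C.W v • q = C.W v' • q'
  rw [← (h : C.t • C.W u • p = C.W v • q), ← (h' : C.t • C.W u • p = C.W v' • q')]

theorem esymm {p q : X} {u v : List ℕ} (h : C.E p u q v) : C.E q v p u := Eq.symm h

theorem norm {p q : X} {u v : List ℕ} (h : C.E p u q v) (m : List ℕ)
    (e : same (u ++ m) v = true) : C.E p [] q m := by
  show C.W [] • p = C.W m • q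
  refine MulAction.injective (C.W u) ?_
  show C.W u • C.W [] • p = C.W u • C.W m • q
  rw [W_nil, one_smul, ← mul_smul, ← C.W_append, C.W_same e]
  exact h

theorem substR {p q r : X} {u v m : List ℕ} (h : C.T p u q v) (he : C.E q [] r m) (v' : List ℕ)
    (e : same v' (v ++ m) = true) : C.T p u r v' := by
  have he' : q = C.W m • r := by simpa [E, W_nil] using he
  show C.t • C.W u • p = C.W v' • r
  rw [C.W_same e, C.W_append, mul_smul, ← he']
  exact h

theorem substL {p q r : X} {u v m : List ℕ} (h : C.T p u q v) (he : C.E p [] r m) (u' : List ℕ)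
    (e : same u' (u ++ m) = true) : C.T r u' q v := by
  have he' : p = C.W m • r := by simpa [E, W_nil] using he
  show C.t • C.W u' • r = C.W v • q
  rw [C.W_same e, C.W_append, mul_smul, ← he']
  exact h

theorem transport {p r : X} {s m : List ℕ} (hs : C.S p s) (he : C.E p [] r m) (w : List ℕ)
    (e : same (s ++ m) (m ++ w) = true) : C.S r w := by
  have he' : p = C.W m • r := by simpa [E, W_nil] using he
  show C.W w • r = r
  refine MulAction.injective (C.W m) ?_
  show C.W m • C.W w • r = C.W m • r
  rw [← mul_smul, ← C.W_append, ← C.W_same e, C.W_append, mul_smul, ← he']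
  exact hs

/-- The product of a list of steps, the first step acting first. -/
def prodOps : List (Option (List ℕ)) → G
  | [] => 1
  | none :: r => prodOps r * C.t
  | some g :: r => prodOps r * C.W g

theorem prodOps_append : ∀ A B : List (Option (List ℕ)),
    C.prodOps (A ++ B) = C.prodOps B * C.prodOps A
  | [], B => by simp [prodOps]
  | none :: r, B => by
    rw [List.cons_append, prodOps, prodOps_append r B, prodOps, mul_assoc]
  | some g :: r, B => by
    rw [List.cons_append, prodOps, prodOps_append r B, prodOps, mul_assoc]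

/-- A path of steps between points. -/
def Path (l : List (Option (List ℕ))) (p : X) (u : List ℕ) (q : X) (v : List ℕ) : Prop :=
  C.prodOps l • C.W u • p = C.W v • q

theorem pNil (p : X) (u : List ℕ) : C.Path [] p u p u := by simp [Path, prodOps]

theorem pT {p q r : X} {u v w : List ℕ} {l : List (Option (List ℕ))} (h : C.T p u q v)
    (hr : C.Path l q v r w) : C.Path (none :: l) p u r w := by
  show C.prodOps (none :: l) • C.W u • p = C.W w • r
  rw [prodOps, mul_smul, (h : C.t • C.W u • p = C.W v • q)]
  exact hr

theorem pH {p r : X} {u w : List ℕ} {l : List (Option (List ℕ))} (g v : List ℕ)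
    (e : same v (g ++ u) = true) (hr : C.Path l p v r w) : C.Path (some g :: l) p u r w := by
  show C.prodOps (some g :: l) • C.W u • p = C.W w • r
  rw [prodOps, mul_smul, ← mul_smul (C.W g), ← C.W_append, ← C.W_same e]
  exact hr

/-- The steps return the point. -/
def Loop (l : List (Option (List ℕ))) (p : X) (u : List ℕ) : Prop :=
  C.prodOps l • C.W u • p = C.W u • p

theorem loop_of_one {l : List (Option (List ℕ))} (h : C.prodOps l = 1) (p : X) (u : List ℕ) :
    C.Loop l p u := by
  show C.prodOps l • C.W u • p = C.W u • p
  rw [h, one_smul]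

theorem closeT {p f q : X} {pu fu qv : List ℕ} {A B : List (Option (List ℕ))}
    (hA : C.Path A p pu f fu) (hB : C.Path B q qv p pu)
    (hR : C.Loop (A ++ none :: B) p pu) : C.T f fu q qv := by
  show C.t • C.W fu • f = C.W qv • q
  have h : C.prodOps (A ++ none :: B) • C.W pu • p = C.W pu • p := hR
  rw [prodOps_append, prodOps, mul_smul, mul_smul, (hA : C.prodOps A • C.W pu • p = C.W fu • f)] at h
  refine MulAction.injective (C.prodOps B) ?_
  show C.prodOps B • C.t • C.W fu • f = C.prodOps B • C.W qv • q
  rw [h, (hB : C.prodOps B • C.W qv • q = C.W pu • p)]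

theorem closeE {p f : X} {pu fu : List ℕ} {A : List (Option (List ℕ))}
    (hA : C.Path A p pu f fu) (hR : C.Loop A p pu) : C.E f fu p pu :=
  (hA : C.prodOps A • C.W pu • p = C.W fu • f).symm.trans hR

end Base

end CfsgLib.J4Kp
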