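import Cfsg.Agent.Lib.J4Kp.Rho
import Cfsg.Agent.Lib.J4Kp.Abelian

/-!
# Conjugates of the third generator
-/

set_option autoImplicit false
set_option maxRecDepth 100000

namespace CfsgLib.J4Kp

open CfsgLib.J4Index (wv wv_flat same eq_of_same relU relV)

/-- The third generator. -/
def sEl : Cfsg.Spor.J4 := (hCtx.W relV * hCtx.t * hCtx.W relU) ^ 3

/-- A conjugate of the third generator. -/
def sig (w : List ℕ) : Cfsg.Spor.J4 := hCtx.W w * sEl * (hCtx.W w)⁻¹

theorem W_inv {m mi : List ℕ} (e : same (m ++ mi) [] = true) : hCtx.W mi = (hCtx.W m)⁻¹ := by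
  refine (inv_eq_of_mul_eq_one_right ?_).symm
  rw [← Base.W_append, hCtx.W_same e, Base.W_nil]

/-- The steps of the third generator. -/
def sOps (u v : List ℕ) : List (Option (List ℕ)) :=
  [some u, none, some v, some u, none, some v, some u, none, some v]

theorem prodOps_s {u v : List ℕ} (eu : same u relU = true) (ev : same v relV = true) :
    hCtx.prodOps (sOps u v) = sEl := by
  simp [sOps, Base.prodOps, sEl, hCtx.W_same eu, hCtx.W_same ev, pow_succ, mul_assoc]

theorem sig_shift (m w : List ℕ) : sig (m ++ w) = hCtx.W m * sig w * (hCtx.W m)⁻¹ := by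
  rw [sig, sig, Base.W_append, mul_inv_rev]
  group

theorem sig_sq (hsq : sEl * sEl = 1) (w : List ℕ) : sig w * sig w = 1 := by
  rw [sig]
  calc hCtx.W w * sEl * (hCtx.W w)⁻¹ * (hCtx.W w * sEl * (hCtx.W w)⁻¹)
      = hCtx.W w * (sEl * sEl) * (hCtx.W w)⁻¹ := by group
    _ = 1 := by rw [hsq, mul_one, mul_inv_cancel]

theorem commute_c {u v c ops : List ℕ} (h : hCtx.prodOps (sOps u v ++ some ops :: sOps u v) = hCtx.W c)
    (eu : same u relU = true) (ev : same v relV = true) (e : same ops c = true) (hsq : sEl * sEl = 1) :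
    Commute sEl (hCtx.W c) := by
  rw [Base.prodOps_append, Base.prodOps, prodOps_s eu ev, hCtx.W_same e] at h
  show sEl * hCtx.W c = hCtx.W c * sEl
  conv_rhs => rw [← h]
  rw [mul_assoc, hsq, mul_one]

theorem sig_line {u v a ai b bi : List ℕ}
    (h : hCtx.prodOps (sOps u v ++ some ai :: (sOps u v ++ some a :: some bi :: (sOps u v ++ [some b]))) =
      hCtx.W [])
    (eu : same u relU = true) (ev : same v relV = true) (ea : same (a ++ ai) [] = true)
    (eb : same (b ++ bi) [] = true) (hsq : sEl * sEl = 1) : sEl * sig a = sig b := by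
  simp only [Base.prodOps_append, Base.prodOps, prodOps_s eu ev, one_mul, W_inv ea, W_inv eb,
    Base.W_nil] at h
  have h' : sig b * sig a * sEl = 1 := by
    rw [← h, sig, sig]
    group
  have h2 : (sig b * sig a * sEl)⁻¹ = 1 := by rw [h', inv_one]
  rw [mul_inv_rev, mul_inv_rev, inv_eq_of_mul_eq_one_right hsq,
    inv_eq_of_mul_eq_one_right (sig_sq hsq a), inv_eq_of_mul_eq_one_right (sig_sq hsq b),
    ← mul_assoc, mul_eq_one_iff_eq_inv] at h2
  rw [h2, inv_eq_of_mul_eq_one_right (sig_sq hsq b)]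

theorem sig_line_shift {a b : List ℕ} (h : sEl * sig a = sig b) (m : List ℕ) :
    sig m * sig (m ++ a) = sig (m ++ b) := by
  rw [sig_shift m a, sig_shift m b, ← h, sig]
  group

/-- A word in the listed generators. -/
def catW (G : List (List ℕ)) (c : List ℕ) : List ℕ := c.flatMap fun i => G.getD i []

theorem sig_congr {G : List (List ℕ)} (hG : ∀ g ∈ G, Commute sEl (hCtx.W g)) {g g' : List ℕ}
    (c : List ℕ) (e : same g' (g ++ catW G c) = true) : sig g' = sig g := by
  have hc : Commute sEl (hCtx.W (catW G c)) := by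
    clear e
    induction c with
    | nil => exact Commute.one_right _
    | cons i c ih =>
      rw [catW, List.flatMap_cons, ← catW, Base.W_append]
      refine Commute.mul_right ?_ ih
      rcases Nat.lt_or_ge i G.length with h | h
      · rw [List.getD_eq_getElem _ _ h]; exact hG _ (List.getElem_mem h)
      · rw [List.getD_eq_default _ _ h]; exact Commute.one_right _
  rw [sig, sig, hCtx.W_same e, Base.W_append, mul_inv_rev]
  calc hCtx.W g * hCtx.W (catW G c) * sEl * ((hCtx.W (catW G c))⁻¹ * (hCtx.W g)⁻¹)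
      = hCtx.W g * (hCtx.W (catW G c) * sEl * (hCtx.W (catW G c))⁻¹) * (hCtx.W g)⁻¹ := by group
    _ = hCtx.W g * sEl * (hCtx.W g)⁻¹ := by rw [← hc.eq, mul_inv_cancel_right]

end CfsgLib.J4Kp
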