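import Cfsg.Agent.Lib.J4Kp.Sigma

/-!
# The conjugates of the third generator generate an abelian group with eleven generators (generated)
-/

set_option autoImplicit false
set_option maxRecDepth 100000
set_option linter.style.longLine false

namespace CfsgLib.J4Kp

open CfsgLib.J4Index (same relU relV)

theorem eu : same [20, 50] relU = true := (by decide +kernel)

theorem ev : same [11, 66] relV = true := (by decide +kernel)

theorem s_sq : sEl * sEl = 1 := by
  have h : hCtx.prodOps (sOps [20, 50] [11, 66] ++ sOps [20, 50] [11, 66]) = hCtx.W [] :=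
    eq_of_loop (goal0 hCtx) (by decide +kernel)
  rwa [Base.prodOps_append, prodOps_s eu ev, Base.W_nil] at h

theorem cgen0 : Commute sEl (hCtx.W [7, 38, 51, 70, 101, 110, 119]) :=
  commute_c (eq_of_loop (h := [7, 38, 51, 70, 101, 110, 119]) (goal1 hCtx) (by decide +kernel)) eu ev (by decide +kernel) s_sq

theorem cinv0 : Commute sEl (hCtx.W [22, 46, 56, 70, 93, 110, 117]) := by
  rw [W_inv (m := [7, 38, 51, 70, 101, 110, 119]) (by decide +kernel)]
  exact cgen0.inv_right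

theorem cgen1 : Commute sEl (hCtx.W [6, 32, 68, 80, 94, 109, 116]) :=
  commute_c (eq_of_loop (h := [6, 32, 68, 80, 94, 109, 116]) (goal2 hCtx) (by decide +kernel)) eu ev (by decide +kernel) s_sq

theorem cinv1 : Commute sEl (hCtx.W [26, 30, 56, 79, 95, 110, 121]) := by
  rw [W_inv (m := [6, 32, 68, 80, 94, 109, 116]) (by decide +kernel)]
  exact cgen1.inv_right

theorem tline0 : sEl * sig [10] = sig [21, 35, 65] :=
  sig_line (eq_of_loop (h := []) (goal3 hCtx) (by decide +kernel)) eu ev (by decide +kernel) (by decide +kernel) s_sq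

theorem tline1 : sEl * sig [24, 65] = sig [20, 37, 66, 89, 99, 110, 112] :=
  sig_line (eq_of_loop (h := []) (goal4 hCtx) (by decide +kernel)) eu ev (by decide +kernel) (by decide +kernel) s_sq

/-- Elements commuting with the third generator. -/
def cList : List (List ℕ) := [[7, 38, 51, 70, 101, 110, 119], [6, 32, 68, 80, 94, 109, 116], [22, 46, 56, 70, 93, 110, 117], [26, 30, 56, 79, 95, 110, 121]]

theorem cList_comm : ∀ g ∈ cList, Commute sEl (hCtx.W g) := by
  simp only [cList, List.forall_mem_cons, List.not_mem_nil, IsEmpty.forall_iff, implies_true, and_true]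
  exact ⟨cgen0, cgen1, cinv0, cinv1⟩

theorem line0 : sig [] * sig [10] = sig [21, 35, 65] := by
  have h := sig_line_shift tline0 []
  rwa [(sig_congr cList_comm (g := []) (g' := []) [] (by decide +kernel)), (sig_congr cList_comm (g := [10]) (g' := ([] ++ [10])) [] (by decide +kernel)),
    (sig_congr cList_comm (g := [21, 35, 65]) (g' := ([] ++ [21, 35, 65])) [] (by decide +kernel))] at h

theorem rel0 : sig [10] * sig [] = sig [21, 35, 65] ∧ sig [] * sig [21, 35, 65] = sig [10] ∧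
    sig [21, 35, 65] * sig [] = sig [10] ∧ sig [10] * sig [21, 35, 65] = sig [] ∧ sig [21, 35, 65] * sig [10] = sig [] :=
  triple (sig_sq s_sq _) (sig_sq s_sq _) (sig_sq s_sq _) line0

theorem comm0_1 : Commute (sig []) (sig [10]) :=
  (line0).trans (rel0.1).symm

theorem line1 : sig [] * sig [17] = sig [14, 35, 65] := by
  have h := sig_line_shift tline0 [7]
  rwa [(sig_congr cList_comm (g := []) (g' := [7]) [0, 3, 3, 2, 3, 3, 0, 3, 3, 0, 1, 2, 3] (by decide +kernel)), (sig_congr cList_comm (g := [17]) (g' := ([7] ++ [10])) [] (by decide +kernel)),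
    (sig_congr cList_comm (g := [14, 35, 65]) (g' := ([7] ++ [21, 35, 65])) [] (by decide +kernel))] at h

theorem rel1 : sig [17] * sig [] = sig [14, 35, 65] ∧ sig [] * sig [14, 35, 65] = sig [17] ∧
    sig [14, 35, 65] * sig [] = sig [17] ∧ sig [17] * sig [14, 35, 65] = sig [] ∧ sig [14, 35, 65] * sig [17] = sig [] :=
  triple (sig_sq s_sq _) (sig_sq s_sq _) (sig_sq s_sq _) line1

theorem comm0_2 : Commute (sig []) (sig [17]) :=
  (line1).trans (rel1.1).symm

theorem line2 : sig [] * sig [6] = sig [18, 35, 65] := by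
  have h := sig_line_shift tline0 [25]
  rwa [(sig_congr cList_comm (g := []) (g' := [25]) [1, 0, 3, 2, 1, 1, 2, 1, 1, 0, 1, 1, 2] (by decide +kernel)), (sig_congr cList_comm (g := [6]) (g' := ([25] ++ [10])) [] (by decide +kernel)),
    (sig_congr cList_comm (g := [18, 35, 65]) (g' := ([25] ++ [21, 35, 65])) [] (by decide +kernel))] at h

theorem rel2 : sig [6] * sig [] = sig [18, 35, 65] ∧ sig [] * sig [18, 35, 65] = sig [6] ∧
    sig [18, 35, 65] * sig [] = sig [6] ∧ sig [6] * sig [18, 35, 65] = sig [] ∧ sig [18, 35, 65] * sig [6] = sig [] :=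
  triple (sig_sq s_sq _) (sig_sq s_sq _) (sig_sq s_sq _) line2

theorem comm0_3 : Commute (sig []) (sig [6]) :=
  (line2).trans (rel2.1).symm

theorem line3 : sig [] * sig [21, 44, 65] = sig [50] := by
  have h := sig_line_shift tline0 [10, 42, 52, 82, 101, 109, 120]
  rwa [(sig_congr cList_comm (g := []) (g' := [10, 42, 52, 82, 101, 109, 120]) [2, 3, 2, 1, 1, 1, 2, 1, 2, 3, 3, 0, 1] (by decide +kernel)), (sig_congr cList_comm (g := [21, 44, 65]) (g' := ([10, 42, 52, 82, 101, 109, 120] ++ [10])) [0, 3, 2, 3, 3, 3, 3, 2, 1, 1, 2] (by decide +kernel)),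
    (sig_congr cList_comm (g := [50]) (g' := ([10, 42, 52, 82, 101, 109, 120] ++ [21, 35, 65])) [0, 1, 2, 1, 1, 0, 1, 1, 2, 1, 2, 3, 0] (by decide +kernel))] at h

theorem rel3 : sig [21, 44, 65] * sig [] = sig [50] ∧ sig [] * sig [50] = sig [21, 44, 65] ∧
    sig [50] * sig [] = sig [21, 44, 65] ∧ sig [21, 44, 65] * sig [50] = sig [] ∧ sig [50] * sig [21, 44, 65] = sig [] :=
  triple (sig_sq s_sq _) (sig_sq s_sq _) (sig_sq s_sq _) line3

theorem comm0_4 : Commute (sig []) (sig [50]) :=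
  (rel3.2.1).trans (rel3.2.2.1).symm

theorem line4 : sig [12, 54] * sig [35] = sig [] := by
  have h := sig_line_shift tline0 [6, 34, 63, 83, 97, 110, 118]
  rwa [(sig_congr cList_comm (g := [12, 54]) (g' := [6, 34, 63, 83, 97, 110, 118]) [3, 0, 1, 1, 2, 1, 1, 1, 2, 1, 0, 1, 0] (by decide +kernel)), (sig_congr cList_comm (g := [35]) (g' := ([6, 34, 63, 83, 97, 110, 118] ++ [10])) [3, 3, 2, 3, 3, 2, 1] (by decide +kernel)),
    (sig_congr cList_comm (g := []) (g' := ([6, 34, 63, 83, 97, 110, 118] ++ [21, 35, 65])) [2, 3, 0, 3, 2, 3, 3, 3, 3, 0, 1, 1] (by decide +kernel))] at h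

theorem rel4 : sig [35] * sig [12, 54] = sig [] ∧ sig [12, 54] * sig [] = sig [35] ∧
    sig [] * sig [12, 54] = sig [35] ∧ sig [35] * sig [] = sig [12, 54] ∧ sig [] * sig [35] = sig [12, 54] :=
  triple (sig_sq s_sq _) (sig_sq s_sq _) (sig_sq s_sq _) line4

theorem comm0_5 : Commute (sig []) (sig [35]) :=
  (rel4.2.2.2.2).trans (rel4.2.2.2.1).symm

theorem line5 : sig [67] * sig [] = sig [20, 44, 65] := by
  have h := sig_line_shift tline0 [14, 35, 60, 78, 91, 110, 115]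
  rwa [(sig_congr cList_comm (g := [67]) (g' := [14, 35, 60, 78, 91, 110, 115]) [0, 3, 2, 3, 3, 3, 3, 2, 1, 1, 0, 3] (by decide +kernel)), (sig_congr cList_comm (g := []) (g' := ([14, 35, 60, 78, 91, 110, 115] ++ [10])) [0, 3, 3, 3, 0, 1, 0, 1, 2, 1, 1] (by decide +kernel)),
    (sig_congr cList_comm (g := [20, 44, 65]) (g' := ([14, 35, 60, 78, 91, 110, 115] ++ [21, 35, 65])) [3, 0, 3, 2, 3, 2, 3, 3, 2, 3, 0, 3, 0] (by decide +kernel))] at h

theorem rel5 : sig [] * sig [67] = sig [20, 44, 65] ∧ sig [67] * sig [20, 44, 65] = sig [] ∧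
    sig [20, 44, 65] * sig [67] = sig [] ∧ sig [] * sig [20, 44, 65] = sig [67] ∧ sig [20, 44, 65] * sig [] = sig [67] :=
  triple (sig_sq s_sq _) (sig_sq s_sq _) (sig_sq s_sq _) line5

theorem comm0_6 : Commute (sig []) (sig [67]) :=
  (rel5.1).trans (line5).symm

theorem line6 : sig [] * sig [14, 44, 65] = sig [7, 50] := by
  have h := sig_line_shift tline0 [17, 42, 52, 82, 101, 109, 120]
  rwa [(sig_congr cList_comm (g := []) (g' := [17, 42, 52, 82, 101, 109, 120]) [3, 2, 1, 0, 1, 1, 2, 3, 2, 3, 2, 1, 1] (by decide +kernel)), (sig_congr cList_comm (g := [14, 44, 65]) (g' := ([17, 42, 52, 82, 101, 109, 120] ++ [10])) [0, 3, 2, 3, 3, 3, 3, 2, 1, 1, 2] (by decide +kernel)),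
    (sig_congr cList_comm (g := [7, 50]) (g' := ([17, 42, 52, 82, 101, 109, 120] ++ [21, 35, 65])) [0, 1, 2, 1, 1, 0, 1, 1, 2, 1, 2, 3, 0] (by decide +kernel))] at h

theorem rel6 : sig [14, 44, 65] * sig [] = sig [7, 50] ∧ sig [] * sig [7, 50] = sig [14, 44, 65] ∧
    sig [7, 50] * sig [] = sig [14, 44, 65] ∧ sig [14, 44, 65] * sig [7, 50] = sig [] ∧ sig [7, 50] * sig [14, 44, 65] = sig [] :=
  triple (sig_sq s_sq _) (sig_sq s_sq _) (sig_sq s_sq _) line6

theorem comm0_7 : Commute (sig []) (sig [7, 50]) :=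
  (rel6.2.1).trans (rel6.2.2.1).symm

theorem line7 : sig [10, 35] * sig [] = sig [25, 47, 73, 96, 114] := by
  have h := sig_line_shift tline0 [4, 47, 68, 79, 90, 113]
  rwa [(sig_congr cList_comm (g := [10, 35]) (g' := [4, 47, 68, 79, 90, 113]) [0, 1, 2, 1, 2, 3, 3, 0] (by decide +kernel)), (sig_congr cList_comm (g := []) (g' := ([4, 47, 68, 79, 90, 113] ++ [10])) [3, 3, 2, 1, 2, 1, 2, 3, 2, 3, 2, 3] (by decide +kernel)),
    (sig_congr cList_comm (g := [25, 47, 73, 96, 114]) (g' := ([4, 47, 68, 79, 90, 113] ++ [21, 35, 65])) [0, 1, 2, 3, 3, 3, 2, 3, 3, 0, 1, 1] (by decide +kernel))] at h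

theorem rel7 : sig [] * sig [10, 35] = sig [25, 47, 73, 96, 114] ∧ sig [10, 35] * sig [25, 47, 73, 96, 114] = sig [] ∧
    sig [25, 47, 73, 96, 114] * sig [10, 35] = sig [] ∧ sig [] * sig [25, 47, 73, 96, 114] = sig [10, 35] ∧ sig [25, 47, 73, 96, 114] * sig [] = sig [10, 35] :=
  triple (sig_sq s_sq _) (sig_sq s_sq _) (sig_sq s_sq _) line7

theorem comm0_8 : Commute (sig []) (sig [10, 35]) :=
  (rel7.1).trans (line7).symm

theorem line8 : sig [17, 35] * sig [] = sig [47, 73, 96, 114] := by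
  have h := sig_line_shift tline0 [5, 47, 68, 79, 90, 113]
  rwa [(sig_congr cList_comm (g := [17, 35]) (g' := [5, 47, 68, 79, 90, 113]) [0, 1, 2, 1, 2, 3, 3, 0] (by decide +kernel)), (sig_congr cList_comm (g := []) (g' := ([5, 47, 68, 79, 90, 113] ++ [10])) [0, 1, 2, 3, 2, 3, 2, 1, 2, 3, 0] (by decide +kernel)),
    (sig_congr cList_comm (g := [47, 73, 96, 114]) (g' := ([5, 47, 68, 79, 90, 113] ++ [21, 35, 65])) [0, 1, 2, 3, 3, 3, 2, 3, 3, 0, 1, 1] (by decide +kernel))] at h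

theorem rel8 : sig [] * sig [17, 35] = sig [47, 73, 96, 114] ∧ sig [17, 35] * sig [47, 73, 96, 114] = sig [] ∧
    sig [47, 73, 96, 114] * sig [17, 35] = sig [] ∧ sig [] * sig [47, 73, 96, 114] = sig [17, 35] ∧ sig [47, 73, 96, 114] * sig [] = sig [17, 35] :=
  triple (sig_sq s_sq _) (sig_sq s_sq _) (sig_sq s_sq _) line8

theorem comm0_9 : Commute (sig []) (sig [17, 35]) :=
  (rel8.1).trans (line8).symm

theorem line9 : sig [] * sig [22, 34] = sig [20, 37, 60, 79, 95, 118] := by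
  have h := sig_line_shift tline0 [9, 36, 49, 74, 90, 109, 113]
  rwa [(sig_congr cList_comm (g := []) (g' := [9, 36, 49, 74, 90, 109, 113]) [1, 0, 1, 0, 1, 0, 3, 0, 3, 0, 1, 1] (by decide +kernel)), (sig_congr cList_comm (g := [22, 34]) (g' := ([9, 36, 49, 74, 90, 109, 113] ++ [10])) [2, 3, 2, 3, 3, 0, 3, 0, 3, 0, 3] (by decide +kernel)),
    (sig_congr cList_comm (g := [20, 37, 60, 79, 95, 118]) (g' := ([9, 36, 49, 74, 90, 109, 113] ++ [21, 35, 65])) [1, 0, 3, 0, 3, 0, 3, 2, 3, 0, 3, 3] (by decide +kernel))] at h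

theorem rel9 : sig [22, 34] * sig [] = sig [20, 37, 60, 79, 95, 118] ∧ sig [] * sig [20, 37, 60, 79, 95, 118] = sig [22, 34] ∧
    sig [20, 37, 60, 79, 95, 118] * sig [] = sig [22, 34] ∧ sig [22, 34] * sig [20, 37, 60, 79, 95, 118] = sig [] ∧ sig [20, 37, 60, 79, 95, 118] * sig [22, 34] = sig [] :=
  triple (sig_sq s_sq _) (sig_sq s_sq _) (sig_sq s_sq _) line9

theorem comm0_10 : Commute (sig []) (sig [22, 34]) :=
  (line9).trans (rel9.1).symm

theorem line10 : sig [23, 40, 55, 73, 102, 115] * sig [10] = sig [17] := by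
  have h := sig_line_shift tline0 [15, 32, 57, 80, 107, 119]
  rwa [(sig_congr cList_comm (g := [23, 40, 55, 73, 102, 115]) (g' := [15, 32, 57, 80, 107, 119]) [1, 0, 3, 0, 1, 2, 1, 2, 1, 1, 0] (by decide +kernel)), (sig_congr cList_comm (g := [10]) (g' := ([15, 32, 57, 80, 107, 119] ++ [10])) [3, 3, 3, 0, 1, 1, 0, 1, 0, 3, 3] (by decide +kernel)),
    (sig_congr cList_comm (g := [17]) (g' := ([15, 32, 57, 80, 107, 119] ++ [21, 35, 65])) [3, 2, 3, 2, 1, 2, 3, 3, 3, 2] (by decide +kernel))] at h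

theorem rel10 : sig [10] * sig [23, 40, 55, 73, 102, 115] = sig [17] ∧ sig [23, 40, 55, 73, 102, 115] * sig [17] = sig [10] ∧
    sig [17] * sig [23, 40, 55, 73, 102, 115] = sig [10] ∧ sig [10] * sig [17] = sig [23, 40, 55, 73, 102, 115] ∧ sig [17] * sig [10] = sig [23, 40, 55, 73, 102, 115] :=
  triple (sig_sq s_sq _) (sig_sq s_sq _) (sig_sq s_sq _) line10

theorem comm1_2 : Commute (sig [10]) (sig [17]) :=
  (rel10.2.2.2.1).trans (rel10.2.2.2.2).symm

theorem line11 : sig [7, 36, 67] * sig [6] = sig [10] := by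
  have h := sig_line_shift tline0 [13, 32, 57, 80, 107, 119]
  rwa [(sig_congr cList_comm (g := [7, 36, 67]) (g' := [13, 32, 57, 80, 107, 119]) [3, 2, 3, 2, 1, 2, 1, 1, 0, 1, 1] (by decide +kernel)), (sig_congr cList_comm (g := [6]) (g' := ([13, 32, 57, 80, 107, 119] ++ [10])) [3, 3, 3, 0, 1, 1, 0, 1, 0, 3, 3] (by decide +kernel)),
    (sig_congr cList_comm (g := [10]) (g' := ([13, 32, 57, 80, 107, 119] ++ [21, 35, 65])) [3, 2, 3, 2, 1, 2, 3, 3, 3, 2] (by decide +kernel))] at h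

theorem rel11 : sig [6] * sig [7, 36, 67] = sig [10] ∧ sig [7, 36, 67] * sig [10] = sig [6] ∧
    sig [10] * sig [7, 36, 67] = sig [6] ∧ sig [6] * sig [10] = sig [7, 36, 67] ∧ sig [10] * sig [6] = sig [7, 36, 67] :=
  triple (sig_sq s_sq _) (sig_sq s_sq _) (sig_sq s_sq _) line11

theorem comm1_3 : Commute (sig [10]) (sig [6]) :=
  (rel11.2.2.2.2).trans (rel11.2.2.2.1).symm

theorem line12 : sig [10] * sig [50] = sig [13, 47, 50] := by
  have h := sig_line_shift tline0 [16, 28, 58, 72, 104, 109, 124]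
  rwa [(sig_congr cList_comm (g := [10]) (g' := [16, 28, 58, 72, 104, 109, 124]) [1, 2, 3, 2, 3, 3, 3, 2, 1] (by decide +kernel)), (sig_congr cList_comm (g := [50]) (g' := ([16, 28, 58, 72, 104, 109, 124] ++ [10])) [1, 1, 1, 1, 1, 1, 2, 1, 1, 2, 3] (by decide +kernel)),
    (sig_congr cList_comm (g := [13, 47, 50]) (g' := ([16, 28, 58, 72, 104, 109, 124] ++ [21, 35, 65])) [3, 2, 1, 2, 1, 1, 2, 1, 2, 3, 3, 3, 0] (by decide +kernel))] at h

theorem rel12 : sig [50] * sig [10] = sig [13, 47, 50] ∧ sig [10] * sig [13, 47, 50] = sig [50] ∧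
    sig [13, 47, 50] * sig [10] = sig [50] ∧ sig [50] * sig [13, 47, 50] = sig [10] ∧ sig [13, 47, 50] * sig [50] = sig [10] :=
  triple (sig_sq s_sq _) (sig_sq s_sq _) (sig_sq s_sq _) line12

theorem comm1_4 : Commute (sig [10]) (sig [50]) :=
  (line12).trans (rel12.1).symm

theorem line13 : sig [35] * sig [10] = sig [13, 35, 49, 83, 96, 110, 118] := by
  have h := sig_line_shift tline0 [22, 47, 68, 79, 90, 113]
  rwa [(sig_congr cList_comm (g := [35]) (g' := [22, 47, 68, 79, 90, 113]) [0, 1, 2, 1, 2, 3, 3, 0] (by decide +kernel)), (sig_congr cList_comm (g := [10]) (g' := ([22, 47, 68, 79, 90, 113] ++ [10])) [3, 3, 2, 1, 2, 1, 2, 3, 2, 3, 2, 3] (by decide +kernel)),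
    (sig_congr cList_comm (g := [13, 35, 49, 83, 96, 110, 118]) (g' := ([22, 47, 68, 79, 90, 113] ++ [21, 35, 65])) [1, 1, 0, 1, 1, 1, 0, 3, 0, 3, 0, 1] (by decide +kernel))] at h

theorem rel13 : sig [10] * sig [35] = sig [13, 35, 49, 83, 96, 110, 118] ∧ sig [35] * sig [13, 35, 49, 83, 96, 110, 118] = sig [10] ∧
    sig [13, 35, 49, 83, 96, 110, 118] * sig [35] = sig [10] ∧ sig [10] * sig [13, 35, 49, 83, 96, 110, 118] = sig [35] ∧ sig [13, 35, 49, 83, 96, 110, 118] * sig [10] = sig [35] :=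
  triple (sig_sq s_sq _) (sig_sq s_sq _) (sig_sq s_sq _) line13

theorem comm1_5 : Commute (sig [10]) (sig [35]) :=
  (rel13.1).trans (line13).symm

theorem line14 : sig [10, 38, 51, 77, 106, 109, 122] * sig [10] = sig [67] := by
  have h := sig_line_shift tline0 [21, 27, 61, 79, 93, 110, 116]
  rwa [(sig_congr cList_comm (g := [10, 38, 51, 77, 106, 109, 122]) (g' := [21, 27, 61, 79, 93, 110, 116]) [1, 0, 3, 2, 1, 1, 2, 1, 1, 0, 1, 1, 2] (by decide +kernel)), (sig_congr cList_comm (g := [10]) (g' := ([21, 27, 61, 79, 93, 110, 116] ++ [10])) [3, 2, 3, 3, 0, 3, 3, 0, 1, 1, 1, 0] (by decide +kernel)),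
    (sig_congr cList_comm (g := [67]) (g' := ([21, 27, 61, 79, 93, 110, 116] ++ [21, 35, 65])) [2, 3, 0, 3, 2, 3, 0, 1, 0, 1, 2] (by decide +kernel))] at h

theorem rel14 : sig [10] * sig [10, 38, 51, 77, 106, 109, 122] = sig [67] ∧ sig [10, 38, 51, 77, 106, 109, 122] * sig [67] = sig [10] ∧
    sig [67] * sig [10, 38, 51, 77, 106, 109, 122] = sig [10] ∧ sig [10] * sig [67] = sig [10, 38, 51, 77, 106, 109, 122] ∧ sig [67] * sig [10] = sig [10, 38, 51, 77, 106, 109, 122] :=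
  triple (sig_sq s_sq _) (sig_sq s_sq _) (sig_sq s_sq _) line14

theorem comm1_6 : Commute (sig [10]) (sig [67]) :=
  (rel14.2.2.2.1).trans (rel14.2.2.2.2).symm

theorem line15 : sig [7, 50] * sig [10] = sig [21, 34, 50, 98] := by
  have h := sig_line_shift tline0 [22, 42, 55, 76, 97]
  rwa [(sig_congr cList_comm (g := [7, 50]) (g' := [22, 42, 55, 76, 97]) [0, 3, 2, 3, 0, 3, 3, 2, 1, 0, 1] (by decide +kernel)), (sig_congr cList_comm (g := [10]) (g' := ([22, 42, 55, 76, 97] ++ [10])) [1, 2, 1, 1, 0, 1, 2, 3, 0, 1, 0, 3, 3] (by decide +kernel)),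
    (sig_congr cList_comm (g := [21, 34, 50, 98]) (g' := ([22, 42, 55, 76, 97] ++ [21, 35, 65])) [3, 0, 3, 3, 3, 2, 1, 0, 1, 0, 1, 0, 3] (by decide +kernel))] at h

theorem rel15 : sig [10] * sig [7, 50] = sig [21, 34, 50, 98] ∧ sig [7, 50] * sig [21, 34, 50, 98] = sig [10] ∧
    sig [21, 34, 50, 98] * sig [7, 50] = sig [10] ∧ sig [10] * sig [21, 34, 50, 98] = sig [7, 50] ∧ sig [21, 34, 50, 98] * sig [10] = sig [7, 50] :=
  triple (sig_sq s_sq _) (sig_sq s_sq _) (sig_sq s_sq _) line15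

theorem comm1_7 : Commute (sig [10]) (sig [7, 50]) :=
  (rel15.1).trans (line15).symm

theorem line16 : sig [6, 54] * sig [10, 35] = sig [10] := by
  have h := sig_line_shift tline0 [12, 34, 63, 83, 97, 110, 118]
  rwa [(sig_congr cList_comm (g := [6, 54]) (g' := [12, 34, 63, 83, 97, 110, 118]) [3, 0, 1, 1, 2, 1, 1, 1, 2, 1, 0, 1, 0] (by decide +kernel)), (sig_congr cList_comm (g := [10, 35]) (g' := ([12, 34, 63, 83, 97, 110, 118] ++ [10])) [3, 3, 2, 3, 3, 2, 1] (by decide +kernel)),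
    (sig_congr cList_comm (g := [10]) (g' := ([12, 34, 63, 83, 97, 110, 118] ++ [21, 35, 65])) [2, 3, 0, 3, 2, 3, 3, 3, 3, 0, 1, 1] (by decide +kernel))] at h

theorem rel16 : sig [10, 35] * sig [6, 54] = sig [10] ∧ sig [6, 54] * sig [10] = sig [10, 35] ∧
    sig [10] * sig [6, 54] = sig [10, 35] ∧ sig [10, 35] * sig [10] = sig [6, 54] ∧ sig [10] * sig [10, 35] = sig [6, 54] :=
  triple (sig_sq s_sq _) (sig_sq s_sq _) (sig_sq s_sq _) line16

theorem comm1_8 : Commute (sig [10]) (sig [10, 35]) :=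
  (rel16.2.2.2.2).trans (rel16.2.2.2.1).symm

theorem line17 : sig [10] * sig [17, 35] = sig [18, 37] := by
  have h := sig_line_shift tline0 [8, 34, 66, 77, 107, 113]
  rwa [(sig_congr cList_comm (g := [10]) (g' := [8, 34, 66, 77, 107, 113]) [3, 0, 1, 2, 3, 3, 3, 0, 1, 0, 3] (by decide +kernel)), (sig_congr cList_comm (g := [17, 35]) (g' := ([8, 34, 66, 77, 107, 113] ++ [10])) [3, 3, 0, 3, 3, 2, 1, 1, 0, 1, 2, 1, 0, 1] (by decide +kernel)),
    (sig_congr cList_comm (g := [18, 37]) (g' := ([8, 34, 66, 77, 107, 113] ++ [21, 35, 65])) [3, 3, 3, 3, 2, 1, 0, 1, 0, 3, 3, 3, 0] (by decide +kernel))] at h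

theorem rel17 : sig [17, 35] * sig [10] = sig [18, 37] ∧ sig [10] * sig [18, 37] = sig [17, 35] ∧
    sig [18, 37] * sig [10] = sig [17, 35] ∧ sig [17, 35] * sig [18, 37] = sig [10] ∧ sig [18, 37] * sig [17, 35] = sig [10] :=
  triple (sig_sq s_sq _) (sig_sq s_sq _) (sig_sq s_sq _) line17

theorem comm1_9 : Commute (sig [10]) (sig [17, 35]) :=
  (line17).trans (rel17.1).symm

theorem line18 : sig [10] * sig [15, 31, 50] = sig [22, 34] := by
  have h := sig_line_shift tline0 [21, 41, 51, 88, 97, 116]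
  rwa [(sig_congr cList_comm (g := [10]) (g' := [21, 41, 51, 88, 97, 116]) [0, 3, 3, 0, 1, 1, 0, 1, 2, 3, 3, 3] (by decide +kernel)), (sig_congr cList_comm (g := [15, 31, 50]) (g' := ([21, 41, 51, 88, 97, 116] ++ [10])) [3, 0, 3, 3, 3, 2, 1, 2, 3, 2, 1] (by decide +kernel)),
    (sig_congr cList_comm (g := [22, 34]) (g' := ([21, 41, 51, 88, 97, 116] ++ [21, 35, 65])) [3, 0, 3, 2, 1, 2, 1, 0] (by decide +kernel))] at h

theorem rel18 : sig [15, 31, 50] * sig [10] = sig [22, 34] ∧ sig [10] * sig [22, 34] = sig [15, 31, 50] ∧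
    sig [22, 34] * sig [10] = sig [15, 31, 50] ∧ sig [15, 31, 50] * sig [22, 34] = sig [10] ∧ sig [22, 34] * sig [15, 31, 50] = sig [10] :=
  triple (sig_sq s_sq _) (sig_sq s_sq _) (sig_sq s_sq _) line18

theorem comm1_10 : Commute (sig [10]) (sig [22, 34]) :=
  (rel18.2.1).trans (rel18.2.2.1).symm

theorem line19 : sig [19, 28, 52, 76, 91, 110, 113] * sig [17] = sig [6] := by
  have h := sig_line_shift tline0 [23, 32, 57, 80, 107, 119]
  rwa [(sig_congr cList_comm (g := [19, 28, 52, 76, 91, 110, 113]) (g' := [23, 32, 57, 80, 107, 119]) [1, 1, 2, 3, 3, 3, 0, 1, 1, 0, 3] (by decide +kernel)), (sig_congr cList_comm (g := [17]) (g' := ([23, 32, 57, 80, 107, 119] ++ [10])) [3, 3, 3, 0, 1, 1, 0, 1, 0, 3, 3] (by decide +kernel)),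
    (sig_congr cList_comm (g := [6]) (g' := ([23, 32, 57, 80, 107, 119] ++ [21, 35, 65])) [3, 2, 3, 2, 1, 2, 3, 3, 3, 2] (by decide +kernel))] at h

theorem rel19 : sig [17] * sig [19, 28, 52, 76, 91, 110, 113] = sig [6] ∧ sig [19, 28, 52, 76, 91, 110, 113] * sig [6] = sig [17] ∧
    sig [6] * sig [19, 28, 52, 76, 91, 110, 113] = sig [17] ∧ sig [17] * sig [6] = sig [19, 28, 52, 76, 91, 110, 113] ∧ sig [6] * sig [17] = sig [19, 28, 52, 76, 91, 110, 113] :=
  triple (sig_sq s_sq _) (sig_sq s_sq _) (sig_sq s_sq _) line19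

theorem comm2_3 : Commute (sig [17]) (sig [6]) :=
  (rel19.2.2.2.1).trans (rel19.2.2.2.2).symm

theorem line20 : sig [50] * sig [16, 38, 51, 77, 106, 109, 122] = sig [17] := by
  have h := sig_line_shift tline0 [9, 28, 67, 81, 98, 110, 113]
  rwa [(sig_congr cList_comm (g := [50]) (g' := [9, 28, 67, 81, 98, 110, 113]) [0, 1, 2, 1, 2, 3, 2, 1, 2, 3, 0, 1, 0] (by decide +kernel)), (sig_congr cList_comm (g := [16, 38, 51, 77, 106, 109, 122]) (g' := ([9, 28, 67, 81, 98, 110, 113] ++ [10])) [3, 3, 3, 0, 1, 1, 2, 3, 0, 1, 0] (by decide +kernel)),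
    (sig_congr cList_comm (g := [17]) (g' := ([9, 28, 67, 81, 98, 110, 113] ++ [21, 35, 65])) [1, 0, 3, 3, 0, 3, 0, 3, 0, 1, 1, 2] (by decide +kernel))] at h

theorem rel20 : sig [16, 38, 51, 77, 106, 109, 122] * sig [50] = sig [17] ∧ sig [50] * sig [17] = sig [16, 38, 51, 77, 106, 109, 122] ∧
    sig [17] * sig [50] = sig [16, 38, 51, 77, 106, 109, 122] ∧ sig [16, 38, 51, 77, 106, 109, 122] * sig [17] = sig [50] ∧ sig [17] * sig [16, 38, 51, 77, 106, 109, 122] = sig [50] :=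
  triple (sig_sq s_sq _) (sig_sq s_sq _) (sig_sq s_sq _) line20

theorem comm2_4 : Commute (sig [17]) (sig [50]) :=
  (rel20.2.2.1).trans (rel20.2.1).symm

theorem line21 : sig [17] * sig [17, 34, 50] = sig [35] := by
  have h := sig_line_shift tline0 [8, 45, 52, 78, 100]
  rwa [(sig_congr cList_comm (g := [17]) (g' := [8, 45, 52, 78, 100]) [2, 1, 1, 2, 3, 0, 1, 2, 3, 3, 0, 3] (by decide +kernel)), (sig_congr cList_comm (g := [17, 34, 50]) (g' := ([8, 45, 52, 78, 100] ++ [10])) [0, 1, 0, 1, 1, 0, 3, 2, 3, 2] (by decide +kernel)),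
    (sig_congr cList_comm (g := [35]) (g' := ([8, 45, 52, 78, 100] ++ [21, 35, 65])) [3, 3, 2, 3, 0, 1, 0, 3, 3, 3, 3, 2] (by decide +kernel))] at h

theorem rel21 : sig [17, 34, 50] * sig [17] = sig [35] ∧ sig [17] * sig [35] = sig [17, 34, 50] ∧
    sig [35] * sig [17] = sig [17, 34, 50] ∧ sig [17, 34, 50] * sig [35] = sig [17] ∧ sig [35] * sig [17, 34, 50] = sig [17] :=
  triple (sig_sq s_sq _) (sig_sq s_sq _) (sig_sq s_sq _) line21

theorem comm2_5 : Commute (sig [17]) (sig [35]) :=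
  (rel21.2.1).trans (rel21.2.2.1).symm

theorem line22 : sig [17] * sig [67] = sig [14, 47, 65] := by
  have h := sig_line_shift tline0 [12, 46, 66, 82, 105, 120]
  rwa [(sig_congr cList_comm (g := [17]) (g' := [12, 46, 66, 82, 105, 120]) [0, 3, 2, 3, 3, 2, 1, 0, 1, 0, 3] (by decide +kernel)), (sig_congr cList_comm (g := [67]) (g' := ([12, 46, 66, 82, 105, 120] ++ [10])) [2, 3, 0, 1, 0, 3, 3, 3, 2, 3, 3, 3] (by decide +kernel)),
    (sig_congr cList_comm (g := [14, 47, 65]) (g' := ([12, 46, 66, 82, 105, 120] ++ [21, 35, 65])) [1, 0, 3, 2, 3, 0, 1, 1] (by decide +kernel))] at h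

theorem rel22 : sig [67] * sig [17] = sig [14, 47, 65] ∧ sig [17] * sig [14, 47, 65] = sig [67] ∧
    sig [14, 47, 65] * sig [17] = sig [67] ∧ sig [67] * sig [14, 47, 65] = sig [17] ∧ sig [14, 47, 65] * sig [67] = sig [17] :=
  triple (sig_sq s_sq _) (sig_sq s_sq _) (sig_sq s_sq _) line22

theorem comm2_6 : Commute (sig [17]) (sig [67]) :=
  (line22).trans (rel22.1).symm

theorem line23 : sig [17] * sig [7, 50] = sig [15, 47, 50] := by
  have h := sig_line_shift tline0 [16, 32, 54, 71, 93, 121]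
  rwa [(sig_congr cList_comm (g := [17]) (g' := [16, 32, 54, 71, 93, 121]) [1, 2, 3, 2, 3, 3, 3, 2, 1] (by decide +kernel)), (sig_congr cList_comm (g := [7, 50]) (g' := ([16, 32, 54, 71, 93, 121] ++ [10])) [1, 1, 1, 1, 1, 1, 2, 1, 1, 2, 3] (by decide +kernel)),
    (sig_congr cList_comm (g := [15, 47, 50]) (g' := ([16, 32, 54, 71, 93, 121] ++ [21, 35, 65])) [3, 2, 1, 2, 1, 1, 2, 1, 2, 3, 3, 3, 0] (by decide +kernel))] at h

theorem rel23 : sig [7, 50] * sig [17] = sig [15, 47, 50] ∧ sig [17] * sig [15, 47, 50] = sig [7, 50] ∧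
    sig [15, 47, 50] * sig [17] = sig [7, 50] ∧ sig [7, 50] * sig [15, 47, 50] = sig [17] ∧ sig [15, 47, 50] * sig [7, 50] = sig [17] :=
  triple (sig_sq s_sq _) (sig_sq s_sq _) (sig_sq s_sq _) line23

theorem comm2_7 : Commute (sig [17]) (sig [7, 50]) :=
  (line23).trans (rel23.1).symm

theorem line24 : sig [23, 37, 52, 81, 108, 119] * sig [17] = sig [10, 35] := by
  have h := sig_line_shift tline0 [8, 32, 52, 83, 91, 110, 111]
  rwa [(sig_congr cList_comm (g := [23, 37, 52, 81, 108, 119]) (g' := [8, 32, 52, 83, 91, 110, 111]) [2, 3, 3, 2, 1, 2, 3, 0, 1, 2, 3, 3, 2] (by decide +kernel)), (sig_congr cList_comm (g := [17]) (g' := ([8, 32, 52, 83, 91, 110, 111] ++ [10])) [1, 1, 0, 3, 3, 3, 2, 3, 3, 3, 3] (by decide +kernel)),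
    (sig_congr cList_comm (g := [10, 35]) (g' := ([8, 32, 52, 83, 91, 110, 111] ++ [21, 35, 65])) [3, 0, 1, 2, 1, 0, 3, 2, 3, 2, 1, 1, 1] (by decide +kernel))] at h

theorem rel24 : sig [17] * sig [23, 37, 52, 81, 108, 119] = sig [10, 35] ∧ sig [23, 37, 52, 81, 108, 119] * sig [10, 35] = sig [17] ∧
    sig [10, 35] * sig [23, 37, 52, 81, 108, 119] = sig [17] ∧ sig [17] * sig [10, 35] = sig [23, 37, 52, 81, 108, 119] ∧ sig [10, 35] * sig [17] = sig [23, 37, 52, 81, 108, 119] :=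
  triple (sig_sq s_sq _) (sig_sq s_sq _) (sig_sq s_sq _) line24

theorem comm2_8 : Commute (sig [17]) (sig [10, 35]) :=
  (rel24.2.2.2.1).trans (rel24.2.2.2.2).symm

theorem line25 : sig [8, 47, 69, 87, 94, 118] * sig [17, 35] = sig [17] := by
  have h := sig_line_shift tline0 [12, 34, 54, 85, 107, 117]
  rwa [(sig_congr cList_comm (g := [8, 47, 69, 87, 94, 118]) (g' := [12, 34, 54, 85, 107, 117]) [1, 2, 1, 2, 3, 2, 1, 0, 1, 1, 0, 1, 0] (by decide +kernel)), (sig_congr cList_comm (g := [17, 35]) (g' := ([12, 34, 54, 85, 107, 117] ++ [10])) [3, 3, 2, 3, 3, 2, 1] (by decide +kernel)),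
    (sig_congr cList_comm (g := [17]) (g' := ([12, 34, 54, 85, 107, 117] ++ [21, 35, 65])) [2, 3, 0, 3, 2, 3, 3, 3, 3, 0, 1, 1] (by decide +kernel))] at h

theorem rel25 : sig [17, 35] * sig [8, 47, 69, 87, 94, 118] = sig [17] ∧ sig [8, 47, 69, 87, 94, 118] * sig [17] = sig [17, 35] ∧
    sig [17] * sig [8, 47, 69, 87, 94, 118] = sig [17, 35] ∧ sig [17, 35] * sig [17] = sig [8, 47, 69, 87, 94, 118] ∧ sig [17] * sig [17, 35] = sig [8, 47, 69, 87, 94, 118] :=
  triple (sig_sq s_sq _) (sig_sq s_sq _) (sig_sq s_sq _) line25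

theorem comm2_9 : Commute (sig [17]) (sig [17, 35]) :=
  (rel25.2.2.2.2).trans (rel25.2.2.2.1).symm

theorem line26 : sig [17] * sig [22, 34] = sig [23, 47, 54, 83, 90] := by
  have h := sig_line_shift tline0 [10, 43, 51, 75, 108, 115]
  rwa [(sig_congr cList_comm (g := [17]) (g' := [10, 43, 51, 75, 108, 115]) [1, 0, 1, 2, 1, 1, 1, 2, 1, 1, 1, 1, 0] (by decide +kernel)), (sig_congr cList_comm (g := [22, 34]) (g' := ([10, 43, 51, 75, 108, 115] ++ [10])) [3, 2, 1, 1, 1, 1, 1, 1, 2, 3, 3, 0] (by decide +kernel)),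
    (sig_congr cList_comm (g := [23, 47, 54, 83, 90]) (g' := ([10, 43, 51, 75, 108, 115] ++ [21, 35, 65])) [2, 1, 2, 3, 3, 2, 1, 2, 3, 2, 1, 2] (by decide +kernel))] at h

theorem rel26 : sig [22, 34] * sig [17] = sig [23, 47, 54, 83, 90] ∧ sig [17] * sig [23, 47, 54, 83, 90] = sig [22, 34] ∧
    sig [23, 47, 54, 83, 90] * sig [17] = sig [22, 34] ∧ sig [22, 34] * sig [23, 47, 54, 83, 90] = sig [17] ∧ sig [23, 47, 54, 83, 90] * sig [22, 34] = sig [17] :=
  triple (sig_sq s_sq _) (sig_sq s_sq _) (sig_sq s_sq _) line26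

theorem comm2_10 : Commute (sig [17]) (sig [22, 34]) :=
  (line26).trans (rel26.1).symm

theorem line27 : sig [50] * sig [6] = sig [18, 34, 50, 98] := by
  have h := sig_line_shift tline0 [20, 42, 55, 76, 97]
  rwa [(sig_congr cList_comm (g := [50]) (g' := [20, 42, 55, 76, 97]) [0, 3, 2, 3, 0, 3, 3, 2, 1, 0, 1] (by decide +kernel)), (sig_congr cList_comm (g := [6]) (g' := ([20, 42, 55, 76, 97] ++ [10])) [1, 2, 1, 1, 0, 1, 2, 3, 0, 1, 0, 3, 3] (by decide +kernel)),
    (sig_congr cList_comm (g := [18, 34, 50, 98]) (g' := ([20, 42, 55, 76, 97] ++ [21, 35, 65])) [3, 0, 3, 3, 3, 2, 1, 0, 1, 0, 1, 0, 3] (by decide +kernel))] at h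

theorem rel27 : sig [6] * sig [50] = sig [18, 34, 50, 98] ∧ sig [50] * sig [18, 34, 50, 98] = sig [6] ∧
    sig [18, 34, 50, 98] * sig [50] = sig [6] ∧ sig [6] * sig [18, 34, 50, 98] = sig [50] ∧ sig [18, 34, 50, 98] * sig [6] = sig [50] :=
  triple (sig_sq s_sq _) (sig_sq s_sq _) (sig_sq s_sq _) line27

theorem comm3_4 : Commute (sig [6]) (sig [50]) :=
  (rel27.1).trans (line27).symm

theorem line28 : sig [6] * sig [35] = sig [23, 39, 49, 70, 104, 110, 124] := by
  have h := sig_line_shift tline0 [17, 28, 62, 81, 108, 109, 120]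
  rwa [(sig_congr cList_comm (g := [6]) (g' := [17, 28, 62, 81, 108, 109, 120]) [1, 2, 3, 3, 2, 1, 0, 3, 2, 1] (by decide +kernel)), (sig_congr cList_comm (g := [35]) (g' := ([17, 28, 62, 81, 108, 109, 120] ++ [10])) [0, 1, 0, 3, 2, 3, 2, 3, 0, 1, 1, 1, 1] (by decide +kernel)),
    (sig_congr cList_comm (g := [23, 39, 49, 70, 104, 110, 124]) (g' := ([17, 28, 62, 81, 108, 109, 120] ++ [21, 35, 65])) [1, 1, 1, 1, 0, 1, 2, 3, 3, 0] (by decide +kernel))] at h

theorem rel28 : sig [35] * sig [6] = sig [23, 39, 49, 70, 104, 110, 124] ∧ sig [6] * sig [23, 39, 49, 70, 104, 110, 124] = sig [35] ∧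
    sig [23, 39, 49, 70, 104, 110, 124] * sig [6] = sig [35] ∧ sig [35] * sig [23, 39, 49, 70, 104, 110, 124] = sig [6] ∧ sig [23, 39, 49, 70, 104, 110, 124] * sig [35] = sig [6] :=
  triple (sig_sq s_sq _) (sig_sq s_sq _) (sig_sq s_sq _) line28

theorem comm3_5 : Commute (sig [6]) (sig [35]) :=
  (line28).trans (rel28.1).symm

theorem line29 : sig [67] * sig [6] = sig [23, 28, 52, 86, 93, 110, 116] := by
  have h := sig_line_shift tline0 [17, 29, 49, 71, 102, 109, 118]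
  rwa [(sig_congr cList_comm (g := [67]) (g' := [17, 29, 49, 71, 102, 109, 118]) [3, 0, 3, 0, 3, 3, 3, 0, 3, 0] (by decide +kernel)), (sig_congr cList_comm (g := [6]) (g' := ([17, 29, 49, 71, 102, 109, 118] ++ [10])) [1, 2, 1, 2, 3, 3, 2, 3, 2, 1, 0] (by decide +kernel)),
    (sig_congr cList_comm (g := [23, 28, 52, 86, 93, 110, 116]) (g' := ([17, 29, 49, 71, 102, 109, 118] ++ [21, 35, 65])) [3, 0, 1, 2, 1, 0, 3, 3, 3, 2, 3, 0] (by decide +kernel))] at h

theorem rel29 : sig [6] * sig [67] = sig [23, 28, 52, 86, 93, 110, 116] ∧ sig [67] * sig [23, 28, 52, 86, 93, 110, 116] = sig [6] ∧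
    sig [23, 28, 52, 86, 93, 110, 116] * sig [67] = sig [6] ∧ sig [6] * sig [23, 28, 52, 86, 93, 110, 116] = sig [67] ∧ sig [23, 28, 52, 86, 93, 110, 116] * sig [6] = sig [67] :=
  triple (sig_sq s_sq _) (sig_sq s_sq _) (sig_sq s_sq _) line29

theorem comm3_6 : Commute (sig [6]) (sig [67]) :=
  (rel29.1).trans (line29).symm

theorem line30 : sig [7, 50] * sig [16, 37] = sig [6] := by
  have h := sig_line_shift tline0 [9, 46, 67, 81, 98, 110, 113]
  rwa [(sig_congr cList_comm (g := [7, 50]) (g' := [9, 46, 67, 81, 98, 110, 113]) [0, 1, 2, 1, 2, 3, 2, 1, 2, 3, 0, 1, 0] (by decide +kernel)), (sig_congr cList_comm (g := [16, 37]) (g' := ([9, 46, 67, 81, 98, 110, 113] ++ [10])) [3, 3, 3, 0, 1, 1, 2, 3, 0, 1, 0] (by decide +kernel)),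
    (sig_congr cList_comm (g := [6]) (g' := ([9, 46, 67, 81, 98, 110, 113] ++ [21, 35, 65])) [1, 0, 3, 3, 0, 3, 0, 3, 0, 1, 1, 2] (by decide +kernel))] at h

theorem rel30 : sig [16, 37] * sig [7, 50] = sig [6] ∧ sig [7, 50] * sig [6] = sig [16, 37] ∧
    sig [6] * sig [7, 50] = sig [16, 37] ∧ sig [16, 37] * sig [6] = sig [7, 50] ∧ sig [6] * sig [16, 37] = sig [7, 50] :=
  triple (sig_sq s_sq _) (sig_sq s_sq _) (sig_sq s_sq _) line30

theorem comm3_7 : Commute (sig [6]) (sig [7, 50]) :=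
  (rel30.2.2.1).trans (rel30.2.1).symm

theorem line31 : sig [14, 37] * sig [10, 35] = sig [6] := by
  have h := sig_line_shift tline0 [20, 44, 60, 79, 93, 123]
  rwa [(sig_congr cList_comm (g := [14, 37]) (g' := [20, 44, 60, 79, 93, 123]) [0, 1, 1, 2, 3, 2, 3, 0, 1, 0] (by decide +kernel)), (sig_congr cList_comm (g := [10, 35]) (g' := ([20, 44, 60, 79, 93, 123] ++ [10])) [0, 1, 2, 1, 1, 1, 2, 3, 2, 1, 2, 1] (by decide +kernel)),
    (sig_congr cList_comm (g := [6]) (g' := ([20, 44, 60, 79, 93, 123] ++ [21, 35, 65])) [3, 0, 1, 0, 3, 2, 1, 1, 1, 2, 3] (by decide +kernel))] at h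

theorem rel31 : sig [10, 35] * sig [14, 37] = sig [6] ∧ sig [14, 37] * sig [6] = sig [10, 35] ∧
    sig [6] * sig [14, 37] = sig [10, 35] ∧ sig [10, 35] * sig [6] = sig [14, 37] ∧ sig [6] * sig [10, 35] = sig [14, 37] :=
  triple (sig_sq s_sq _) (sig_sq s_sq _) (sig_sq s_sq _) line31

theorem comm3_8 : Commute (sig [6]) (sig [10, 35]) :=
  (rel31.2.2.2.2).trans (rel31.2.2.2.1).symm

theorem line32 : sig [13, 37, 52, 81, 108, 119] * sig [6] = sig [17, 35] := by
  have h := sig_line_shift tline0 [8, 32, 66, 82, 91, 116]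
  rwa [(sig_congr cList_comm (g := [13, 37, 52, 81, 108, 119]) (g' := [8, 32, 66, 82, 91, 116]) [2, 3, 3, 2, 1, 2, 3, 0, 1, 2, 3, 3, 2] (by decide +kernel)), (sig_congr cList_comm (g := [6]) (g' := ([8, 32, 66, 82, 91, 116] ++ [10])) [1, 1, 0, 3, 3, 3, 2, 3, 3, 3, 3] (by decide +kernel)),
    (sig_congr cList_comm (g := [17, 35]) (g' := ([8, 32, 66, 82, 91, 116] ++ [21, 35, 65])) [3, 0, 1, 2, 1, 0, 3, 2, 3, 2, 1, 1, 1] (by decide +kernel))] at h

theorem rel32 : sig [6] * sig [13, 37, 52, 81, 108, 119] = sig [17, 35] ∧ sig [13, 37, 52, 81, 108, 119] * sig [17, 35] = sig [6] ∧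
    sig [17, 35] * sig [13, 37, 52, 81, 108, 119] = sig [6] ∧ sig [6] * sig [17, 35] = sig [13, 37, 52, 81, 108, 119] ∧ sig [17, 35] * sig [6] = sig [13, 37, 52, 81, 108, 119] :=
  triple (sig_sq s_sq _) (sig_sq s_sq _) (sig_sq s_sq _) line32

theorem comm3_9 : Commute (sig [6]) (sig [17, 35]) :=
  (rel32.2.2.2.1).trans (rel32.2.2.2.2).symm

theorem line33 : sig [6] * sig [22, 34] = sig [20, 40, 63, 78, 95, 109, 117] := by
  have h := sig_line_shift tline0 [13, 27, 67, 81, 90, 109, 125]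
  rwa [(sig_congr cList_comm (g := [6]) (g' := [13, 27, 67, 81, 90, 109, 125]) [3, 2, 1, 2, 3, 0, 1, 2, 3] (by decide +kernel)), (sig_congr cList_comm (g := [22, 34]) (g' := ([13, 27, 67, 81, 90, 109, 125] ++ [10])) [2, 3, 3, 3, 3, 3, 0, 1, 1, 2, 3] (by decide +kernel)),
    (sig_congr cList_comm (g := [20, 40, 63, 78, 95, 109, 117]) (g' := ([13, 27, 67, 81, 90, 109, 125] ++ [21, 35, 65])) [3, 2, 1, 0, 3, 2, 3, 3, 3, 0] (by decide +kernel))] at h

theorem rel33 : sig [22, 34] * sig [6] = sig [20, 40, 63, 78, 95, 109, 117] ∧ sig [6] * sig [20, 40, 63, 78, 95, 109, 117] = sig [22, 34] ∧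
    sig [20, 40, 63, 78, 95, 109, 117] * sig [6] = sig [22, 34] ∧ sig [22, 34] * sig [20, 40, 63, 78, 95, 109, 117] = sig [6] ∧ sig [20, 40, 63, 78, 95, 109, 117] * sig [22, 34] = sig [6] :=
  triple (sig_sq s_sq _) (sig_sq s_sq _) (sig_sq s_sq _) line33

theorem comm3_10 : Commute (sig [6]) (sig [22, 34]) :=
  (line33).trans (rel33.1).symm

theorem line34 : sig [50] * sig [35] = sig [19, 44, 57, 87, 91, 117] := by
  have h := sig_line_shift tline0 [16, 45, 62, 71, 91, 109, 113]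
  rwa [(sig_congr cList_comm (g := [50]) (g' := [16, 45, 62, 71, 91, 109, 113]) [0, 3, 2, 1, 1, 2, 1, 1, 2, 1, 0, 1] (by decide +kernel)), (sig_congr cList_comm (g := [35]) (g' := ([16, 45, 62, 71, 91, 109, 113] ++ [10])) [2, 1, 1, 0, 3, 0, 1, 0, 3, 2, 3, 2] (by decide +kernel)),
    (sig_congr cList_comm (g := [19, 44, 57, 87, 91, 117]) (g' := ([16, 45, 62, 71, 91, 109, 113] ++ [21, 35, 65])) [0, 1, 0, 3, 2, 1, 2, 3, 3, 0, 3, 0] (by decide +kernel))] at h

theorem rel34 : sig [35] * sig [50] = sig [19, 44, 57, 87, 91, 117] ∧ sig [50] * sig [19, 44, 57, 87, 91, 117] = sig [35] ∧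
    sig [19, 44, 57, 87, 91, 117] * sig [50] = sig [35] ∧ sig [35] * sig [19, 44, 57, 87, 91, 117] = sig [50] ∧ sig [19, 44, 57, 87, 91, 117] * sig [35] = sig [50] :=
  triple (sig_sq s_sq _) (sig_sq s_sq _) (sig_sq s_sq _) line34

theorem comm4_5 : Commute (sig [50]) (sig [35]) :=
  (line34).trans (rel34.1).symm

theorem line35 : sig [67] * sig [50] = sig [10, 37, 60, 79, 95, 118] := by
  have h := sig_line_shift tline0 [13, 42, 62, 77, 91, 115]
  rwa [(sig_congr cList_comm (g := [67]) (g' := [13, 42, 62, 77, 91, 115]) [1, 2, 3, 0, 3, 2, 1, 1, 1, 2] (by decide +kernel)), (sig_congr cList_comm (g := [50]) (g' := ([13, 42, 62, 77, 91, 115] ++ [10])) [0, 1, 1, 1, 0, 3, 3, 0, 1, 0, 3, 0] (by decide +kernel)),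
    (sig_congr cList_comm (g := [10, 37, 60, 79, 95, 118]) (g' := ([13, 42, 62, 77, 91, 115] ++ [21, 35, 65])) [0, 3, 2, 3, 2, 1, 1, 1, 1, 1, 2] (by decide +kernel))] at h

theorem rel35 : sig [50] * sig [67] = sig [10, 37, 60, 79, 95, 118] ∧ sig [67] * sig [10, 37, 60, 79, 95, 118] = sig [50] ∧
    sig [10, 37, 60, 79, 95, 118] * sig [67] = sig [50] ∧ sig [50] * sig [10, 37, 60, 79, 95, 118] = sig [67] ∧ sig [10, 37, 60, 79, 95, 118] * sig [50] = sig [67] :=
  triple (sig_sq s_sq _) (sig_sq s_sq _) (sig_sq s_sq _) line35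

theorem comm4_6 : Commute (sig [50]) (sig [67]) :=
  (rel35.1).trans (line35).symm

theorem line36 : sig [50] * sig [21, 43, 50] = sig [7, 50] := by
  have h := sig_line_shift tline0 [16, 43, 67, 84, 100, 110, 112]
  rwa [(sig_congr cList_comm (g := [50]) (g' := [16, 43, 67, 84, 100, 110, 112]) [0, 1, 1, 2, 3, 0, 1, 1, 2, 1, 2] (by decide +kernel)), (sig_congr cList_comm (g := [21, 43, 50]) (g' := ([16, 43, 67, 84, 100, 110, 112] ++ [10])) [1, 0, 3, 0, 1, 2, 3, 0, 1, 1, 0, 1] (by decide +kernel)),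
    (sig_congr cList_comm (g := [7, 50]) (g' := ([16, 43, 67, 84, 100, 110, 112] ++ [21, 35, 65])) [3, 3, 2, 1, 2, 1, 2, 3, 3, 2, 1] (by decide +kernel))] at h

theorem rel36 : sig [21, 43, 50] * sig [50] = sig [7, 50] ∧ sig [50] * sig [7, 50] = sig [21, 43, 50] ∧
    sig [7, 50] * sig [50] = sig [21, 43, 50] ∧ sig [21, 43, 50] * sig [7, 50] = sig [50] ∧ sig [7, 50] * sig [21, 43, 50] = sig [50] :=
  triple (sig_sq s_sq _) (sig_sq s_sq _) (sig_sq s_sq _) line36

theorem comm4_7 : Commute (sig [50]) (sig [7, 50]) :=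
  (rel36.2.1).trans (rel36.2.2.1).symm

theorem line37 : sig [10, 35] * sig [9, 39, 65] = sig [50] := by
  have h := sig_line_shift tline0 [18, 39, 68, 78, 103, 110, 121]
  rwa [(sig_congr cList_comm (g := [10, 35]) (g' := [18, 39, 68, 78, 103, 110, 121]) [3, 2, 3, 3, 0, 3, 0, 3, 3, 2, 3, 0] (by decide +kernel)), (sig_congr cList_comm (g := [9, 39, 65]) (g' := ([18, 39, 68, 78, 103, 110, 121] ++ [10])) [3, 0, 3, 2, 3, 3, 2, 1, 2, 3] (by decide +kernel)),
    (sig_congr cList_comm (g := [50]) (g' := ([18, 39, 68, 78, 103, 110, 121] ++ [21, 35, 65])) [2, 3, 2, 3, 2, 1, 1, 1, 0, 1, 0, 1, 0] (by decide +kernel))] at h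

theorem rel37 : sig [9, 39, 65] * sig [10, 35] = sig [50] ∧ sig [10, 35] * sig [50] = sig [9, 39, 65] ∧
    sig [50] * sig [10, 35] = sig [9, 39, 65] ∧ sig [9, 39, 65] * sig [50] = sig [10, 35] ∧ sig [50] * sig [9, 39, 65] = sig [10, 35] :=
  triple (sig_sq s_sq _) (sig_sq s_sq _) (sig_sq s_sq _) line37

theorem comm4_8 : Commute (sig [50]) (sig [10, 35]) :=
  (rel37.2.2.1).trans (rel37.2.1).symm

theorem line38 : sig [50] * sig [17, 35] = sig [16, 44, 50] := by
  have h := sig_line_shift tline0 [5, 36, 61, 71, 101, 109, 114]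
  rwa [(sig_congr cList_comm (g := [50]) (g' := [5, 36, 61, 71, 101, 109, 114]) [1, 0, 1, 1, 0, 1, 2, 3, 2, 3, 3, 2, 1] (by decide +kernel)), (sig_congr cList_comm (g := [17, 35]) (g' := ([5, 36, 61, 71, 101, 109, 114] ++ [10])) [3, 3, 3, 0, 1, 1, 2, 3, 0, 1, 0] (by decide +kernel)),
    (sig_congr cList_comm (g := [16, 44, 50]) (g' := ([5, 36, 61, 71, 101, 109, 114] ++ [21, 35, 65])) [1, 0, 3, 3, 0, 3, 0, 3, 0, 1, 1, 2] (by decide +kernel))] at h

theorem rel38 : sig [17, 35] * sig [50] = sig [16, 44, 50] ∧ sig [50] * sig [16, 44, 50] = sig [17, 35] ∧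
    sig [16, 44, 50] * sig [50] = sig [17, 35] ∧ sig [17, 35] * sig [16, 44, 50] = sig [50] ∧ sig [16, 44, 50] * sig [17, 35] = sig [50] :=
  triple (sig_sq s_sq _) (sig_sq s_sq _) (sig_sq s_sq _) line38

theorem comm4_9 : Commute (sig [50]) (sig [17, 35]) :=
  (line38).trans (rel38.1).symm

theorem line39 : sig [22, 27, 69, 87] * sig [50] = sig [22, 34] := by
  have h := sig_line_shift tline0 [17, 40, 50, 74, 100, 122]
  rwa [(sig_congr cList_comm (g := [22, 27, 69, 87]) (g' := [17, 40, 50, 74, 100, 122]) [0, 1, 1, 1, 1, 2, 3, 3, 2, 1, 0] (by decide +kernel)), (sig_congr cList_comm (g := [50]) (g' := ([17, 40, 50, 74, 100, 122] ++ [10])) [2, 3, 3, 3, 3, 3, 0] (by decide +kernel)),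
    (sig_congr cList_comm (g := [22, 34]) (g' := ([17, 40, 50, 74, 100, 122] ++ [21, 35, 65])) [2, 1, 1, 2, 3, 3, 2, 1, 0, 1, 0] (by decide +kernel))] at h

theorem rel39 : sig [50] * sig [22, 27, 69, 87] = sig [22, 34] ∧ sig [22, 27, 69, 87] * sig [22, 34] = sig [50] ∧
    sig [22, 34] * sig [22, 27, 69, 87] = sig [50] ∧ sig [50] * sig [22, 34] = sig [22, 27, 69, 87] ∧ sig [22, 34] * sig [50] = sig [22, 27, 69, 87] :=
  triple (sig_sq s_sq _) (sig_sq s_sq _) (sig_sq s_sq _) line39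

theorem comm4_10 : Commute (sig [50]) (sig [22, 34]) :=
  (rel39.2.2.2.1).trans (rel39.2.2.2.2).symm

theorem line40 : sig [67] * sig [35] = sig [44, 62] := by
  have h := sig_line_shift tline0 [13, 36, 67, 84, 91, 109, 116]
  rwa [(sig_congr cList_comm (g := [67]) (g' := [13, 36, 67, 84, 91, 109, 116]) [0, 3, 2, 3, 0, 3, 2, 3, 2, 3, 0, 3, 0] (by decide +kernel)), (sig_congr cList_comm (g := [35]) (g' := ([13, 36, 67, 84, 91, 109, 116] ++ [10])) [1, 0, 1, 1, 1, 0, 1, 0, 3, 0] (by decide +kernel)),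
    (sig_congr cList_comm (g := [44, 62]) (g' := ([13, 36, 67, 84, 91, 109, 116] ++ [21, 35, 65])) [1, 0, 1, 0, 1, 1, 2, 1, 2, 3] (by decide +kernel))] at h

theorem rel40 : sig [35] * sig [67] = sig [44, 62] ∧ sig [67] * sig [44, 62] = sig [35] ∧
    sig [44, 62] * sig [67] = sig [35] ∧ sig [35] * sig [44, 62] = sig [67] ∧ sig [44, 62] * sig [35] = sig [67] :=
  triple (sig_sq s_sq _) (sig_sq s_sq _) (sig_sq s_sq _) line40

theorem comm5_6 : Commute (sig [35]) (sig [67]) :=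
  (rel40.1).trans (line40).symm

theorem line41 : sig [35] * sig [7, 50] = sig [11, 27, 52, 73, 90, 110, 112] := by
  have h := sig_line_shift tline0 [6, 40, 59, 85, 93, 113]
  rwa [(sig_congr cList_comm (g := [35]) (g' := [6, 40, 59, 85, 93, 113]) [2, 3, 3, 3, 3, 3, 0, 1, 0, 1, 1, 1, 1] (by decide +kernel)), (sig_congr cList_comm (g := [7, 50]) (g' := ([6, 40, 59, 85, 93, 113] ++ [10])) [3, 2, 1, 1, 1, 0, 3, 2, 3, 3, 0] (by decide +kernel)),
    (sig_congr cList_comm (g := [11, 27, 52, 73, 90, 110, 112]) (g' := ([6, 40, 59, 85, 93, 113] ++ [21, 35, 65])) [0, 1, 0, 3, 0, 1, 2, 3, 3, 3, 3] (by decide +kernel))] at h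

theorem rel41 : sig [7, 50] * sig [35] = sig [11, 27, 52, 73, 90, 110, 112] ∧ sig [35] * sig [11, 27, 52, 73, 90, 110, 112] = sig [7, 50] ∧
    sig [11, 27, 52, 73, 90, 110, 112] * sig [35] = sig [7, 50] ∧ sig [7, 50] * sig [11, 27, 52, 73, 90, 110, 112] = sig [35] ∧ sig [11, 27, 52, 73, 90, 110, 112] * sig [7, 50] = sig [35] :=
  triple (sig_sq s_sq _) (sig_sq s_sq _) (sig_sq s_sq _) line41

theorem comm5_7 : Commute (sig [35]) (sig [7, 50]) :=
  (line41).trans (rel41.1).symm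

theorem line42 : sig [35] * sig [17, 37] = sig [10, 35] := by
  have h := sig_line_shift tline0 [10, 28, 50, 77, 102, 109, 123]
  rwa [(sig_congr cList_comm (g := [35]) (g' := [10, 28, 50, 77, 102, 109, 123]) [2, 1, 0, 1, 2, 1, 0, 1] (by decide +kernel)), (sig_congr cList_comm (g := [17, 37]) (g' := ([10, 28, 50, 77, 102, 109, 123] ++ [10])) [1, 1, 0, 3, 0, 3, 0, 3, 0] (by decide +kernel)),
    (sig_congr cList_comm (g := [10, 35]) (g' := ([10, 28, 50, 77, 102, 109, 123] ++ [21, 35, 65])) [0, 3, 0, 1, 1, 0, 3, 3, 0, 1, 1] (by decide +kernel))] at h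

theorem rel42 : sig [17, 37] * sig [35] = sig [10, 35] ∧ sig [35] * sig [10, 35] = sig [17, 37] ∧
    sig [10, 35] * sig [35] = sig [17, 37] ∧ sig [17, 37] * sig [10, 35] = sig [35] ∧ sig [10, 35] * sig [17, 37] = sig [35] :=
  triple (sig_sq s_sq _) (sig_sq s_sq _) (sig_sq s_sq _) line42

theorem comm5_8 : Commute (sig [35]) (sig [10, 35]) :=
  (rel42.2.1).trans (rel42.2.2.1).symm

theorem line43 : sig [17, 35] * sig [5, 40, 61, 85, 94, 109, 112] = sig [35] := by
  have h := sig_line_shift tline0 [7, 33, 69, 75, 102, 110, 118]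
  rwa [(sig_congr cList_comm (g := [17, 35]) (g' := [7, 33, 69, 75, 102, 110, 118]) [3, 3, 0, 1, 1, 0, 3, 3, 3, 3, 3] (by decide +kernel)), (sig_congr cList_comm (g := [5, 40, 61, 85, 94, 109, 112]) (g' := ([7, 33, 69, 75, 102, 110, 118] ++ [10])) [3, 0, 3, 2, 3, 2, 1, 1, 2, 3, 0, 3] (by decide +kernel)),
    (sig_congr cList_comm (g := [35]) (g' := ([7, 33, 69, 75, 102, 110, 118] ++ [21, 35, 65])) [1, 2, 1, 0, 3, 3, 0, 1, 1, 0, 3, 0, 3] (by decide +kernel))] at h

theorem rel43 : sig [5, 40, 61, 85, 94, 109, 112] * sig [17, 35] = sig [35] ∧ sig [17, 35] * sig [35] = sig [5, 40, 61, 85, 94, 109, 112] ∧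
    sig [35] * sig [17, 35] = sig [5, 40, 61, 85, 94, 109, 112] ∧ sig [5, 40, 61, 85, 94, 109, 112] * sig [35] = sig [17, 35] ∧ sig [35] * sig [5, 40, 61, 85, 94, 109, 112] = sig [17, 35] :=
  triple (sig_sq s_sq _) (sig_sq s_sq _) (sig_sq s_sq _) line43

theorem comm5_9 : Commute (sig [35]) (sig [17, 35]) :=
  (rel43.2.2.1).trans (rel43.2.1).symm

theorem line44 : sig [35] * sig [22, 34] = sig [42, 67, 85] := by
  have h := sig_line_shift tline0 [12, 34, 65, 88, 99, 110]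
  rwa [(sig_congr cList_comm (g := [35]) (g' := [12, 34, 65, 88, 99, 110]) [1, 0, 3, 3, 2, 1, 2, 1, 1, 2] (by decide +kernel)), (sig_congr cList_comm (g := [22, 34]) (g' := ([12, 34, 65, 88, 99, 110] ++ [10])) [0, 3, 0, 3, 0, 3, 3, 2, 1] (by decide +kernel)),
    (sig_congr cList_comm (g := [42, 67, 85]) (g' := ([12, 34, 65, 88, 99, 110] ++ [21, 35, 65])) [1, 2, 3, 0, 3, 2, 1, 1, 0, 1] (by decide +kernel))] at h

theorem rel44 : sig [22, 34] * sig [35] = sig [42, 67, 85] ∧ sig [35] * sig [42, 67, 85] = sig [22, 34] ∧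
    sig [42, 67, 85] * sig [35] = sig [22, 34] ∧ sig [22, 34] * sig [42, 67, 85] = sig [35] ∧ sig [42, 67, 85] * sig [22, 34] = sig [35] :=
  triple (sig_sq s_sq _) (sig_sq s_sq _) (sig_sq s_sq _) line44

theorem comm5_10 : Commute (sig [35]) (sig [22, 34]) :=
  (line44).trans (rel44.1).symm

theorem line45 : sig [24, 35] * sig [7, 50] = sig [67] := by
  have h := sig_line_shift tline0 [21, 46, 56, 83, 103, 124]
  rwa [(sig_congr cList_comm (g := [24, 35]) (g' := [21, 46, 56, 83, 103, 124]) [1, 0, 3, 2, 1, 1, 2, 1, 1, 0, 1, 1, 2] (by decide +kernel)), (sig_congr cList_comm (g := [7, 50]) (g' := ([21, 46, 56, 83, 103, 124] ++ [10])) [0, 1, 2, 1, 2, 1, 1, 2, 1, 2, 3, 3] (by decide +kernel)),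
    (sig_congr cList_comm (g := [67]) (g' := ([21, 46, 56, 83, 103, 124] ++ [21, 35, 65])) [0, 3, 0, 1, 2, 1, 2, 1, 0, 1, 1, 0, 1] (by decide +kernel))] at h

theorem rel45 : sig [7, 50] * sig [24, 35] = sig [67] ∧ sig [24, 35] * sig [67] = sig [7, 50] ∧
    sig [67] * sig [24, 35] = sig [7, 50] ∧ sig [7, 50] * sig [67] = sig [24, 35] ∧ sig [67] * sig [7, 50] = sig [24, 35] :=
  triple (sig_sq s_sq _) (sig_sq s_sq _) (sig_sq s_sq _) line45

theorem comm6_7 : Commute (sig [67]) (sig [7, 50]) :=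
  (rel45.2.2.2.2).trans (rel45.2.2.2.1).symm

theorem line46 : sig [10, 35] * sig [67] = sig [9, 40, 66, 78, 91, 109, 118] := by
  have h := sig_line_shift tline0 [11, 29, 53, 72, 91, 109, 125]
  rwa [(sig_congr cList_comm (g := [10, 35]) (g' := [11, 29, 53, 72, 91, 109, 125]) [3, 2, 3, 3, 3, 2, 1, 0, 1, 1, 2] (by decide +kernel)), (sig_congr cList_comm (g := [67]) (g' := ([11, 29, 53, 72, 91, 109, 125] ++ [10])) [1, 1, 0, 3, 0, 3, 3, 2, 3, 3, 2, 1] (by decide +kernel)),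
    (sig_congr cList_comm (g := [9, 40, 66, 78, 91, 109, 118]) (g' := ([11, 29, 53, 72, 91, 109, 125] ++ [21, 35, 65])) [2, 1, 1, 1, 0, 3, 3, 3, 2, 1] (by decide +kernel))] at h

theorem rel46 : sig [67] * sig [10, 35] = sig [9, 40, 66, 78, 91, 109, 118] ∧ sig [10, 35] * sig [9, 40, 66, 78, 91, 109, 118] = sig [67] ∧
    sig [9, 40, 66, 78, 91, 109, 118] * sig [10, 35] = sig [67] ∧ sig [67] * sig [9, 40, 66, 78, 91, 109, 118] = sig [10, 35] ∧ sig [9, 40, 66, 78, 91, 109, 118] * sig [67] = sig [10, 35] :=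
  triple (sig_sq s_sq _) (sig_sq s_sq _) (sig_sq s_sq _) line46

theorem comm6_8 : Commute (sig [67]) (sig [10, 35]) :=
  (rel46.1).trans (line46).symm

theorem line47 : sig [17, 35] * sig [67] = sig [17, 40, 52, 74, 90, 110, 119] := by
  have h := sig_line_shift tline1 [13, 42, 61, 89, 103, 116]
  rwa [(sig_congr cList_comm (g := [17, 35]) (g' := [13, 42, 61, 89, 103, 116]) [3, 3, 3, 3, 3, 0, 1, 2, 3, 2] (by decide +kernel)), (sig_congr cList_comm (g := [67]) (g' := ([13, 42, 61, 89, 103, 116] ++ [24, 65])) [3, 2, 1, 1, 2, 3, 2, 1, 2, 3, 3, 0] (by decide +kernel)),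
    (sig_congr cList_comm (g := [17, 40, 52, 74, 90, 110, 119]) (g' := ([13, 42, 61, 89, 103, 116] ++ [20, 37, 66, 89, 99, 110, 112])) [3, 3, 2, 3, 2, 1, 0, 3, 0, 1, 0] (by decide +kernel))] at h

theorem rel47 : sig [67] * sig [17, 35] = sig [17, 40, 52, 74, 90, 110, 119] ∧ sig [17, 35] * sig [17, 40, 52, 74, 90, 110, 119] = sig [67] ∧
    sig [17, 40, 52, 74, 90, 110, 119] * sig [17, 35] = sig [67] ∧ sig [67] * sig [17, 40, 52, 74, 90, 110, 119] = sig [17, 35] ∧ sig [17, 40, 52, 74, 90, 110, 119] * sig [67] = sig [17, 35] :=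
  triple (sig_sq s_sq _) (sig_sq s_sq _) (sig_sq s_sq _) line47

theorem comm6_9 : Commute (sig [67]) (sig [17, 35]) :=
  (rel47.1).trans (line47).symm

theorem line48 : sig [22, 34] * sig [24, 44, 62] = sig [67] := by
  have h := sig_line_shift tline0 [17, 36, 68, 80, 91, 110, 117]
  rwa [(sig_congr cList_comm (g := [22, 34]) (g' := [17, 36, 68, 80, 91, 110, 117]) [1, 1, 0, 3, 0, 1, 2, 1, 1, 1, 2, 1] (by decide +kernel)), (sig_congr cList_comm (g := [24, 44, 62]) (g' := ([17, 36, 68, 80, 91, 110, 117] ++ [10])) [3, 0, 1, 0, 1, 2, 3, 3, 0, 3] (by decide +kernel)),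
    (sig_congr cList_comm (g := [67]) (g' := ([17, 36, 68, 80, 91, 110, 117] ++ [21, 35, 65])) [0, 3, 2, 3, 0, 1, 2, 3, 0, 1, 1, 0] (by decide +kernel))] at h

theorem rel48 : sig [24, 44, 62] * sig [22, 34] = sig [67] ∧ sig [22, 34] * sig [67] = sig [24, 44, 62] ∧
    sig [67] * sig [22, 34] = sig [24, 44, 62] ∧ sig [24, 44, 62] * sig [67] = sig [22, 34] ∧ sig [67] * sig [24, 44, 62] = sig [22, 34] :=
  triple (sig_sq s_sq _) (sig_sq s_sq _) (sig_sq s_sq _) line48

theorem comm6_10 : Commute (sig [67]) (sig [22, 34]) :=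
  (rel48.2.2.1).trans (rel48.2.1).symm

theorem line49 : sig [30, 58, 74, 102, 110, 124] * sig [10, 35] = sig [7, 50] := by
  have h := sig_line_shift tline0 [20, 43, 66, 82, 94, 110, 125]
  rwa [(sig_congr cList_comm (g := [30, 58, 74, 102, 110, 124]) (g' := [20, 43, 66, 82, 94, 110, 125]) [2, 1, 1, 1, 0, 1, 0, 1, 0, 1, 1, 1] (by decide +kernel)), (sig_congr cList_comm (g := [10, 35]) (g' := ([20, 43, 66, 82, 94, 110, 125] ++ [10])) [0, 1, 1, 2, 1, 2, 3, 2, 1] (by decide +kernel)),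
    (sig_congr cList_comm (g := [7, 50]) (g' := ([20, 43, 66, 82, 94, 110, 125] ++ [21, 35, 65])) [3, 0, 3, 3, 2, 1, 0, 1, 2, 1, 0, 3] (by decide +kernel))] at h

theorem rel49 : sig [10, 35] * sig [30, 58, 74, 102, 110, 124] = sig [7, 50] ∧ sig [30, 58, 74, 102, 110, 124] * sig [7, 50] = sig [10, 35] ∧
    sig [7, 50] * sig [30, 58, 74, 102, 110, 124] = sig [10, 35] ∧ sig [10, 35] * sig [7, 50] = sig [30, 58, 74, 102, 110, 124] ∧ sig [7, 50] * sig [10, 35] = sig [30, 58, 74, 102, 110, 124] :=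
  triple (sig_sq s_sq _) (sig_sq s_sq _) (sig_sq s_sq _) line49

theorem comm7_8 : Commute (sig [7, 50]) (sig [10, 35]) :=
  (rel49.2.2.2.2).trans (rel49.2.2.2.1).symm

theorem line50 : sig [17, 35] * sig [9, 36, 65] = sig [7, 50] := by
  have h := sig_line_shift tline0 [21, 39, 68, 78, 103, 110, 121]
  rwa [(sig_congr cList_comm (g := [17, 35]) (g' := [21, 39, 68, 78, 103, 110, 121]) [3, 2, 3, 3, 0, 3, 0, 3, 3, 2, 3, 0] (by decide +kernel)), (sig_congr cList_comm (g := [9, 36, 65]) (g' := ([21, 39, 68, 78, 103, 110, 121] ++ [10])) [3, 0, 3, 2, 3, 3, 2, 1, 2, 3] (by decide +kernel)),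
    (sig_congr cList_comm (g := [7, 50]) (g' := ([21, 39, 68, 78, 103, 110, 121] ++ [21, 35, 65])) [2, 3, 2, 3, 2, 1, 1, 1, 0, 1, 0, 1, 0] (by decide +kernel))] at h

theorem rel50 : sig [9, 36, 65] * sig [17, 35] = sig [7, 50] ∧ sig [17, 35] * sig [7, 50] = sig [9, 36, 65] ∧
    sig [7, 50] * sig [17, 35] = sig [9, 36, 65] ∧ sig [9, 36, 65] * sig [7, 50] = sig [17, 35] ∧ sig [7, 50] * sig [9, 36, 65] = sig [17, 35] :=
  triple (sig_sq s_sq _) (sig_sq s_sq _) (sig_sq s_sq _) line50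

theorem comm7_9 : Commute (sig [7, 50]) (sig [17, 35]) :=
  (rel50.2.2.1).trans (rel50.2.1).symm

theorem line51 : sig [24, 67] * sig [22, 34] = sig [7, 50] := by
  have h := sig_line_shift tline0 [11, 35, 53, 85, 97, 115]
  rwa [(sig_congr cList_comm (g := [24, 67]) (g' := [11, 35, 53, 85, 97, 115]) [1, 1, 0, 1, 0, 1, 2, 3, 3, 3, 0] (by decide +kernel)), (sig_congr cList_comm (g := [22, 34]) (g' := ([11, 35, 53, 85, 97, 115] ++ [10])) [0, 3, 3, 0, 3, 2, 3, 2, 3, 0, 1, 2] (by decide +kernel)),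
    (sig_congr cList_comm (g := [7, 50]) (g' := ([11, 35, 53, 85, 97, 115] ++ [21, 35, 65])) [3, 2, 1, 2, 1, 1, 0, 1, 1, 1, 1, 1, 1, 0] (by decide +kernel))] at h

theorem rel51 : sig [22, 34] * sig [24, 67] = sig [7, 50] ∧ sig [24, 67] * sig [7, 50] = sig [22, 34] ∧
    sig [7, 50] * sig [24, 67] = sig [22, 34] ∧ sig [22, 34] * sig [7, 50] = sig [24, 67] ∧ sig [7, 50] * sig [22, 34] = sig [24, 67] :=
  triple (sig_sq s_sq _) (sig_sq s_sq _) (sig_sq s_sq _) line51

theorem comm7_10 : Commute (sig [7, 50]) (sig [22, 34]) :=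
  (rel51.2.2.2.2).trans (rel51.2.2.2.1).symm

theorem line52 : sig [17, 35] * sig [8, 34, 51, 87, 90, 110, 111] = sig [10, 35] := by
  have h := sig_line_shift tline0 [12, 47, 67, 86, 108, 109, 112]
  rwa [(sig_congr cList_comm (g := [17, 35]) (g' := [12, 47, 67, 86, 108, 109, 112]) [2, 1, 1, 1, 1, 0, 1, 1, 1, 2, 3, 3, 2] (by decide +kernel)), (sig_congr cList_comm (g := [8, 34, 51, 87, 90, 110, 111]) (g' := ([12, 47, 67, 86, 108, 109, 112] ++ [10])) [1, 0, 1, 0, 3, 2, 3, 0, 1, 0, 1, 2, 3, 0] (by decide +kernel)),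
    (sig_congr cList_comm (g := [10, 35]) (g' := ([12, 47, 67, 86, 108, 109, 112] ++ [21, 35, 65])) [1, 0, 3, 2, 1, 1, 2, 1, 1, 0, 1, 1, 2] (by decide +kernel))] at h

theorem rel52 : sig [8, 34, 51, 87, 90, 110, 111] * sig [17, 35] = sig [10, 35] ∧ sig [17, 35] * sig [10, 35] = sig [8, 34, 51, 87, 90, 110, 111] ∧
    sig [10, 35] * sig [17, 35] = sig [8, 34, 51, 87, 90, 110, 111] ∧ sig [8, 34, 51, 87, 90, 110, 111] * sig [10, 35] = sig [17, 35] ∧ sig [10, 35] * sig [8, 34, 51, 87, 90, 110, 111] = sig [17, 35] :=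
  triple (sig_sq s_sq _) (sig_sq s_sq _) (sig_sq s_sq _) line52

theorem comm8_9 : Commute (sig [10, 35]) (sig [17, 35]) :=
  (rel52.2.2.1).trans (rel52.2.1).symm

theorem line53 : sig [7, 67] * sig [22, 34] = sig [10, 35] := by
  have h := sig_line_shift tline0 [10, 43, 66, 81, 108, 110, 118]
  rwa [(sig_congr cList_comm (g := [7, 67]) (g' := [10, 43, 66, 81, 108, 110, 118]) [1, 0, 3, 3, 3, 0, 1, 2, 1, 1, 0, 3, 0] (by decide +kernel)), (sig_congr cList_comm (g := [22, 34]) (g' := ([10, 43, 66, 81, 108, 110, 118] ++ [10])) [0, 1, 1, 0, 3, 2, 3, 3, 0, 1, 2] (by decide +kernel)),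
    (sig_congr cList_comm (g := [10, 35]) (g' := ([10, 43, 66, 81, 108, 110, 118] ++ [21, 35, 65])) [3, 0, 3, 0, 3, 3, 3, 3, 3, 0] (by decide +kernel))] at h

theorem rel53 : sig [22, 34] * sig [7, 67] = sig [10, 35] ∧ sig [7, 67] * sig [10, 35] = sig [22, 34] ∧
    sig [10, 35] * sig [7, 67] = sig [22, 34] ∧ sig [22, 34] * sig [10, 35] = sig [7, 67] ∧ sig [10, 35] * sig [22, 34] = sig [7, 67] :=
  triple (sig_sq s_sq _) (sig_sq s_sq _) (sig_sq s_sq _) line53

theorem comm8_10 : Commute (sig [10, 35]) (sig [22, 34]) :=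
  (rel53.2.2.2.2).trans (rel53.2.2.2.1).symm

theorem line54 : sig [22, 34] * sig [17, 35] = sig [21, 44, 58] := by
  have h := sig_line_shift tline0 [8, 35, 51, 82, 101, 110, 121]
  rwa [(sig_congr cList_comm (g := [22, 34]) (g' := [8, 35, 51, 82, 101, 110, 121]) [3, 2, 3, 0, 1, 1, 0, 3, 3, 3, 2, 3, 3] (by decide +kernel)), (sig_congr cList_comm (g := [17, 35]) (g' := ([8, 35, 51, 82, 101, 110, 121] ++ [10])) [1, 0, 3, 3, 2, 1, 1, 2, 1, 1, 2, 3, 3] (by decide +kernel)),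
    (sig_congr cList_comm (g := [21, 44, 58]) (g' := ([8, 35, 51, 82, 101, 110, 121] ++ [21, 35, 65])) [3, 0, 3, 3, 2, 3, 2, 3, 3, 3, 2, 3] (by decide +kernel))] at h

theorem rel54 : sig [17, 35] * sig [22, 34] = sig [21, 44, 58] ∧ sig [22, 34] * sig [21, 44, 58] = sig [17, 35] ∧
    sig [21, 44, 58] * sig [22, 34] = sig [17, 35] ∧ sig [17, 35] * sig [21, 44, 58] = sig [22, 34] ∧ sig [21, 44, 58] * sig [17, 35] = sig [22, 34] :=
  triple (sig_sq s_sq _) (sig_sq s_sq _) (sig_sq s_sq _) line54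

theorem comm9_10 : Commute (sig [17, 35]) (sig [22, 34]) :=
  (rel54.1).trans (line54).symm

/-- Eleven conjugates. -/
def bList : List Cfsg.Spor.J4 := [sig [], sig [10], sig [17], sig [6], sig [50], sig [35], sig [67], sig [7, 50], sig [10, 35], sig [17, 35], sig [22, 34]]

theorem bList_sq : ∀ a ∈ bList, a * a = 1 := by
  simp only [bList, List.forall_mem_cons, List.not_mem_nil, IsEmpty.forall_iff, implies_true, and_true]
  exact ⟨sig_sq s_sq _, sig_sq s_sq _, sig_sq s_sq _, sig_sq s_sq _, sig_sq s_sq _, sig_sq s_sq _, sig_sq s_sq _, sig_sq s_sq _, sig_sq s_sq _, sig_sq s_sq _, sig_sq s_sq _⟩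

theorem commAll0 : ∀ b ∈ bList, Commute (sig []) b := by
  simp only [bList, List.forall_mem_cons, List.not_mem_nil, IsEmpty.forall_iff, implies_true, and_true]
  exact ⟨Commute.refl _, comm0_1, comm0_2, comm0_3, comm0_4, comm0_5, comm0_6, comm0_7, comm0_8, comm0_9, comm0_10⟩

theorem commAll1 : ∀ b ∈ bList, Commute (sig [10]) b := by
  simp only [bList, List.forall_mem_cons, List.not_mem_nil, IsEmpty.forall_iff, implies_true, and_true]
  exact ⟨comm0_1.symm, Commute.refl _, comm1_2, comm1_3, comm1_4, comm1_5, comm1_6, comm1_7, comm1_8, comm1_9, comm1_10⟩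

theorem commAll2 : ∀ b ∈ bList, Commute (sig [17]) b := by
  simp only [bList, List.forall_mem_cons, List.not_mem_nil, IsEmpty.forall_iff, implies_true, and_true]
  exact ⟨comm0_2.symm, comm1_2.symm, Commute.refl _, comm2_3, comm2_4, comm2_5, comm2_6, comm2_7, comm2_8, comm2_9, comm2_10⟩

theorem commAll3 : ∀ b ∈ bList, Commute (sig [6]) b := by
  simp only [bList, List.forall_mem_cons, List.not_mem_nil, IsEmpty.forall_iff, implies_true, and_true]
  exact ⟨comm0_3.symm, comm1_3.symm, comm2_3.symm, Commute.refl _, comm3_4, comm3_5, comm3_6, comm3_7, comm3_8, comm3_9, comm3_10⟩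

theorem commAll4 : ∀ b ∈ bList, Commute (sig [50]) b := by
  simp only [bList, List.forall_mem_cons, List.not_mem_nil, IsEmpty.forall_iff, implies_true, and_true]
  exact ⟨comm0_4.symm, comm1_4.symm, comm2_4.symm, comm3_4.symm, Commute.refl _, comm4_5, comm4_6, comm4_7, comm4_8, comm4_9, comm4_10⟩

theorem commAll5 : ∀ b ∈ bList, Commute (sig [35]) b := by
  simp only [bList, List.forall_mem_cons, List.not_mem_nil, IsEmpty.forall_iff, implies_true, and_true]
  exact ⟨comm0_5.symm, comm1_5.symm, comm2_5.symm, comm3_5.symm, comm4_5.symm, Commute.refl _, comm5_6, comm5_7, comm5_8, comm5_9, comm5_10⟩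

theorem commAll6 : ∀ b ∈ bList, Commute (sig [67]) b := by
  simp only [bList, List.forall_mem_cons, List.not_mem_nil, IsEmpty.forall_iff, implies_true, and_true]
  exact ⟨comm0_6.symm, comm1_6.symm, comm2_6.symm, comm3_6.symm, comm4_6.symm, comm5_6.symm, Commute.refl _, comm6_7, comm6_8, comm6_9, comm6_10⟩

theorem commAll7 : ∀ b ∈ bList, Commute (sig [7, 50]) b := by
  simp only [bList, List.forall_mem_cons, List.not_mem_nil, IsEmpty.forall_iff, implies_true, and_true]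
  exact ⟨comm0_7.symm, comm1_7.symm, comm2_7.symm, comm3_7.symm, comm4_7.symm, comm5_7.symm, comm6_7.symm, Commute.refl _, comm7_8, comm7_9, comm7_10⟩

theorem commAll8 : ∀ b ∈ bList, Commute (sig [10, 35]) b := by
  simp only [bList, List.forall_mem_cons, List.not_mem_nil, IsEmpty.forall_iff, implies_true, and_true]
  exact ⟨comm0_8.symm, comm1_8.symm, comm2_8.symm, comm3_8.symm, comm4_8.symm, comm5_8.symm, comm6_8.symm, comm7_8.symm, Commute.refl _, comm8_9, comm8_10⟩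

theorem commAll9 : ∀ b ∈ bList, Commute (sig [17, 35]) b := by
  simp only [bList, List.forall_mem_cons, List.not_mem_nil, IsEmpty.forall_iff, implies_true, and_true]
  exact ⟨comm0_9.symm, comm1_9.symm, comm2_9.symm, comm3_9.symm, comm4_9.symm, comm5_9.symm, comm6_9.symm, comm7_9.symm, comm8_9.symm, Commute.refl _, comm9_10⟩

theorem commAll10 : ∀ b ∈ bList, Commute (sig [22, 34]) b := by
  simp only [bList, List.forall_mem_cons, List.not_mem_nil, IsEmpty.forall_iff, implies_true, and_true]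
  exact ⟨comm0_10.symm, comm1_10.symm, comm2_10.symm, comm3_10.symm, comm4_10.symm, comm5_10.symm, comm6_10.symm, comm7_10.symm, comm8_10.symm, comm9_10.symm, Commute.refl _⟩

theorem bList_comm : ∀ a ∈ bList, ∀ b ∈ bList, Commute a b := by
  intro a ha
  simp only [bList, List.mem_cons, List.not_mem_nil, or_false] at ha
  rcases ha with rfl | rfl | rfl | rfl | rfl | rfl | rfl | rfl | rfl | rfl | rfl
  · exact commAll0
  · exact commAll1
  · exact commAll2
  · exact commAll3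
  · exact commAll4
  · exact commAll5
  · exact commAll6
  · exact commAll7
  · exact commAll8
  · exact commAll9
  · exact commAll10

theorem der0 : sig [] = bitProd bList 1 := by
  simp [bList, bitProd, Nat.testBit]

theorem der1 : sig [10] = bitProd bList 2 := by
  simp [bList, bitProd, Nat.testBit]

theorem der2 : sig [17] = bitProd bList 4 := by
  simp [bList, bitProd, Nat.testBit]

theorem der3 : sig [17, 35] = bitProd bList 512 := by
  simp [bList, bitProd, Nat.testBit]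

theorem der4 : sig [18, 37] = bitProd bList 514 := by
  rw [← line17, der1, der3, ← bitProd_xor bList_sq bList_comm]
  rfl

theorem line55 : sig [17] * sig [12, 42, 67, 80, 92, 110, 119] = sig [18, 37] := by
  have h := sig_line_shift tline0 [9, 38, 54, 72, 103, 110, 125]
  rwa [(sig_congr cList_comm (g := [17]) (g' := [9, 38, 54, 72, 103, 110, 125]) [2, 3, 3, 0, 3, 3, 3, 3, 0, 3, 0, 1] (by decide +kernel)), (sig_congr cList_comm (g := [12, 42, 67, 80, 92, 110, 119]) (g' := ([9, 38, 54, 72, 103, 110, 125] ++ [10])) [3, 2, 1, 1, 1, 2, 3, 3, 2, 1, 2, 1, 1] (by decide +kernel)),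
    (sig_congr cList_comm (g := [18, 37]) (g' := ([9, 38, 54, 72, 103, 110, 125] ++ [21, 35, 65])) [3, 2, 3, 3, 3, 0, 3, 3, 0, 3, 2] (by decide +kernel))] at h

theorem rel55 : sig [12, 42, 67, 80, 92, 110, 119] * sig [17] = sig [18, 37] ∧ sig [17] * sig [18, 37] = sig [12, 42, 67, 80, 92, 110, 119] ∧
    sig [18, 37] * sig [17] = sig [12, 42, 67, 80, 92, 110, 119] ∧ sig [12, 42, 67, 80, 92, 110, 119] * sig [18, 37] = sig [17] ∧ sig [18, 37] * sig [12, 42, 67, 80, 92, 110, 119] = sig [17] :=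
  triple (sig_sq s_sq _) (sig_sq s_sq _) (sig_sq s_sq _) line55

theorem der5 : sig [12, 42, 67, 80, 92, 110, 119] = bitProd bList 518 := by
  rw [← rel55.2.1, der2, der4, ← bitProd_xor bList_sq bList_comm]
  rfl

theorem der6 : sig [35] = bitProd bList 32 := by
  simp [bList, bitProd, Nat.testBit]

theorem line56 : sig [12, 42, 67, 80, 92, 110, 119] * sig [26] = sig [35] := by
  have h := sig_line_shift tline0 [15, 32, 52, 83, 91, 110, 111]
  rwa [(sig_congr cList_comm (g := [12, 42, 67, 80, 92, 110, 119]) (g' := [15, 32, 52, 83, 91, 110, 111]) [2, 1, 1, 2, 1, 0, 3, 3, 0, 3, 2, 1, 2] (by decide +kernel)), (sig_congr cList_comm (g := [26]) (g' := ([15, 32, 52, 83, 91, 110, 111] ++ [10])) [1, 1, 0, 3, 3, 3, 2, 3, 3, 3, 3] (by decide +kernel)),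
    (sig_congr cList_comm (g := [35]) (g' := ([15, 32, 52, 83, 91, 110, 111] ++ [21, 35, 65])) [3, 0, 1, 2, 1, 0, 3, 2, 3, 2, 1, 1, 1] (by decide +kernel))] at h

theorem rel56 : sig [26] * sig [12, 42, 67, 80, 92, 110, 119] = sig [35] ∧ sig [12, 42, 67, 80, 92, 110, 119] * sig [35] = sig [26] ∧
    sig [35] * sig [12, 42, 67, 80, 92, 110, 119] = sig [26] ∧ sig [26] * sig [35] = sig [12, 42, 67, 80, 92, 110, 119] ∧ sig [35] * sig [26] = sig [12, 42, 67, 80, 92, 110, 119] :=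
  triple (sig_sq s_sq _) (sig_sq s_sq _) (sig_sq s_sq _) line56

theorem der7 : sig [26] = bitProd bList 550 := by
  rw [← rel56.2.1, der5, der6, ← bitProd_xor bList_sq bList_comm]
  rfl

theorem der8 : sig [7, 50] = bitProd bList 128 := by
  simp [bList, bitProd, Nat.testBit]

theorem der9 : sig [6] = bitProd bList 8 := by
  simp [bList, bitProd, Nat.testBit]

theorem der10 : sig [16, 37] = bitProd bList 136 := by
  rw [← rel30.2.1, der8, der9, ← bitProd_xor bList_sq bList_comm]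
  rfl

theorem line57 : sig [16, 37] * sig [35] = sig [12] := by
  have h := sig_line_shift tline0 [9, 44, 60, 79, 93, 123]
  rwa [(sig_congr cList_comm (g := [16, 37]) (g' := [9, 44, 60, 79, 93, 123]) [0, 1, 1, 2, 3, 2, 3, 0, 1, 0] (by decide +kernel)), (sig_congr cList_comm (g := [35]) (g' := ([9, 44, 60, 79, 93, 123] ++ [10])) [0, 1, 2, 1, 1, 1, 2, 3, 2, 1, 2, 1] (by decide +kernel)),
    (sig_congr cList_comm (g := [12]) (g' := ([9, 44, 60, 79, 93, 123] ++ [21, 35, 65])) [3, 0, 1, 0, 3, 2, 1, 1, 1, 2, 3] (by decide +kernel))] at h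

theorem rel57 : sig [35] * sig [16, 37] = sig [12] ∧ sig [16, 37] * sig [12] = sig [35] ∧
    sig [12] * sig [16, 37] = sig [35] ∧ sig [35] * sig [12] = sig [16, 37] ∧ sig [12] * sig [35] = sig [16, 37] :=
  triple (sig_sq s_sq _) (sig_sq s_sq _) (sig_sq s_sq _) line57

theorem der11 : sig [12] = bitProd bList 168 := by
  rw [← line57, der10, der6, ← bitProd_xor bList_sq bList_comm]
  rfl

theorem der12 : sig [67] = bitProd bList 64 := by
  simp [bList, bitProd, Nat.testBit]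

theorem der13 : sig [50] = bitProd bList 16 := by
  simp [bList, bitProd, Nat.testBit]

theorem der14 : sig [22, 34] = bitProd bList 1024 := by
  simp [bList, bitProd, Nat.testBit]

theorem der15 : sig [15, 31, 50] = bitProd bList 1026 := by
  rw [← rel18.2.1, der1, der14, ← bitProd_xor bList_sq bList_comm]
  rfl

theorem line58 : sig [50] * sig [15, 34, 60, 85, 93] = sig [15, 31, 50] := by
  have h := sig_line_shift tline0 [7, 47, 53, 85, 91, 110, 113]
  rwa [(sig_congr cList_comm (g := [50]) (g' := [7, 47, 53, 85, 91, 110, 113]) [3, 3, 3, 2, 1, 1, 1, 2] (by decide +kernel)), (sig_congr cList_comm (g := [15, 34, 60, 85, 93]) (g' := ([7, 47, 53, 85, 91, 110, 113] ++ [10])) [2, 3, 3, 3, 3, 0, 3, 0, 1, 1, 1] (by decide +kernel)),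
    (sig_congr cList_comm (g := [15, 31, 50]) (g' := ([7, 47, 53, 85, 91, 110, 113] ++ [21, 35, 65])) [2, 1, 2, 3, 0, 1, 1, 2, 1, 1, 1, 0] (by decide +kernel))] at h

theorem rel58 : sig [15, 34, 60, 85, 93] * sig [50] = sig [15, 31, 50] ∧ sig [50] * sig [15, 31, 50] = sig [15, 34, 60, 85, 93] ∧
    sig [15, 31, 50] * sig [50] = sig [15, 34, 60, 85, 93] ∧ sig [15, 34, 60, 85, 93] * sig [15, 31, 50] = sig [50] ∧ sig [15, 31, 50] * sig [15, 34, 60, 85, 93] = sig [50] :=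
  triple (sig_sq s_sq _) (sig_sq s_sq _) (sig_sq s_sq _) line58

theorem der16 : sig [15, 34, 60, 85, 93] = bitProd bList 1042 := by
  rw [← rel58.2.1, der13, der15, ← bitProd_xor bList_sq bList_comm]
  rfl

theorem line59 : sig [10, 50] * sig [67] = sig [15, 34, 60, 85, 93] := by
  have h := sig_line_shift tline0 [8, 47, 56, 82, 91, 110, 118]
  rwa [(sig_congr cList_comm (g := [10, 50]) (g' := [8, 47, 56, 82, 91, 110, 118]) [2, 1, 0, 1, 0, 1, 0, 1, 1, 2, 1] (by decide +kernel)), (sig_congr cList_comm (g := [67]) (g' := ([8, 47, 56, 82, 91, 110, 118] ++ [10])) [1, 1, 2, 1, 0, 1, 2, 1, 1, 0, 1] (by decide +kernel)),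
    (sig_congr cList_comm (g := [15, 34, 60, 85, 93]) (g' := ([8, 47, 56, 82, 91, 110, 118] ++ [21, 35, 65])) [1, 2, 1, 2, 3, 2, 1, 0, 1, 1, 0, 1, 0] (by decide +kernel))] at h

theorem rel59 : sig [67] * sig [10, 50] = sig [15, 34, 60, 85, 93] ∧ sig [10, 50] * sig [15, 34, 60, 85, 93] = sig [67] ∧
    sig [15, 34, 60, 85, 93] * sig [10, 50] = sig [67] ∧ sig [67] * sig [15, 34, 60, 85, 93] = sig [10, 50] ∧ sig [15, 34, 60, 85, 93] * sig [67] = sig [10, 50] :=
  triple (sig_sq s_sq _) (sig_sq s_sq _) (sig_sq s_sq _) line59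

theorem der17 : sig [10, 50] = bitProd bList 1106 := by
  rw [← rel59.2.2.2.1, der12, der16, ← bitProd_xor bList_sq bList_comm]
  rfl

theorem der18 : sig [10, 35] = bitProd bList 256 := by
  simp [bList, bitProd, Nat.testBit]

theorem der19 : sig [14, 44, 65] = bitProd bList 129 := by
  rw [← rel6.2.1, der0, der8, ← bitProd_xor bList_sq bList_comm]
  rfl

theorem line60 : sig [10] * sig [14, 44, 65] = sig [10, 35, 49, 83, 96, 110, 118] := by
  have h := sig_line_shift tline0 [36, 49, 81, 98, 109, 117]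
  rwa [(sig_congr cList_comm (g := [10]) (g' := [36, 49, 81, 98, 109, 117]) [1, 2, 3, 2, 3, 2, 1, 0, 1, 2, 3, 2] (by decide +kernel)), (sig_congr cList_comm (g := [14, 44, 65]) (g' := ([36, 49, 81, 98, 109, 117] ++ [10])) [0, 1, 2, 3, 2, 3, 3, 3, 3, 3, 2] (by decide +kernel)),
    (sig_congr cList_comm (g := [10, 35, 49, 83, 96, 110, 118]) (g' := ([36, 49, 81, 98, 109, 117] ++ [21, 35, 65])) [1, 0, 3, 0, 1, 0, 3, 3, 2, 1, 0, 1] (by decide +kernel))] at h

theorem rel60 : sig [14, 44, 65] * sig [10] = sig [10, 35, 49, 83, 96, 110, 118] ∧ sig [10] * sig [10, 35, 49, 83, 96, 110, 118] = sig [14, 44, 65] ∧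
    sig [10, 35, 49, 83, 96, 110, 118] * sig [10] = sig [14, 44, 65] ∧ sig [14, 44, 65] * sig [10, 35, 49, 83, 96, 110, 118] = sig [10] ∧ sig [10, 35, 49, 83, 96, 110, 118] * sig [14, 44, 65] = sig [10] :=
  triple (sig_sq s_sq _) (sig_sq s_sq _) (sig_sq s_sq _) line60

theorem der20 : sig [10, 35, 49, 83, 96, 110, 118] = bitProd bList 131 := by
  rw [← line60, der1, der19, ← bitProd_xor bList_sq bList_comm]
  rfl

theorem line61 : sig [35] * sig [10, 35, 49, 83, 96, 110, 118] = sig [7, 38, 67, 85] := by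
  have h := sig_line_shift tline0 [9, 37, 56, 79, 91, 110, 125]
  rwa [(sig_congr cList_comm (g := [35]) (g' := [9, 37, 56, 79, 91, 110, 125]) [1, 0, 1, 2, 3, 3, 0, 3, 2, 3, 0, 1, 1, 1] (by decide +kernel)), (sig_congr cList_comm (g := [10, 35, 49, 83, 96, 110, 118]) (g' := ([9, 37, 56, 79, 91, 110, 125] ++ [10])) [1, 2, 1, 2, 3, 0, 3, 3, 0, 1, 2, 3, 0] (by decide +kernel)),
    (sig_congr cList_comm (g := [7, 38, 67, 85]) (g' := ([9, 37, 56, 79, 91, 110, 125] ++ [21, 35, 65])) [3, 2, 3, 0, 1, 2, 1, 1, 2, 3] (by decide +kernel))] at h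

theorem rel61 : sig [10, 35, 49, 83, 96, 110, 118] * sig [35] = sig [7, 38, 67, 85] ∧ sig [35] * sig [7, 38, 67, 85] = sig [10, 35, 49, 83, 96, 110, 118] ∧
    sig [7, 38, 67, 85] * sig [35] = sig [10, 35, 49, 83, 96, 110, 118] ∧ sig [10, 35, 49, 83, 96, 110, 118] * sig [7, 38, 67, 85] = sig [35] ∧ sig [7, 38, 67, 85] * sig [10, 35, 49, 83, 96, 110, 118] = sig [35] :=
  triple (sig_sq s_sq _) (sig_sq s_sq _) (sig_sq s_sq _) line61

theorem der21 : sig [7, 38, 67, 85] = bitProd bList 163 := by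
  rw [← line61, der6, der20, ← bitProd_xor bList_sq bList_comm]
  rfl

theorem line62 : sig [10, 67] * sig [7, 38, 67, 85] = sig [67] := by
  have h := sig_line_shift tline0 [5, 34, 58, 86, 108, 120]
  rwa [(sig_congr cList_comm (g := [10, 67]) (g' := [5, 34, 58, 86, 108, 120]) [0, 3, 2, 3, 0, 3, 2, 1, 2, 1, 2, 1] (by decide +kernel)), (sig_congr cList_comm (g := [7, 38, 67, 85]) (g' := ([5, 34, 58, 86, 108, 120] ++ [10])) [2, 1, 1, 1, 2, 1, 0, 3, 0, 1, 0, 1, 1, 0] (by decide +kernel)),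
    (sig_congr cList_comm (g := [67]) (g' := ([5, 34, 58, 86, 108, 120] ++ [21, 35, 65])) [0, 3, 0, 1, 0, 3, 2, 3, 3, 0, 3, 3] (by decide +kernel))] at h

theorem rel62 : sig [7, 38, 67, 85] * sig [10, 67] = sig [67] ∧ sig [10, 67] * sig [67] = sig [7, 38, 67, 85] ∧
    sig [67] * sig [10, 67] = sig [7, 38, 67, 85] ∧ sig [7, 38, 67, 85] * sig [67] = sig [10, 67] ∧ sig [67] * sig [7, 38, 67, 85] = sig [10, 67] :=
  triple (sig_sq s_sq _) (sig_sq s_sq _) (sig_sq s_sq _) line62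

theorem der22 : sig [10, 67] = bitProd bList 227 := by
  rw [← rel62.2.2.2.1, der21, der12, ← bitProd_xor bList_sq bList_comm]
  rfl

theorem der23 : sig [17, 37] = bitProd bList 288 := by
  rw [← rel42.2.1, der6, der18, ← bitProd_xor bList_sq bList_comm]
  rfl

theorem line63 : sig [24, 50] * sig [17, 37] = sig [7, 50] := by
  have h := sig_line_shift tline0 [4, 42, 61, 71, 101, 109, 114]
  rwa [(sig_congr cList_comm (g := [24, 50]) (g' := [4, 42, 61, 71, 101, 109, 114]) [0, 1, 1, 2, 1, 2, 3, 3, 3, 0, 1, 0] (by decide +kernel)), (sig_congr cList_comm (g := [17, 37]) (g' := ([4, 42, 61, 71, 101, 109, 114] ++ [10])) [3, 3, 3, 0, 1, 1, 2, 3, 0, 1, 0] (by decide +kernel)),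
    (sig_congr cList_comm (g := [7, 50]) (g' := ([4, 42, 61, 71, 101, 109, 114] ++ [21, 35, 65])) [1, 0, 3, 3, 0, 3, 0, 3, 0, 1, 1, 2] (by decide +kernel))] at h

theorem rel63 : sig [17, 37] * sig [24, 50] = sig [7, 50] ∧ sig [24, 50] * sig [7, 50] = sig [17, 37] ∧
    sig [7, 50] * sig [24, 50] = sig [17, 37] ∧ sig [17, 37] * sig [7, 50] = sig [24, 50] ∧ sig [7, 50] * sig [17, 37] = sig [24, 50] :=
  triple (sig_sq s_sq _) (sig_sq s_sq _) (sig_sq s_sq _) line63

theorem der24 : sig [24, 50] = bitProd bList 416 := by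
  rw [← rel63.2.2.2.1, der23, der8, ← bitProd_xor bList_sq bList_comm]
  rfl

theorem der25 : sig [25, 47, 73, 96, 114] = bitProd bList 257 := by
  rw [← line7, der18, der0, ← bitProd_xor bList_sq bList_comm]
  rfl

theorem line64 : sig [10] * sig [25, 47, 73, 96, 114] = sig [21, 28, 65] := by
  have h := sig_line_shift tline0 [25, 53, 74]
  rwa [(sig_congr cList_comm (g := [10]) (g' := [25, 53, 74]) [1, 1, 1, 1, 1, 0, 1, 1, 2, 3, 3, 2] (by decide +kernel)), (sig_congr cList_comm (g := [25, 47, 73, 96, 114]) (g' := ([25, 53, 74] ++ [10])) [1, 2, 1, 0, 3, 3, 2, 3, 2, 1, 1] (by decide +kernel)),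
    (sig_congr cList_comm (g := [21, 28, 65]) (g' := ([25, 53, 74] ++ [21, 35, 65])) [0, 3, 3, 0, 3, 3, 0, 3, 3, 0, 3] (by decide +kernel))] at h

theorem rel64 : sig [25, 47, 73, 96, 114] * sig [10] = sig [21, 28, 65] ∧ sig [10] * sig [21, 28, 65] = sig [25, 47, 73, 96, 114] ∧
    sig [21, 28, 65] * sig [10] = sig [25, 47, 73, 96, 114] ∧ sig [25, 47, 73, 96, 114] * sig [21, 28, 65] = sig [10] ∧ sig [21, 28, 65] * sig [25, 47, 73, 96, 114] = sig [10] :=
  triple (sig_sq s_sq _) (sig_sq s_sq _) (sig_sq s_sq _) line64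

theorem der26 : sig [21, 28, 65] = bitProd bList 259 := by
  rw [← line64, der1, der25, ← bitProd_xor bList_sq bList_comm]
  rfl

theorem line65 : sig [19, 41, 63, 80, 95] * sig [21, 28, 65] = sig [35] := by
  have h := sig_line_shift tline0 [7, 43, 52, 72, 100, 109, 122]
  rwa [(sig_congr cList_comm (g := [19, 41, 63, 80, 95]) (g' := [7, 43, 52, 72, 100, 109, 122]) [3, 0, 1, 0, 1, 2, 1, 0, 1, 1, 0] (by decide +kernel)), (sig_congr cList_comm (g := [21, 28, 65]) (g' := ([7, 43, 52, 72, 100, 109, 122] ++ [10])) [1, 2, 3, 3, 0, 3, 0, 3, 0, 3, 3, 3, 0] (by decide +kernel)),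
    (sig_congr cList_comm (g := [35]) (g' := ([7, 43, 52, 72, 100, 109, 122] ++ [21, 35, 65])) [3, 3, 0, 1, 2, 3, 2, 3, 3, 3, 2, 3, 0] (by decide +kernel))] at h

theorem rel65 : sig [21, 28, 65] * sig [19, 41, 63, 80, 95] = sig [35] ∧ sig [19, 41, 63, 80, 95] * sig [35] = sig [21, 28, 65] ∧
    sig [35] * sig [19, 41, 63, 80, 95] = sig [21, 28, 65] ∧ sig [21, 28, 65] * sig [35] = sig [19, 41, 63, 80, 95] ∧ sig [35] * sig [21, 28, 65] = sig [19, 41, 63, 80, 95] :=
  triple (sig_sq s_sq _) (sig_sq s_sq _) (sig_sq s_sq _) line65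

theorem der27 : sig [19, 41, 63, 80, 95] = bitProd bList 291 := by
  rw [← rel65.2.2.2.1, der26, der6, ← bitProd_xor bList_sq bList_comm]
  rfl

theorem line66 : sig [17, 35] * sig [19, 41, 63, 80, 95] = sig [26, 35] := by
  have h := sig_line_shift tline0 [21, 44, 52, 107, 114]
  rwa [(sig_congr cList_comm (g := [17, 35]) (g' := [21, 44, 52, 107, 114]) [1, 2, 3, 3, 2, 3, 0, 3, 2, 1, 0, 1] (by decide +kernel)), (sig_congr cList_comm (g := [19, 41, 63, 80, 95]) (g' := ([21, 44, 52, 107, 114] ++ [10])) [2, 1, 0, 3, 0, 1, 2, 1, 2, 1, 2, 3, 2] (by decide +kernel)),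
    (sig_congr cList_comm (g := [26, 35]) (g' := ([21, 44, 52, 107, 114] ++ [21, 35, 65])) [1, 1, 0, 3, 2, 1, 2, 1, 0] (by decide +kernel))] at h

theorem rel66 : sig [19, 41, 63, 80, 95] * sig [17, 35] = sig [26, 35] ∧ sig [17, 35] * sig [26, 35] = sig [19, 41, 63, 80, 95] ∧
    sig [26, 35] * sig [17, 35] = sig [19, 41, 63, 80, 95] ∧ sig [19, 41, 63, 80, 95] * sig [26, 35] = sig [17, 35] ∧ sig [26, 35] * sig [19, 41, 63, 80, 95] = sig [17, 35] :=
  triple (sig_sq s_sq _) (sig_sq s_sq _) (sig_sq s_sq _) line66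

theorem der28 : sig [26, 35] = bitProd bList 803 := by
  rw [← line66, der3, der27, ← bitProd_xor bList_sq bList_comm]
  rfl

theorem der29 : sig [42, 67, 85] = bitProd bList 1056 := by
  rw [← line44, der6, der14, ← bitProd_xor bList_sq bList_comm]
  rfl

theorem line67 : sig [4, 34] * sig [7, 50] = sig [42, 67, 85] := by
  have h := sig_line_shift tline0 [9, 45, 52, 70, 99, 121]
  rwa [(sig_congr cList_comm (g := [4, 34]) (g' := [9, 45, 52, 70, 99, 121]) [3, 3, 0, 1, 2, 3, 2, 3, 3, 2, 3, 0] (by decide +kernel)), (sig_congr cList_comm (g := [7, 50]) (g' := ([9, 45, 52, 70, 99, 121] ++ [10])) [3, 2, 3, 0, 1, 1, 0, 3, 2] (by decide +kernel)),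
    (sig_congr cList_comm (g := [42, 67, 85]) (g' := ([9, 45, 52, 70, 99, 121] ++ [21, 35, 65])) [3, 3, 3, 3, 3, 0, 3, 3, 3, 2, 1, 1, 1] (by decide +kernel))] at h

theorem rel67 : sig [7, 50] * sig [4, 34] = sig [42, 67, 85] ∧ sig [4, 34] * sig [42, 67, 85] = sig [7, 50] ∧
    sig [42, 67, 85] * sig [4, 34] = sig [7, 50] ∧ sig [7, 50] * sig [42, 67, 85] = sig [4, 34] ∧ sig [42, 67, 85] * sig [7, 50] = sig [4, 34] :=
  triple (sig_sq s_sq _) (sig_sq s_sq _) (sig_sq s_sq _) line67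

theorem der30 : sig [4, 34] = bitProd bList 1184 := by
  rw [← rel67.2.2.2.1, der8, der29, ← bitProd_xor bList_sq bList_comm]
  rfl

theorem line68 : sig [21, 28, 65] * sig [7, 35] = sig [67] := by
  have h := sig_line_shift tline1 [19, 46, 50, 77, 90, 110, 117]
  rwa [(sig_congr cList_comm (g := [21, 28, 65]) (g' := [19, 46, 50, 77, 90, 110, 117]) [1, 0, 1, 1, 0, 1, 2, 1, 1] (by decide +kernel)), (sig_congr cList_comm (g := [7, 35]) (g' := ([19, 46, 50, 77, 90, 110, 117] ++ [24, 65])) [3, 3, 0, 3, 2, 3, 2, 3, 3, 3, 0, 1, 0] (by decide +kernel)),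
    (sig_congr cList_comm (g := [67]) (g' := ([19, 46, 50, 77, 90, 110, 117] ++ [20, 37, 66, 89, 99, 110, 112])) [2, 3, 2, 1, 2, 3, 0, 3, 3, 2, 1, 1, 2] (by decide +kernel))] at h

theorem rel68 : sig [7, 35] * sig [21, 28, 65] = sig [67] ∧ sig [21, 28, 65] * sig [67] = sig [7, 35] ∧
    sig [67] * sig [21, 28, 65] = sig [7, 35] ∧ sig [7, 35] * sig [67] = sig [21, 28, 65] ∧ sig [67] * sig [7, 35] = sig [21, 28, 65] :=
  triple (sig_sq s_sq _) (sig_sq s_sq _) (sig_sq s_sq _) line68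

theorem der31 : sig [7, 35] = bitProd bList 323 := by
  rw [← rel68.2.1, der26, der12, ← bitProd_xor bList_sq bList_comm]
  rfl

theorem der32 : sig [7, 67] = bitProd bList 1280 := by
  rw [← rel53.2.2.2.1, der14, der18, ← bitProd_xor bList_sq bList_comm]
  rfl

theorem line69 : sig [15, 31, 50] * sig [7, 41, 66, 85, 94, 109, 119] = sig [6] := by
  have h := sig_line_shift tline0 [9, 41, 55, 88, 94]
  rwa [(sig_congr cList_comm (g := [15, 31, 50]) (g' := [9, 41, 55, 88, 94]) [2, 1, 2, 1, 2, 3, 2, 1, 1, 1, 1, 2] (by decide +kernel)), (sig_congr cList_comm (g := [7, 41, 66, 85, 94, 109, 119]) (g' := ([9, 41, 55, 88, 94] ++ [10])) [1, 0, 3, 0, 1, 1, 2, 3, 2, 1, 2] (by decide +kernel)),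
    (sig_congr cList_comm (g := [6]) (g' := ([9, 41, 55, 88, 94] ++ [21, 35, 65])) [1, 2, 1, 2, 3, 3, 0, 3, 3, 2, 3, 0] (by decide +kernel))] at h

theorem rel69 : sig [7, 41, 66, 85, 94, 109, 119] * sig [15, 31, 50] = sig [6] ∧ sig [15, 31, 50] * sig [6] = sig [7, 41, 66, 85, 94, 109, 119] ∧
    sig [6] * sig [15, 31, 50] = sig [7, 41, 66, 85, 94, 109, 119] ∧ sig [7, 41, 66, 85, 94, 109, 119] * sig [6] = sig [15, 31, 50] ∧ sig [6] * sig [7, 41, 66, 85, 94, 109, 119] = sig [15, 31, 50] :=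
  triple (sig_sq s_sq _) (sig_sq s_sq _) (sig_sq s_sq _) line69

theorem der33 : sig [7, 41, 66, 85, 94, 109, 119] = bitProd bList 1034 := by
  rw [← rel69.2.1, der15, der9, ← bitProd_xor bList_sq bList_comm]
  rfl

theorem line70 : sig [8, 29, 52, 76, 91, 110, 113] * sig [7, 41, 66, 85, 94, 109, 119] = sig [67] := by
  have h := sig_line_shift tline0 [23, 47, 62, 76, 106, 109, 120]
  rwa [(sig_congr cList_comm (g := [8, 29, 52, 76, 91, 110, 113]) (g' := [23, 47, 62, 76, 106, 109, 120]) [0, 1, 1, 2, 1, 2, 1, 2, 1, 2, 1] (by decide +kernel)), (sig_congr cList_comm (g := [7, 41, 66, 85, 94, 109, 119]) (g' := ([23, 47, 62, 76, 106, 109, 120] ++ [10])) [1, 1, 0, 3, 3, 2, 3, 3, 3, 0, 1, 2] (by decide +kernel)),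
    (sig_congr cList_comm (g := [67]) (g' := ([23, 47, 62, 76, 106, 109, 120] ++ [21, 35, 65])) [3, 2, 3, 3, 0, 3, 3, 0, 1, 1, 1, 0] (by decide +kernel))] at h

theorem rel70 : sig [7, 41, 66, 85, 94, 109, 119] * sig [8, 29, 52, 76, 91, 110, 113] = sig [67] ∧ sig [8, 29, 52, 76, 91, 110, 113] * sig [67] = sig [7, 41, 66, 85, 94, 109, 119] ∧
    sig [67] * sig [8, 29, 52, 76, 91, 110, 113] = sig [7, 41, 66, 85, 94, 109, 119] ∧ sig [7, 41, 66, 85, 94, 109, 119] * sig [67] = sig [8, 29, 52, 76, 91, 110, 113] ∧ sig [67] * sig [7, 41, 66, 85, 94, 109, 119] = sig [8, 29, 52, 76, 91, 110, 113] :=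
  triple (sig_sq s_sq _) (sig_sq s_sq _) (sig_sq s_sq _) line70

theorem der34 : sig [8, 29, 52, 76, 91, 110, 113] = bitProd bList 1098 := by
  rw [← rel70.2.2.2.1, der33, der12, ← bitProd_xor bList_sq bList_comm]
  rfl

theorem line71 : sig [7, 50] * sig [8, 29, 52, 76, 91, 110, 113] = sig [16, 43, 50] := by
  have h := sig_line_shift tline0 [24, 43, 62, 75, 97, 110, 117]
  rwa [(sig_congr cList_comm (g := [7, 50]) (g' := [24, 43, 62, 75, 97, 110, 117]) [0, 1, 1, 0, 3, 2, 1, 0, 3, 2, 3] (by decide +kernel)), (sig_congr cList_comm (g := [8, 29, 52, 76, 91, 110, 113]) (g' := ([24, 43, 62, 75, 97, 110, 117] ++ [10])) [3, 3, 0, 1, 1, 1, 1, 1, 2] (by decide +kernel)),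
    (sig_congr cList_comm (g := [16, 43, 50]) (g' := ([24, 43, 62, 75, 97, 110, 117] ++ [21, 35, 65])) [0, 3, 3, 3, 3, 3, 2, 3, 0, 1, 0, 3, 2] (by decide +kernel))] at h

theorem rel71 : sig [8, 29, 52, 76, 91, 110, 113] * sig [7, 50] = sig [16, 43, 50] ∧ sig [7, 50] * sig [16, 43, 50] = sig [8, 29, 52, 76, 91, 110, 113] ∧
    sig [16, 43, 50] * sig [7, 50] = sig [8, 29, 52, 76, 91, 110, 113] ∧ sig [8, 29, 52, 76, 91, 110, 113] * sig [16, 43, 50] = sig [7, 50] ∧ sig [16, 43, 50] * sig [8, 29, 52, 76, 91, 110, 113] = sig [7, 50] :=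
  triple (sig_sq s_sq _) (sig_sq s_sq _) (sig_sq s_sq _) line71

theorem der35 : sig [16, 43, 50] = bitProd bList 1226 := by
  rw [← line71, der8, der34, ← bitProd_xor bList_sq bList_comm]
  rfl

theorem line72 : sig [25, 50] * sig [10, 35] = sig [16, 43, 50] := by
  have h := sig_line_shift tline0 [4, 36, 61, 71, 101, 109, 114]
  rwa [(sig_congr cList_comm (g := [25, 50]) (g' := [4, 36, 61, 71, 101, 109, 114]) [1, 0, 1, 1, 0, 1, 2, 3, 2, 3, 3, 2, 1] (by decide +kernel)), (sig_congr cList_comm (g := [10, 35]) (g' := ([4, 36, 61, 71, 101, 109, 114] ++ [10])) [3, 3, 3, 0, 1, 1, 2, 3, 0, 1, 0] (by decide +kernel)),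
    (sig_congr cList_comm (g := [16, 43, 50]) (g' := ([4, 36, 61, 71, 101, 109, 114] ++ [21, 35, 65])) [1, 0, 3, 3, 0, 3, 0, 3, 0, 1, 1, 2] (by decide +kernel))] at h

theorem rel72 : sig [10, 35] * sig [25, 50] = sig [16, 43, 50] ∧ sig [25, 50] * sig [16, 43, 50] = sig [10, 35] ∧
    sig [16, 43, 50] * sig [25, 50] = sig [10, 35] ∧ sig [10, 35] * sig [16, 43, 50] = sig [25, 50] ∧ sig [16, 43, 50] * sig [10, 35] = sig [25, 50] :=
  triple (sig_sq s_sq _) (sig_sq s_sq _) (sig_sq s_sq _) line72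

theorem der36 : sig [25, 50] = bitProd bList 1482 := by
  rw [← rel72.2.2.2.1, der18, der35, ← bitProd_xor bList_sq bList_comm]
  rfl

theorem line73 : sig [17] * sig [14, 44, 65] = sig [6, 45, 56, 84, 96, 120] := by
  have h := sig_line_shift tline0 [36, 60, 87, 102, 110, 113]
  rwa [(sig_congr cList_comm (g := [17]) (g' := [36, 60, 87, 102, 110, 113]) [3, 0, 3, 0, 3, 3, 3, 0, 3, 0] (by decide +kernel)), (sig_congr cList_comm (g := [14, 44, 65]) (g' := ([36, 60, 87, 102, 110, 113] ++ [10])) [2, 1, 1, 0, 3, 0, 1, 0, 3, 3, 3] (by decide +kernel)),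
    (sig_congr cList_comm (g := [6, 45, 56, 84, 96, 120]) (g' := ([36, 60, 87, 102, 110, 113] ++ [21, 35, 65])) [0, 3, 2, 1, 0, 3, 3, 2, 1, 2, 3, 3] (by decide +kernel))] at h

theorem rel73 : sig [14, 44, 65] * sig [17] = sig [6, 45, 56, 84, 96, 120] ∧ sig [17] * sig [6, 45, 56, 84, 96, 120] = sig [14, 44, 65] ∧
    sig [6, 45, 56, 84, 96, 120] * sig [17] = sig [14, 44, 65] ∧ sig [14, 44, 65] * sig [6, 45, 56, 84, 96, 120] = sig [17] ∧ sig [6, 45, 56, 84, 96, 120] * sig [14, 44, 65] = sig [17] :=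
  triple (sig_sq s_sq _) (sig_sq s_sq _) (sig_sq s_sq _) line73

theorem der37 : sig [6, 45, 56, 84, 96, 120] = bitProd bList 133 := by
  rw [← line73, der2, der19, ← bitProd_xor bList_sq bList_comm]
  rfl

theorem line74 : sig [6, 45, 56, 84, 96, 120] * sig [22, 28, 65] = sig [50] := by
  have h := sig_line_shift tline0 [8, 43, 68, 89, 97, 114]
  rwa [(sig_congr cList_comm (g := [6, 45, 56, 84, 96, 120]) (g' := [8, 43, 68, 89, 97, 114]) [0, 3, 0, 3, 0, 1, 2, 3, 2] (by decide +kernel)), (sig_congr cList_comm (g := [22, 28, 65]) (g' := ([8, 43, 68, 89, 97, 114] ++ [10])) [3, 2, 1, 2, 3, 2, 3, 0, 1, 1, 2, 3, 0] (by decide +kernel)),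
    (sig_congr cList_comm (g := [50]) (g' := ([8, 43, 68, 89, 97, 114] ++ [21, 35, 65])) [3, 2, 3, 3, 2, 3, 0, 1, 0, 1, 1, 0] (by decide +kernel))] at h

theorem rel74 : sig [22, 28, 65] * sig [6, 45, 56, 84, 96, 120] = sig [50] ∧ sig [6, 45, 56, 84, 96, 120] * sig [50] = sig [22, 28, 65] ∧
    sig [50] * sig [6, 45, 56, 84, 96, 120] = sig [22, 28, 65] ∧ sig [22, 28, 65] * sig [50] = sig [6, 45, 56, 84, 96, 120] ∧ sig [50] * sig [22, 28, 65] = sig [6, 45, 56, 84, 96, 120] :=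
  triple (sig_sq s_sq _) (sig_sq s_sq _) (sig_sq s_sq _) line74

theorem der38 : sig [22, 28, 65] = bitProd bList 149 := by
  rw [← rel74.2.1, der37, der13, ← bitProd_xor bList_sq bList_comm]
  rfl

theorem line75 : sig [20, 34] * sig [22, 28, 65] = sig [35] := by
  have h := sig_line_shift tline0 [23, 30, 64, 87, 101, 113]
  rwa [(sig_congr cList_comm (g := [20, 34]) (g' := [23, 30, 64, 87, 101, 113]) [3, 2, 1, 2, 3, 3, 0, 1, 2, 1, 1] (by decide +kernel)), (sig_congr cList_comm (g := [22, 28, 65]) (g' := ([23, 30, 64, 87, 101, 113] ++ [10])) [3, 2, 1, 1, 1, 0, 1, 0, 1, 0, 3, 3] (by decide +kernel)),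
    (sig_congr cList_comm (g := [35]) (g' := ([23, 30, 64, 87, 101, 113] ++ [21, 35, 65])) [1, 2, 1, 0, 3, 2, 1, 0, 3, 0, 3, 0] (by decide +kernel))] at h

theorem rel75 : sig [22, 28, 65] * sig [20, 34] = sig [35] ∧ sig [20, 34] * sig [35] = sig [22, 28, 65] ∧
    sig [35] * sig [20, 34] = sig [22, 28, 65] ∧ sig [22, 28, 65] * sig [35] = sig [20, 34] ∧ sig [35] * sig [22, 28, 65] = sig [20, 34] :=
  triple (sig_sq s_sq _) (sig_sq s_sq _) (sig_sq s_sq _) line75

theorem der39 : sig [20, 34] = bitProd bList 181 := by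
  rw [← rel75.2.2.2.1, der38, der6, ← bitProd_xor bList_sq bList_comm]
  rfl

theorem line76 : sig [67] * sig [20, 34] = sig [6, 35] := by
  have h := sig_line_shift tline0 [6, 43, 66, 81, 108, 110, 118]
  rwa [(sig_congr cList_comm (g := [67]) (g' := [6, 43, 66, 81, 108, 110, 118]) [1, 0, 3, 3, 3, 0, 1, 2, 1, 1, 0, 3, 0] (by decide +kernel)), (sig_congr cList_comm (g := [20, 34]) (g' := ([6, 43, 66, 81, 108, 110, 118] ++ [10])) [0, 1, 1, 0, 3, 2, 3, 3, 0, 1, 2] (by decide +kernel)),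
    (sig_congr cList_comm (g := [6, 35]) (g' := ([6, 43, 66, 81, 108, 110, 118] ++ [21, 35, 65])) [3, 0, 3, 0, 3, 3, 3, 3, 3, 0] (by decide +kernel))] at h

theorem rel76 : sig [20, 34] * sig [67] = sig [6, 35] ∧ sig [67] * sig [6, 35] = sig [20, 34] ∧
    sig [6, 35] * sig [67] = sig [20, 34] ∧ sig [20, 34] * sig [6, 35] = sig [67] ∧ sig [6, 35] * sig [20, 34] = sig [67] :=
  triple (sig_sq s_sq _) (sig_sq s_sq _) (sig_sq s_sq _) line76

theorem der40 : sig [6, 35] = bitProd bList 245 := by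
  rw [← line76, der12, der39, ← bitProd_xor bList_sq bList_comm]
  rfl

theorem der41 : sig [8, 47, 69, 87, 94, 118] = bitProd bList 516 := by
  rw [← rel25.2.2.2.1, der3, der2, ← bitProd_xor bList_sq bList_comm]
  rfl

theorem line77 : sig [6] * sig [14, 34, 61] = sig [8, 47, 69, 87, 94, 118] := by
  have h := sig_line_shift tline0 [8, 64, 87, 94, 118]
  rwa [(sig_congr cList_comm (g := [6]) (g' := [8, 64, 87, 94, 118]) [3, 3, 0, 1, 1, 1, 2, 3, 0, 1, 2, 3] (by decide +kernel)), (sig_congr cList_comm (g := [14, 34, 61]) (g' := ([8, 64, 87, 94, 118] ++ [10])) [1, 0, 3, 0, 3, 2, 1, 0, 3, 3, 3, 0] (by decide +kernel)),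
    (sig_congr cList_comm (g := [8, 47, 69, 87, 94, 118]) (g' := ([8, 64, 87, 94, 118] ++ [21, 35, 65])) [3, 2, 1, 1, 0, 3, 3, 3, 3, 0, 1, 0] (by decide +kernel))] at h

theorem rel77 : sig [14, 34, 61] * sig [6] = sig [8, 47, 69, 87, 94, 118] ∧ sig [6] * sig [8, 47, 69, 87, 94, 118] = sig [14, 34, 61] ∧
    sig [8, 47, 69, 87, 94, 118] * sig [6] = sig [14, 34, 61] ∧ sig [14, 34, 61] * sig [8, 47, 69, 87, 94, 118] = sig [6] ∧ sig [8, 47, 69, 87, 94, 118] * sig [14, 34, 61] = sig [6] :=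
  triple (sig_sq s_sq _) (sig_sq s_sq _) (sig_sq s_sq _) line77

theorem der42 : sig [14, 34, 61] = bitProd bList 524 := by
  rw [← rel77.2.1, der9, der41, ← bitProd_xor bList_sq bList_comm]
  rfl

theorem line78 : sig [50] * sig [14, 34, 61] = sig [22, 37, 50, 73, 91, 109, 111] := by
  have h := sig_line_shift tline0 [26, 43, 66, 102, 112]
  rwa [(sig_congr cList_comm (g := [50]) (g' := [26, 43, 66, 102, 112]) [1, 1, 1, 1, 0, 3, 3, 2, 3, 3] (by decide +kernel)), (sig_congr cList_comm (g := [14, 34, 61]) (g' := ([26, 43, 66, 102, 112] ++ [10])) [3, 0, 3, 0, 3, 3, 0, 1, 1, 0, 3, 3, 0] (by decide +kernel)),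
    (sig_congr cList_comm (g := [22, 37, 50, 73, 91, 109, 111]) (g' := ([26, 43, 66, 102, 112] ++ [21, 35, 65])) [1, 1, 1, 1, 0, 1, 1, 0, 3, 2, 3, 0, 1] (by decide +kernel))] at h

theorem rel78 : sig [14, 34, 61] * sig [50] = sig [22, 37, 50, 73, 91, 109, 111] ∧ sig [50] * sig [22, 37, 50, 73, 91, 109, 111] = sig [14, 34, 61] ∧
    sig [22, 37, 50, 73, 91, 109, 111] * sig [50] = sig [14, 34, 61] ∧ sig [14, 34, 61] * sig [22, 37, 50, 73, 91, 109, 111] = sig [50] ∧ sig [22, 37, 50, 73, 91, 109, 111] * sig [14, 34, 61] = sig [50] :=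
  triple (sig_sq s_sq _) (sig_sq s_sq _) (sig_sq s_sq _) line78

theorem der43 : sig [22, 37, 50, 73, 91, 109, 111] = bitProd bList 540 := by
  rw [← line78, der13, der42, ← bitProd_xor bList_sq bList_comm]
  rfl

theorem line79 : sig [24, 27, 69, 87] * sig [67] = sig [22, 37, 50, 73, 91, 109, 111] := by
  have h := sig_line_shift tline0 [25, 42, 68, 83, 96, 110, 125]
  rwa [(sig_congr cList_comm (g := [24, 27, 69, 87]) (g' := [25, 42, 68, 83, 96, 110, 125]) [1, 0, 1, 2, 1, 1, 2, 1, 1, 0, 1, 1] (by decide +kernel)), (sig_congr cList_comm (g := [67]) (g' := ([25, 42, 68, 83, 96, 110, 125] ++ [10])) [3, 3, 0, 1, 0, 3, 2, 1, 2, 1, 2] (by decide +kernel)),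
    (sig_congr cList_comm (g := [22, 37, 50, 73, 91, 109, 111]) (g' := ([25, 42, 68, 83, 96, 110, 125] ++ [21, 35, 65])) [1, 0, 1, 2, 3, 2, 1, 1, 0, 1, 0] (by decide +kernel))] at h

theorem rel79 : sig [67] * sig [24, 27, 69, 87] = sig [22, 37, 50, 73, 91, 109, 111] ∧ sig [24, 27, 69, 87] * sig [22, 37, 50, 73, 91, 109, 111] = sig [67] ∧
    sig [22, 37, 50, 73, 91, 109, 111] * sig [24, 27, 69, 87] = sig [67] ∧ sig [67] * sig [22, 37, 50, 73, 91, 109, 111] = sig [24, 27, 69, 87] ∧ sig [22, 37, 50, 73, 91, 109, 111] * sig [67] = sig [24, 27, 69, 87] :=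
  triple (sig_sq s_sq _) (sig_sq s_sq _) (sig_sq s_sq _) line79

theorem der44 : sig [24, 27, 69, 87] = bitProd bList 604 := by
  rw [← rel79.2.2.2.1, der12, der43, ← bitProd_xor bList_sq bList_comm]
  rfl

theorem line80 : sig [24, 27, 69, 87] * sig [7, 50] = sig [24, 34] := by
  have h := sig_line_shift tline0 [6, 40, 50, 74, 100, 122]
  rwa [(sig_congr cList_comm (g := [24, 27, 69, 87]) (g' := [6, 40, 50, 74, 100, 122]) [0, 1, 1, 1, 1, 2, 3, 3, 2, 1, 0] (by decide +kernel)), (sig_congr cList_comm (g := [7, 50]) (g' := ([6, 40, 50, 74, 100, 122] ++ [10])) [2, 3, 3, 3, 3, 3, 0] (by decide +kernel)),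
    (sig_congr cList_comm (g := [24, 34]) (g' := ([6, 40, 50, 74, 100, 122] ++ [21, 35, 65])) [2, 1, 1, 2, 3, 3, 2, 1, 0, 1, 0] (by decide +kernel))] at h

theorem rel80 : sig [7, 50] * sig [24, 27, 69, 87] = sig [24, 34] ∧ sig [24, 27, 69, 87] * sig [24, 34] = sig [7, 50] ∧
    sig [24, 34] * sig [24, 27, 69, 87] = sig [7, 50] ∧ sig [7, 50] * sig [24, 34] = sig [24, 27, 69, 87] ∧ sig [24, 34] * sig [7, 50] = sig [24, 27, 69, 87] :=
  triple (sig_sq s_sq _) (sig_sq s_sq _) (sig_sq s_sq _) line80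

theorem der45 : sig [24, 34] = bitProd bList 732 := by
  rw [← line80, der44, der8, ← bitProd_xor bList_sq bList_comm]
  rfl

theorem s_mem : sEl ∈ Set.range (bitProd bList) := by
  have h : sig [] = sEl := by
    rw [show ([] : List ℕ) = [] from rfl, sig, Base.W_nil, one_mul, inv_one, mul_one]
  exact ⟨_, (der0).symm.trans h⟩

theorem conj_x0 : hCtx.W [0] * sig [] * (hCtx.W [0])⁻¹ ∈ Set.range (bitProd bList) := by
  rw [← sig_shift, sig_congr cList_comm (g := [10]) [] (by decide +kernel), der1]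
  exact ⟨_, rfl⟩

theorem conj_x1 : hCtx.W [0] * sig [10] * (hCtx.W [0])⁻¹ ∈ Set.range (bitProd bList) := by
  rw [← sig_shift, sig_congr cList_comm (g := []) [] (by decide +kernel), der0]
  exact ⟨_, rfl⟩

theorem conj_x2 : hCtx.W [0] * sig [17] * (hCtx.W [0])⁻¹ ∈ Set.range (bitProd bList) := by
  rw [← sig_shift, sig_congr cList_comm (g := [26]) [] (by decide +kernel), der7]
  exact ⟨_, rfl⟩

theorem conj_x3 : hCtx.W [0] * sig [6] * (hCtx.W [0])⁻¹ ∈ Set.range (bitProd bList) := by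
  rw [← sig_shift, sig_congr cList_comm (g := [12]) [] (by decide +kernel), der11]
  exact ⟨_, rfl⟩

theorem conj_x4 : hCtx.W [0] * sig [50] * (hCtx.W [0])⁻¹ ∈ Set.range (bitProd bList) := by
  rw [← sig_shift, sig_congr cList_comm (g := [10, 50]) [] (by decide +kernel), der17]
  exact ⟨_, rfl⟩

theorem conj_x5 : hCtx.W [0] * sig [35] * (hCtx.W [0])⁻¹ ∈ Set.range (bitProd bList) := by
  rw [← sig_shift, sig_congr cList_comm (g := [10, 35]) [] (by decide +kernel), der18]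
  exact ⟨_, rfl⟩

theorem conj_x6 : hCtx.W [0] * sig [67] * (hCtx.W [0])⁻¹ ∈ Set.range (bitProd bList) := by
  rw [← sig_shift, sig_congr cList_comm (g := [10, 67]) [] (by decide +kernel), der22]
  exact ⟨_, rfl⟩

theorem conj_x7 : hCtx.W [0] * sig [7, 50] * (hCtx.W [0])⁻¹ ∈ Set.range (bitProd bList) := by
  rw [← sig_shift, sig_congr cList_comm (g := [24, 50]) [] (by decide +kernel), der24]
  exact ⟨_, rfl⟩

theorem conj_x8 : hCtx.W [0] * sig [10, 35] * (hCtx.W [0])⁻¹ ∈ Set.range (bitProd bList) := by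
  rw [← sig_shift, sig_congr cList_comm (g := [35]) [] (by decide +kernel), der6]
  exact ⟨_, rfl⟩

theorem conj_x9 : hCtx.W [0] * sig [17, 35] * (hCtx.W [0])⁻¹ ∈ Set.range (bitProd bList) := by
  rw [← sig_shift, sig_congr cList_comm (g := [26, 35]) [] (by decide +kernel), der28]
  exact ⟨_, rfl⟩

theorem conj_x10 : hCtx.W [0] * sig [22, 34] * (hCtx.W [0])⁻¹ ∈ Set.range (bitProd bList) := by
  rw [← sig_shift, sig_congr cList_comm (g := [4, 34]) [] (by decide +kernel), der30]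
  exact ⟨_, rfl⟩

theorem conj_x : ∀ b ∈ bList, hCtx.W [0] * b * (hCtx.W [0])⁻¹ ∈ Set.range (bitProd bList) := by
  simp only [bList, List.forall_mem_cons, List.not_mem_nil, IsEmpty.forall_iff, implies_true, and_true]
  exact ⟨conj_x0, conj_x1, conj_x2, conj_x3, conj_x4, conj_x5, conj_x6, conj_x7, conj_x8, conj_x9, conj_x10⟩

theorem conj_y0 : hCtx.W [2] * sig [] * (hCtx.W [2])⁻¹ ∈ Set.range (bitProd bList) := by
  rw [← sig_shift, sig_congr cList_comm (g := []) [0, 3, 3, 2, 3, 3, 0, 3, 3, 0, 1, 2, 3] (by decide +kernel), der0]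
  exact ⟨_, rfl⟩

theorem conj_y1 : hCtx.W [2] * sig [10] * (hCtx.W [2])⁻¹ ∈ Set.range (bitProd bList) := by
  rw [← sig_shift, sig_congr cList_comm (g := [17]) [] (by decide +kernel), der2]
  exact ⟨_, rfl⟩

theorem conj_y2 : hCtx.W [2] * sig [17] * (hCtx.W [2])⁻¹ ∈ Set.range (bitProd bList) := by
  rw [← sig_shift, sig_congr cList_comm (g := [6]) [] (by decide +kernel), der9]
  exact ⟨_, rfl⟩

theorem conj_y3 : hCtx.W [2] * sig [6] * (hCtx.W [2])⁻¹ ∈ Set.range (bitProd bList) := by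
  rw [← sig_shift, sig_congr cList_comm (g := [10]) [] (by decide +kernel), der1]
  exact ⟨_, rfl⟩

theorem conj_y4 : hCtx.W [2] * sig [50] * (hCtx.W [2])⁻¹ ∈ Set.range (bitProd bList) := by
  rw [← sig_shift, sig_congr cList_comm (g := [7, 50]) [] (by decide +kernel), der8]
  exact ⟨_, rfl⟩

theorem conj_y5 : hCtx.W [2] * sig [35] * (hCtx.W [2])⁻¹ ∈ Set.range (bitProd bList) := by
  rw [← sig_shift, sig_congr cList_comm (g := [7, 35]) [] (by decide +kernel), der31]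
  exact ⟨_, rfl⟩

theorem conj_y6 : hCtx.W [2] * sig [67] * (hCtx.W [2])⁻¹ ∈ Set.range (bitProd bList) := by
  rw [← sig_shift, sig_congr cList_comm (g := [7, 67]) [] (by decide +kernel), der32]
  exact ⟨_, rfl⟩

theorem conj_y7 : hCtx.W [2] * sig [7, 50] * (hCtx.W [2])⁻¹ ∈ Set.range (bitProd bList) := by
  rw [← sig_shift, sig_congr cList_comm (g := [25, 50]) [] (by decide +kernel), der36]
  exact ⟨_, rfl⟩

theorem conj_y8 : hCtx.W [2] * sig [10, 35] * (hCtx.W [2])⁻¹ ∈ Set.range (bitProd bList) := by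
  rw [← sig_shift, sig_congr cList_comm (g := [17, 35]) [] (by decide +kernel), der3]
  exact ⟨_, rfl⟩

theorem conj_y9 : hCtx.W [2] * sig [17, 35] * (hCtx.W [2])⁻¹ ∈ Set.range (bitProd bList) := by
  rw [← sig_shift, sig_congr cList_comm (g := [6, 35]) [] (by decide +kernel), der40]
  exact ⟨_, rfl⟩

theorem conj_y10 : hCtx.W [2] * sig [22, 34] * (hCtx.W [2])⁻¹ ∈ Set.range (bitProd bList) := by
  rw [← sig_shift, sig_congr cList_comm (g := [24, 34]) [] (by decide +kernel), der45]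
  exact ⟨_, rfl⟩

theorem conj_y : ∀ b ∈ bList, hCtx.W [2] * b * (hCtx.W [2])⁻¹ ∈ Set.range (bitProd bList) := by
  simp only [bList, List.forall_mem_cons, List.not_mem_nil, IsEmpty.forall_iff, implies_true, and_true]
  exact ⟨conj_y0, conj_y1, conj_y2, conj_y3, conj_y4, conj_y5, conj_y6, conj_y7, conj_y8, conj_y9, conj_y10⟩

end CfsgLib.J4Kp
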