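import Cfsg.Agent.Lib.J4Kp.Rules

/-!
# The vertices (generated)
-/

set_option autoImplicit false
set_option maxRecDepth 100000
set_option linter.style.longLine false

namespace CfsgLib.J4Kp

open CfsgLib.J4Index (wv wv_flat relA relB relC relU relV)

variable {G X : Type} [Group G] [MulAction G X] (C : Base G X)

/-- Vertex 0. -/
abbrev v0 : X := C.p0

/-- Vertex 1. -/
def v1 : X := C.t • C.W [20, 50] • v0 C

/-- Vertex 2. -/
def v2 : X := C.t • C.W [43, 66] • v1 C

/-- Vertex 3. -/
def v3 : X := C.t • C.W [43, 66] • v2 C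

/-- Vertex 4. -/
def v4 : X := C.t • C.W [14, 30, 66, 74, 96, 109, 117] • v3 C

/-- Vertex 5. -/
def v5 : X := C.t • C.W [43, 66] • v4 C

/-- Vertex 10. -/
def v10 : X := C.t • C.W [16, 32, 73, 101, 113] • v2 C

/-- Vertex 15. -/
def v15 : X := C.t • C.W [24, 40, 68, 81, 91, 112] • v3 C

/-- Vertex 16. -/
def v16 : X := C.t • C.W [9, 43, 63, 74, 108, 109, 122] • v3 C

/-- Vertex 17. -/
def v17 : X := C.t • C.W [12, 48, 65, 82, 101, 109, 118] • v1 C

/-- Vertex 18. -/
def v18 : X := C.t • C.W [24, 34, 53, 89, 112] • v1 C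

/-- Vertex 19. -/
def v19 : X := C.t • C.W [13, 36, 65, 88, 103, 109, 114] • v2 C

/-- Vertex 22. -/
def v22 : X := C.t • C.W [23, 40, 60, 76, 102, 115] • v2 C

/-- Vertex 23. -/
def v23 : X := C.t • C.W [7, 35, 67, 79, 101, 109, 118] • v15 C

/-- Vertex 27. -/
def v27 : X := C.t • C.W [26, 45, 60, 84, 105, 110, 115] • v15 C

/-- Vertex 28. -/
def v28 : X := C.t • C.W [4, 30, 49, 86, 90, 121] • v15 C

/-- Vertex 29. -/
def v29 : X := C.t • C.W [42, 67, 80, 94, 110, 113] • v15 C

/-- Vertex 30. -/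
def v30 : X := C.t • C.W [12, 48, 52, 71, 95, 111] • v15 C

/-- Vertex 31. -/
def v31 : X := C.t • C.W [25, 35, 66, 89, 110, 111] • v28 C

/-- Vertex 32. -/
def v32 : X := C.t • C.W [5, 43, 49, 75, 96, 109, 125] • v28 C

/-- Vertex 33. -/
def v33 : X := C.t • C.W [22, 32, 61, 96, 110, 117] • v15 C

/-- Vertex 35. -/
def v35 : X := C.t • C.W [18, 43, 55, 102, 117] • v15 C

theorem eq_relA : C.W [12, 35, 50, 83] = C.W relA := C.W_same (by decide +kernel)

theorem eq_relB : C.W [8, 30, 65, 84, 94, 117] = C.W relB := C.W_same (by decide +kernel)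

theorem eq_relC : C.W [26, 38, 54, 89, 90, 113] = C.W relC := C.W_same (by decide +kernel)

theorem eq_relU : C.W [20, 50] = C.W relU := C.W_same (by decide +kernel)

theorem eq_relV : C.W [11, 66] = C.W relV := C.W_same (by decide +kernel)

theorem relLoop0 : C.prodOps [none, some [12, 35, 50, 83], none, some [12, 35, 50, 83], none, some [12, 35, 50, 83]] = 1 := by
  have h : (C.W relA * C.t) ^ 3 = 1 := C.relOne
  rw [← eq_relA C] at h
  simpa [Base.prodOps, pow_succ, mul_assoc] using h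

theorem relLoop2 : C.prodOps [none, some [26, 38, 54, 89, 90, 113], none, some [8, 30, 65, 84, 94, 117], none, some [26, 38, 54, 89, 90, 113], none, some [8, 30, 65, 84, 94, 117]] = 1 := by
  have h : (C.W relB * C.t * C.W relC * C.t) ^ 2 = 1 := C.relTwo
  rw [← eq_relB C, ← eq_relC C] at h
  simpa [Base.prodOps, pow_succ, mul_assoc] using h

theorem relLoop1 : C.prodOps [none, some [8, 30, 65, 84, 94, 117], none, some [26, 38, 54, 89, 90, 113], none, some [8, 30, 65, 84, 94, 117], none, some [26, 38, 54, 89, 90, 113]] = 1 := by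
  have h : (C.W relB * C.t * C.W relC * C.t) ^ 2 = 1 := C.relTwo
  rw [← eq_relB C, ← eq_relC C] at h
  have key : ∀ u v : G, (u * v) ^ 2 = 1 → (v * u) ^ 2 = 1 := fun u v e => by
    calc (v * u) ^ 2 = v * (u * v) ^ 2 * v⁻¹ := by rw [pow_two, pow_two]; group
      _ = 1 := by rw [e, mul_one, mul_inv_cancel]
  have h2 := key _ _ (show (C.W [8, 30, 65, 84, 94, 117] * C.t * (C.W [26, 38, 54, 89, 90, 113] * C.t)) ^ 2 = 1 by rwa [← mul_assoc])
  simpa [Base.prodOps, pow_succ, mul_assoc] using h2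

/-- All words fix the first vertex. -/
theorem rootAll (u : List ℕ) : C.S (v0 C) u := by
  have h : C.W u ∈ MulAction.stabilizer G C.p0 := by
    rw [Base.W, wv_flat]
    refine CfsgLib.J4P.evalW_mem _ fun g _ => ?_
    have := CfsgLib.J4P.eltL_mem_closure [C.a, C.b] g
    refine (Subgroup.closure_le _).2 ?_ this
    intro m hm
    simp only [Set.mem_setOf_eq, List.mem_cons, List.not_mem_nil, or_false] at hm
    rcases hm with rfl | rfl
    exacts [C.fix_a, C.fix_b]
  exact h

end CfsgLib.J4Kp
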